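import Mathlib
import Cfsg.Agent.Lib.Helper44.EichlerCenter

set_option autoImplicit false
set_option linter.unusedSimpArgs false
set_option linter.unusedVariables false
set_option linter.unusedSectionVars false

/-!
# Abstract models of `Ω(Q)`: a group acting faithfully by isometries, containing and generated by
the Eichler (Siegel) transformations.
-/

namespace Cfsg.Agent.Lib.Helper36.AutO

open Cfsg.Agent.Lib.Helper13 hiding isoGroup mem_isoGroup
open Cfsg.Agent.Lib.Helper36 Cfsg.Agent.Lib.Helper44 Module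

section
variable {F V : Type*} [Field F] [AddCommGroup V] [Module F V]

local notation "pol" => QuadraticMap.polar

/-- A model of `Ω(Q)`. -/
structure OModel (Q : QuadraticForm F V) (Γ : Type*) [Group Γ] where
  ρ : Γ →* (V ≃ₗ[F] V)
  inj : Function.Injective ρ
  isom : ∀ (x : Γ) (z : V), Q (ρ x z) = Q z
  eich_mem : ∀ p w : V, Q p = 0 → pol (⇑Q) p w = 0 → ∃ x : Γ, ∀ z, ρ x z = siegelLin Q p w z
  gen : Subgroup.closure {x : Γ | ∃ p w : V, Q p = 0 ∧ pol (⇑Q) p w = 0 ∧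
      ∀ z, ρ x z = siegelLin Q p w z} = ⊤

variable {Q : QuadraticForm F V} {Γ : Type*} [Group Γ] (M : OModel Q Γ)

namespace OModel

theorem ext_apply {x y : Γ} (h : ∀ z, M.ρ x z = M.ρ y z) : x = y := M.inj (LinearEquiv.ext h)

theorem mul_apply (x y : Γ) (z : V) : M.ρ (x * y) z = M.ρ x (M.ρ y z) := by
  rw [map_mul]; rfl

theorem one_apply (z : V) : M.ρ 1 z = z := by
  rw [map_one]; rfl

theorem inv_apply (x : Γ) (z : V) : M.ρ x (M.ρ x⁻¹ z) = z := by
  rw [← mul_apply, mul_inv_cancel, one_apply]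

theorem inv_apply' (x : Γ) (z : V) : M.ρ x⁻¹ (M.ρ x z) = z := by
  rw [← mul_apply, inv_mul_cancel, one_apply]

theorem pol_eq (x : Γ) (u v : V) : pol (⇑Q) (M.ρ x u) (M.ρ x v) = pol (⇑Q) u v :=
  polar_isoGroup Q (M.ρ x) (M.isom x) u v

theorem pol_inv (x : Γ) (u v : V) : pol (⇑Q) u (M.ρ x⁻¹ v) = pol (⇑Q) (M.ρ x u) v := by
  rw [← M.pol_eq x u, inv_apply]

theorem pow_apply_fix (x : Γ) (z : V) (h : M.ρ x z = z) (k : ℕ) : M.ρ (x ^ k) z = z := by
  induction k with
  | zero => rw [pow_zero, one_apply]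
  | succ k ih => rw [pow_succ, mul_apply, h, ih]

/-- the Eichler element `E(p,w)` of the model (junk value `1` if the data are not admissible) -/
noncomputable def E (p w : V) : Γ := by
  classical
  exact if h : Q p = 0 ∧ pol (⇑Q) p w = 0 then (M.eich_mem p w h.1 h.2).choose else 1

theorem E_apply (p w : V) (hp : Q p = 0) (hpw : pol (⇑Q) p w = 0) (z : V) :
    M.ρ (M.E p w) z = siegelLin Q p w z := by
  unfold E
  rw [dif_pos ⟨hp, hpw⟩]
  exact (M.eich_mem p w hp hpw).choose_spec z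

/-- `x` acts as the Eichler transformation `E(p,w)` -/
def IsE (x : Γ) (p w : V) : Prop := ∀ z, M.ρ x z = siegelLin Q p w z

theorem isE_E (p w : V) (hp : Q p = 0) (hpw : pol (⇑Q) p w = 0) : M.IsE (M.E p w) p w :=
  M.E_apply p w hp hpw

theorem eq_E_of_isE {x : Γ} {p w : V} (h : M.IsE x p w) (hp : Q p = 0)
    (hpw : pol (⇑Q) p w = 0) : x = M.E p w :=
  M.ext_apply (fun z => by rw [h z, M.E_apply p w hp hpw])

theorem conj_siegel (x : Γ) (p w z : V) :
    M.ρ x (siegelLin Q p w (M.ρ x⁻¹ z)) = siegelLin Q (M.ρ x p) (M.ρ x w) z := by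
  rw [siegelLin_apply, siegelLin_apply, map_sub, map_add, map_smul, map_smul, inv_apply,
    pol_inv, pol_inv, M.isom]

theorem conj_E (x : Γ) (p w : V) (hp : Q p = 0) (hpw : pol (⇑Q) p w = 0) :
    x * M.E p w * x⁻¹ = M.E (M.ρ x p) (M.ρ x w) := by
  apply M.ext_apply
  intro z
  rw [mul_apply, mul_apply, M.E_apply p w hp hpw,
    M.E_apply _ _ (by rw [M.isom, hp]) (by rw [M.pol_eq, hpw]), conj_siegel]

theorem E_add (p w₁ w₂ : V) (hp : Q p = 0) (h1 : pol (⇑Q) p w₁ = 0) (h2 : pol (⇑Q) p w₂ = 0) :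
    M.E p (w₁ + w₂) = M.E p w₁ * M.E p w₂ := by
  apply M.ext_apply
  intro z
  rw [mul_apply, M.E_apply p w₁ hp h1, M.E_apply p w₂ hp h2,
    M.E_apply p _ hp (by rw [QuadraticMap.polar_add_right, h1, h2, add_zero]),
    siegel_add Q p w₁ w₂ hp h1 h2]

theorem E_zero (p : V) (hp : Q p = 0) : M.E p 0 = 1 := by
  apply M.ext_apply
  intro z
  rw [M.E_apply p 0 hp (by rw [QuadraticMap.polar_zero_right]), one_apply,
    siegelLin_zero Q p z hp]

theorem E_neg (p w : V) (hp : Q p = 0) (hpw : pol (⇑Q) p w = 0) :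
    M.E p (-w) = (M.E p w)⁻¹ := by
  have hpw' : pol (⇑Q) p (-w) = 0 := by rw [QuadraticMap.polar_neg_right, hpw, neg_zero]
  rw [eq_inv_iff_mul_eq_one, ← M.E_add p (-w) w hp hpw' hpw, neg_add_cancel, M.E_zero p hp]

theorem E_comm (p w₁ w₂ : V) (hp : Q p = 0) (h1 : pol (⇑Q) p w₁ = 0) (h2 : pol (⇑Q) p w₂ = 0) :
    M.E p w₁ * M.E p w₂ = M.E p w₂ * M.E p w₁ := by
  rw [← M.E_add p w₁ w₂ hp h1 h2, ← M.E_add p w₂ w₁ hp h2 h1, add_comm]

theorem E_smul_left (p w : V) (c : F) (hp : Q p = 0) (hpw : pol (⇑Q) p w = 0) :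
    M.E (c • p) w = M.E p (c • w) := by
  apply M.ext_apply
  intro z
  rw [M.E_apply _ _ (by rw [QuadraticMap.map_smul, hp, smul_zero])
      (by rw [QuadraticMap.polar_smul_left, hpw, smul_zero]),
    M.E_apply _ _ hp (by rw [QuadraticMap.polar_smul_right, hpw, smul_zero]),
    siegelLin_smul_left]

theorem E_add_smul (p w : V) (c : F) (hp : Q p = 0) (hpw : pol (⇑Q) p w = 0) :
    M.E p (w + c • p) = M.E p w := by
  have hpp : pol (⇑Q) p (c • p) = 0 := by
    rw [QuadraticMap.polar_smul_right, pol_self_of_sing Q p hp, smul_zero]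
  rw [M.E_add p w (c • p) hp hpw hpp]
  have : M.E p (c • p) = 1 := by
    apply M.ext_apply
    intro z
    rw [M.E_apply p _ hp hpp, one_apply, siegel_smul_self Q p c hp]
  rw [this, mul_one]

theorem E_nsmul (p w : V) (hp : Q p = 0) (hpw : pol (⇑Q) p w = 0) (k : ℕ) :
    M.E p ((k : F) • w) = (M.E p w) ^ k := by
  induction k with
  | zero => rw [Nat.cast_zero, zero_smul, pow_zero, M.E_zero p hp]
  | succ k ih =>
    rw [Nat.cast_succ, add_smul, one_smul, pow_succ, ← ih]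
    exact M.E_add p ((k : F) • w) w hp (by rw [QuadraticMap.polar_smul_right, hpw, smul_zero]) hpw

theorem E_pow_char (p w : V) (hp : Q p = 0) (hpw : pol (⇑Q) p w = 0) (ch : ℕ) [CharP F ch] :
    (M.E p w) ^ ch = 1 := by
  rw [← M.E_nsmul p w hp hpw, CharP.cast_eq_zero, zero_smul, M.E_zero p hp]

end OModel

end

end Cfsg.Agent.Lib.Helper36.AutO
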