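import Mathlib
import Cfsg.Agent.Lib.Helper36.AutO.Model

set_option autoImplicit false
set_option linter.unusedSimpArgs false
set_option linter.unusedVariables false
set_option linter.unusedSectionVars false

/-!
# Models of `Ω(Q)`: unipotent radicals `U p`, root groups `X p w`, the centre
-/

namespace Cfsg.Agent.Lib.Helper36.AutO

open Cfsg.Agent.Lib.Helper13 hiding isoGroup mem_isoGroup
open Cfsg.Agent.Lib.Helper36 Cfsg.Agent.Lib.Helper44 Module

section
variable {F V : Type*} [Field F] [AddCommGroup V] [Module F V]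

local notation "pol" => QuadraticMap.polar

variable {Q : QuadraticForm F V} {Γ : Type*} [Group Γ] (M : OModel Q Γ)

namespace OModel

theorem E_eq_one_iff (hQ : (QuadraticMap.polarBilin Q).Nondegenerate) (p w : V) (hp0 : p ≠ 0)
    (hp : Q p = 0) (hpw : pol (⇑Q) p w = 0) : M.E p w = 1 ↔ ∃ c : F, w = c • p := by
  constructor
  · intro h
    obtain ⟨z, hz⟩ := Cfsg.Agent.S0795.exists_dual Q hQ p hp0
    have h1 := M.E_apply p w hp hpw z
    rw [h, M.one_apply, siegelLin_apply, hz, mul_one, one_smul] at h1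
    refine ⟨pol (⇑Q) w z - Q w, ?_⟩
    have h2 : z + (pol (⇑Q) w z - Q w) • p - w = z + 0 := by rw [add_zero]; exact h1.symm
    have h3 : (pol (⇑Q) w z - Q w) • p - w = 0 := by
      apply add_left_cancel (a := z)
      rw [← add_sub_assoc]; exact h2
    exact (sub_eq_zero.1 h3).symm
  · rintro ⟨c, rfl⟩
    have := M.E_add_smul p 0 c hp (by rw [QuadraticMap.polar_zero_right])
    rw [zero_add] at this
    rw [this, M.E_zero p hp]

theorem E_eq_iff (hQ : (QuadraticMap.polarBilin Q).Nondegenerate) (p w w' : V) (hp0 : p ≠ 0)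
    (hp : Q p = 0) (hpw : pol (⇑Q) p w = 0) (hpw' : pol (⇑Q) p w' = 0) :
    M.E p w = M.E p w' ↔ ∃ c : F, w = w' + c • p := by
  have hneg : pol (⇑Q) p (-w') = 0 := by rw [QuadraticMap.polar_neg_right, hpw', neg_zero]
  have h1 : M.E p w = M.E p w' ↔ M.E p (w + -w') = 1 := by
    rw [M.E_add p w (-w') hp hpw hneg, M.E_neg p w' hp hpw', mul_inv_eq_one]
  rw [h1, M.E_eq_one_iff hQ p _ hp0 hp
    (by rw [QuadraticMap.polar_add_right, hpw, hneg, add_zero])]
  constructor
  · rintro ⟨c, hc⟩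
    exact ⟨c, by rw [← hc]; abel⟩
  · rintro ⟨c, hc⟩
    exact ⟨c, by rw [hc]; abel⟩

/-- the unipotent radical at the singular vector `p` -/
def U (p : V) : Subgroup Γ := Subgroup.closure {x | ∃ u, pol (⇑Q) p u = 0 ∧ x = M.E p u}

theorem mem_U_iff (p : V) (hp : Q p = 0) (x : Γ) :
    x ∈ M.U p ↔ ∃ u, pol (⇑Q) p u = 0 ∧ x = M.E p u := by
  constructor
  · intro h
    unfold U at h
    induction h using Subgroup.closure_induction with
    | mem x hx => exact hx
    | one => exact ⟨0, by rw [QuadraticMap.polar_zero_right], (M.E_zero p hp).symm⟩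
    | mul a b _ _ ha hb =>
      obtain ⟨u, hu, rfl⟩ := ha
      obtain ⟨v, hv, rfl⟩ := hb
      exact ⟨u + v, by rw [QuadraticMap.polar_add_right, hu, hv, add_zero],
        (M.E_add p u v hp hu hv).symm⟩
    | inv a _ ha =>
      obtain ⟨u, hu, rfl⟩ := ha
      exact ⟨-u, by rw [QuadraticMap.polar_neg_right, hu, neg_zero], (M.E_neg p u hp hu).symm⟩
  · intro h
    exact Subgroup.subset_closure h

theorem E_mem_U (p u : V) (hpu : pol (⇑Q) p u = 0) : M.E p u ∈ M.U p :=
  Subgroup.subset_closure ⟨u, hpu, rfl⟩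

/-- the long root group of the totally singular line spanned by `p, w` -/
def X (p w : V) : Subgroup Γ := Subgroup.closure {x | ∃ t : F, x = M.E p (t • w)}

theorem mem_X_iff (p w : V) (hp : Q p = 0) (hpw : pol (⇑Q) p w = 0) (x : Γ) :
    x ∈ M.X p w ↔ ∃ t : F, x = M.E p (t • w) := by
  have hs : ∀ t : F, pol (⇑Q) p (t • w) = 0 := fun t => by
    rw [QuadraticMap.polar_smul_right, hpw, smul_zero]
  constructor
  · intro h
    unfold X at h
    induction h using Subgroup.closure_induction with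
    | mem x hx => exact hx
    | one => exact ⟨0, by rw [zero_smul, M.E_zero p hp]⟩
    | mul a b _ _ ha hb =>
      obtain ⟨u, rfl⟩ := ha
      obtain ⟨v, rfl⟩ := hb
      exact ⟨u + v, by rw [add_smul, M.E_add p _ _ hp (hs u) (hs v)]⟩
    | inv a _ ha =>
      obtain ⟨u, rfl⟩ := ha
      exact ⟨-u, by rw [neg_smul, M.E_neg p _ hp (hs u)]⟩
  · intro h
    exact Subgroup.subset_closure h

theorem E_mem_X (p w : V) (t : F) : M.E p (t • w) ∈ M.X p w :=
  Subgroup.subset_closure ⟨t, rfl⟩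

theorem X_le_U (p w : V) (hpw : pol (⇑Q) p w = 0) : M.X p w ≤ M.U p := by
  unfold X
  rw [Subgroup.closure_le]
  rintro x ⟨t, rfl⟩
  exact M.E_mem_U p _ (by rw [QuadraticMap.polar_smul_right, hpw, smul_zero])

theorem conj_U (x : Γ) (p : V) (hp : Q p = 0) (y : Γ) (hy : y ∈ M.U p) :
    x * y * x⁻¹ ∈ M.U (M.ρ x p) := by
  obtain ⟨u, hu, rfl⟩ := (M.mem_U_iff p hp y).1 hy
  rw [M.conj_E x p u hp hu]
  exact M.E_mem_U _ _ (by rw [M.pol_eq, hu])

theorem U_comm (p : V) (hp : Q p = 0) (x y : Γ) (hx : x ∈ M.U p) (hy : y ∈ M.U p) :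
    x * y = y * x := by
  obtain ⟨u, hu, rfl⟩ := (M.mem_U_iff p hp x).1 hx
  obtain ⟨v, hv, rfl⟩ := (M.mem_U_iff p hp y).1 hy
  exact M.E_comm p u v hp hu hv

theorem U_smul (p : V) (c : F) (hc : c ≠ 0) (hp : Q p = 0) : M.U (c • p) = M.U p := by
  have hcp : Q (c • p) = 0 := by rw [QuadraticMap.map_smul, hp, smul_zero]
  ext x
  rw [M.mem_U_iff _ hcp, M.mem_U_iff _ hp]
  constructor
  · rintro ⟨u, hu, rfl⟩
    rw [QuadraticMap.polar_smul_left, smul_eq_mul] at hu
    have hu' : pol (⇑Q) p u = 0 := by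
      rcases mul_eq_zero.1 hu with h | h
      · exact absurd h hc
      · exact h
    exact ⟨c • u, by rw [QuadraticMap.polar_smul_right, hu', smul_zero],
      M.E_smul_left p u c hp hu'⟩
  · rintro ⟨u, hu, rfl⟩
    refine ⟨c⁻¹ • u, by rw [QuadraticMap.polar_smul_left, QuadraticMap.polar_smul_right, hu,
      smul_zero, smul_zero], ?_⟩
    rw [M.E_smul_left p _ c hp (by rw [QuadraticMap.polar_smul_right, hu, smul_zero]), smul_smul,
      mul_inv_cancel₀ hc, one_smul]

end OModel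

end

end Cfsg.Agent.Lib.Helper36.AutO
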