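import Mathlib
import Cfsg.Agent.Lib.Helper36.AutO.Model2

set_option autoImplicit false
set_option linter.unusedSimpArgs false
set_option linter.unusedVariables false
set_option linter.unusedSectionVars false

/-!
# Fixed vectors of `U p`, the structure lemma, the centre, and lifting of `p`-elements
-/

namespace Cfsg.Agent.Lib.Helper36.AutO

open Cfsg.Agent.Lib.Helper13 hiding isoGroup mem_isoGroup
open Cfsg.Agent.Lib.Helper36 Cfsg.Agent.Lib.Helper44 Module

section
variable {F V : Type*} [Field F] [AddCommGroup V] [Module F V]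

local notation "pol" => QuadraticMap.polar

theorem indep2 (p w : V) (hp0 : p ≠ 0) (hind : ∀ c : F, w ≠ c • p) (a b : F)
    (h : a • p + b • w = 0) : a = 0 ∧ b = 0 := by
  have hb : b = 0 := by
    by_contra hb
    apply hind (-(b⁻¹ * a))
    have h1 : b • w = -(a • p) := eq_neg_of_add_eq_zero_right h
    have h2 : w = b⁻¹ • (b • w) := by rw [smul_smul, inv_mul_cancel₀ hb, one_smul]
    rw [h2, h1, smul_neg, smul_smul, neg_smul]
  refine ⟨?_, hb⟩
  rw [hb, zero_smul, add_zero] at h
  rcases smul_eq_zero.1 h with h | h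
  · exact h
  · exact absurd h hp0

variable {Q : QuadraticForm F V} {Γ : Type*} [Group Γ] (M : OModel Q Γ)

/-- decomposition along a hyperbolic pair -/
theorem hyp_decomp (e f z : V) (he : Q e = 0) (hf : Q f = 0) (hef : pol (⇑Q) e f = 1) :
    pol (⇑Q) e (z - pol (⇑Q) f z • e - pol (⇑Q) e z • f) = 0 ∧
    pol (⇑Q) f (z - pol (⇑Q) f z • e - pol (⇑Q) e z • f) = 0 := by
  have hfe : pol (⇑Q) f e = 1 := by rw [QuadraticMap.polar_comm]; exact hef
  constructor
  · rw [QuadraticMap.polar_sub_right, QuadraticMap.polar_sub_right, QuadraticMap.polar_smul_right,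
      QuadraticMap.polar_smul_right, pol_self_of_sing Q e he, hef]
    simp
  · rw [QuadraticMap.polar_sub_right, QuadraticMap.polar_sub_right, QuadraticMap.polar_smul_right,
      QuadraticMap.polar_smul_right, pol_self_of_sing Q f hf, hfe]
    simp

namespace OModel

/-- the vectors fixed by `U p` are the multiples of `p` -/
theorem fixed_of_U [Finite F] [FiniteDimensional F V]
    (hQ : (QuadraticMap.polarBilin Q).Nondegenerate) (h5 : 5 ≤ finrank F V)
    (p : V) (hp0 : p ≠ 0) (hp : Q p = 0) (x : V)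
    (hx : ∀ y ∈ M.U p, M.ρ y x = x) : ∃ c : F, x = c • p := by
  obtain ⟨q, q', hpq, hpq', hQq, hQq', hqq'⟩ := Cfsg.Agent.S0795.exists_hyp_in_perp Q hQ h5 p hp0
  have key : ∀ u, pol (⇑Q) p u = 0 →
      (pol (⇑Q) u x - Q u * pol (⇑Q) p x) • p - pol (⇑Q) p x • u = 0 := by
    intro u hu
    have h1 := hx _ (M.E_mem_U p u hu)
    rw [M.E_apply p u hp hu, siegelLin_apply] at h1
    have h2 : x + ((pol (⇑Q) u x - Q u * pol (⇑Q) p x) • p - pol (⇑Q) p x • u) = x + 0 := by
      rw [add_zero, ← add_sub_assoc]; exact h1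
    exact add_left_cancel h2
  have hqind : ∀ c : F, q ≠ c • p := by
    intro c hc
    have : pol (⇑Q) q q' = 0 := by
      rw [hc, QuadraticMap.polar_smul_left, hpq', smul_zero]
    rw [hqq'] at this
    exact one_ne_zero this
  have hpx : pol (⇑Q) p x = 0 := by
    have h1 := key q hpq
    rw [sub_eq_add_neg, ← neg_smul] at h1
    have := (indep2 p q hp0 hqind _ _ h1).2
    exact neg_eq_zero.1 this
  by_contra hcon
  push Not at hcon
  have hx0 : ∀ c : F, x ≠ c • p := hcon
  obtain ⟨y, hy1, hy2⟩ := dual2 Q hQ p x hp0 hx0 0 1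
  have h1 := key y hy1
  rw [hpx, mul_zero, sub_zero, zero_smul, sub_zero, QuadraticMap.polar_comm, hy2, one_smul] at h1
  exact hp0 h1

/-- the structure lemma: an element fixing `p` and acting trivially on `p^⊥/p` is an Eichler
transformation `E(p,u)` -/
theorem eq_E_of_trivial (hQ : (QuadraticMap.polarBilin Q).Nondegenerate)
    (p : V) (hp0 : p ≠ 0) (hp : Q p = 0) (x : Γ) (hxp : M.ρ x p = p)
    (hx : ∀ v, pol (⇑Q) p v = 0 → ∃ c : F, M.ρ x v = v + c • p) :
    ∃ u, pol (⇑Q) p u = 0 ∧ x = M.E p u := by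
  obtain ⟨f, hf, hpf⟩ := exists_hyp_partner Q hQ p hp0 hp
  have hfp : pol (⇑Q) f p = 1 := by rw [QuadraticMap.polar_comm]; exact hpf
  have hgf : Q (M.ρ x f) = 0 := by rw [M.isom, hf]
  have hpgf : pol (⇑Q) p (M.ρ x f) = 1 := by
    conv_lhs => rw [← hxp]
    rw [M.pol_eq, hpf]
  set u := f - M.ρ x f with hu
  have hpu : pol (⇑Q) p u = 0 := by
    rw [hu, QuadraticMap.polar_sub_right, hpf, hpgf, sub_self]
  refine ⟨u, hpu, ?_⟩
  have hEf : M.ρ (M.E p u) f = M.ρ x f := by
    rw [M.E_apply p u hp hpu]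
    exact eich_trans_opp Q p f (M.ρ x f) hf hgf hpf hpgf
  -- y := E⁻¹ x
  set y := (M.E p u)⁻¹ * x with hy
  have hyf : M.ρ y f = f := by
    rw [hy, M.mul_apply, ← hEf, M.inv_apply']
  have hEp : M.ρ (M.E p u) p = p := by
    rw [M.E_apply p u hp hpu]; exact siegelLin_fix_left Q p u hp hpu
  have hyp : M.ρ y p = p := by
    rw [hy, M.mul_apply, hxp]
    have := M.inv_apply' (M.E p u) p
    rw [hEp] at this
    exact this
  have hyv : ∀ v, pol (⇑Q) p v = 0 → pol (⇑Q) f v = 0 → M.ρ y v = v := by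
    intro v hv hfv
    obtain ⟨c, hc⟩ := hx v hv
    have hneg : pol (⇑Q) p (-u) = 0 := by rw [QuadraticMap.polar_neg_right, hpu, neg_zero]
    have hneg' : pol (⇑Q) (-u) p = 0 := by rw [QuadraticMap.polar_comm]; exact hneg
    have h1 : M.ρ y v = v + (c + pol (⇑Q) (-u) v) • p := by
      rw [hy, M.mul_apply, hc, ← M.E_neg p u hp hpu, M.E_apply p (-u) hp hneg, siegelLin_apply]
      simp only [QuadraticMap.polar_add_right, QuadraticMap.polar_smul_right,
        pol_self_of_sing Q p hp, hv, hneg', smul_eq_mul, mul_zero, add_zero, sub_zero, zero_smul]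
      module
    have h2 : pol (⇑Q) f (M.ρ y v) = pol (⇑Q) f v := by
      conv_lhs => rw [← hyf]
      rw [M.pol_eq]
    rw [h1, QuadraticMap.polar_add_right, QuadraticMap.polar_smul_right, hfp, hfv, zero_add,
      smul_eq_mul, mul_one] at h2
    rw [h1, h2, zero_smul, add_zero]
  have hy1 : y = 1 := by
    apply M.ext_apply
    intro z
    rw [M.one_apply]
    obtain ⟨h1, h2⟩ := hyp_decomp p f z hp hf hpf
    have h3 := hyv _ h1 h2
    have h4 : z = (z - pol (⇑Q) f z • p - pol (⇑Q) p z • f) + pol (⇑Q) f z • p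
        + pol (⇑Q) p z • f := by abel
    rw [h4, map_add, map_add, h3, map_smul, map_smul, hyp, hyf]
  rw [hy, inv_mul_eq_one] at hy1
  exact hy1.symm

end OModel

end

end Cfsg.Agent.Lib.Helper36.AutO
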