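import Mathlib
import Cfsg.Agent.Lib.Helper36.AutO.Unip

set_option autoImplicit false
set_option linter.unusedSimpArgs false
set_option linter.unusedVariables false
set_option linter.unusedSectionVars false

/-!
# The centre of a model of `Ω(Q)` and lifting of `p`-elements from `Γ ⧸ Z(Γ)`
-/

namespace Cfsg.Agent.Lib.Helper36.AutO

open Cfsg.Agent.Lib.Helper13 hiding isoGroup mem_isoGroup
open Cfsg.Agent.Lib.Helper36 Cfsg.Agent.Lib.Helper44 Module

section
variable {F V : Type*} [Field F] [AddCommGroup V] [Module F V]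

local notation "pol" => QuadraticMap.polar

variable {Q : QuadraticForm F V} {Γ : Type*} [Group Γ] (M : OModel Q Γ)

namespace OModel

include M

theorem center_scalar [Finite F] [FiniteDimensional F V]
    (hQ : (QuadraticMap.polarBilin Q).Nondegenerate) (h5 : 5 ≤ finrank F V)
    (z : Γ) (hz : z ∈ Subgroup.center Γ) : ∃ l : F, l * l = 1 ∧ ∀ v, M.ρ z v = l • v := by
  set x : ↥(isoGroup Q) := ⟨M.ρ z, M.isom z⟩ with hx
  have hcomm : ∀ (p s : V) (hp : Q p = 0) (hps : pol (⇑Q) p s = 0),
      x * eichG Q p s hp hps = eichG Q p s hp hps * x := by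
    intro p s hp hps
    apply isoGroup_ext
    intro v
    rw [isoG_mul_apply, isoG_mul_apply, eichG_apply, eichG_apply]
    have h1 := Subgroup.mem_center_iff.1 hz (M.E p s)
    have h2 := congrArg (fun g => M.ρ g v) h1
    simp only [M.mul_apply, M.E_apply p s hp hps] at h2
    exact h2.symm
  obtain ⟨l, hl⟩ := scalar_of_fix_sing Q hQ h5 ((M.ρ z : V ≃ₗ[F] V) : V →ₗ[F] V)
    (fun p hp => fix_sing_of_commute Q hQ h5 x hcomm p hp)
  refine ⟨l, ?_, hl⟩
  exact scalar_isometry_sq Q hQ (by omega) x l hl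

theorem pow_apply_scalar (z : Γ) (l : F) (hl : ∀ v, M.ρ z v = l • v) (k : ℕ) (v : V) :
    M.ρ (z ^ k) v = l ^ k • v := by
  induction k with
  | zero => rw [pow_zero, pow_zero, M.one_apply, one_smul]
  | succ k ih => rw [pow_succ, M.mul_apply, hl, map_smul, ih, smul_smul, pow_succ, mul_comm]

/-- the centre has no non-trivial `p`-elements (`p` the characteristic) -/
theorem center_pow_eq_one [Finite F] [FiniteDimensional F V]
    (hQ : (QuadraticMap.polarBilin Q).Nondegenerate) (h5 : 5 ≤ finrank F V)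
    (ch : ℕ) [hch : Fact ch.Prime] [CharP F ch]
    (z : Γ) (hz : z ∈ Subgroup.center Γ) (k : ℕ) (hk : z ^ (ch ^ k) = 1) : z = 1 := by
  obtain ⟨l, hl2, hl⟩ := M.center_scalar hQ h5 z hz
  have hV : ∃ v : V, v ≠ 0 := by
    have : Nontrivial V := Module.nontrivial_of_finrank_pos (R := F) (by omega)
    exact exists_ne 0
  obtain ⟨v, hv⟩ := hV
  have h1 : l ^ (ch ^ k) = 1 := by
    have h2 := M.pow_apply_scalar z l hl (ch ^ k) v
    rw [hk, M.one_apply] at h2
    have h3 : (l ^ (ch ^ k) - 1) • v = 0 := by rw [sub_smul, one_smul, ← h2, sub_self]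
    rcases smul_eq_zero.1 h3 with h | h
    · exact sub_eq_zero.1 h
    · exact absurd h hv
  have hl1 : l = 1 := by
    rcases Nat.Prime.eq_two_or_odd' hch.out with h2 | hodd
    · have h20 : (2 : F) = 0 := by
        have := CharP.cast_eq_zero F ch
        rw [h2] at this
        exact_mod_cast this
      have : (l - 1) * (l - 1) = 0 := by
        have : (l - 1) * (l - 1) = l * l - 2 * l + 1 := by ring
        rw [this, hl2, h20]; ring_nf
        rw [show (2 : F) = 0 from h20]
      rcases mul_self_eq_zero.1 this with h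
      exact sub_eq_zero.1 h
    · have hodd' : Odd (ch ^ k) := hodd.pow
      obtain ⟨j, hj⟩ := hodd'
      rw [hj, pow_succ, pow_mul, pow_two, hl2, one_pow, one_mul] at h1
      exact h1
  apply M.ext_apply
  intro w
  rw [hl, hl1, one_smul, M.one_apply]

/-- `p`-elements with the same image modulo the centre are equal -/
theorem eq_of_mk_eq [Finite F] [FiniteDimensional F V]
    (hQ : (QuadraticMap.polarBilin Q).Nondegenerate) (h5 : 5 ≤ finrank F V)
    (ch : ℕ) [hch : Fact ch.Prime] [CharP F ch] (x y : Γ) (a b : ℕ)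
    (hx : x ^ (ch ^ a) = 1) (hy : y ^ (ch ^ b) = 1)
    (h : (QuotientGroup.mk x : Γ ⧸ Subgroup.center Γ) = QuotientGroup.mk y) : x = y := by
  have hz : x⁻¹ * y ∈ Subgroup.center Γ := QuotientGroup.eq.1 h
  have hcomm : Commute x (x⁻¹ * y) := Subgroup.mem_center_iff.1 hz x
  have hy' : y = x * (x⁻¹ * y) := by group
  have hxa : x ^ (ch ^ (a + b)) = 1 := by rw [pow_add, pow_mul, hx, one_pow]
  have hyb : y ^ (ch ^ (a + b)) = 1 := by rw [pow_add, mul_comm, pow_mul, hy, one_pow]
  have h1 : (x⁻¹ * y) ^ (ch ^ (a + b)) = 1 := by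
    have h2 := hcomm.mul_pow (ch ^ (a + b))
    rw [← hy', hyb, hxa, one_mul] at h2
    exact h2.symm
  have h3 := M.center_pow_eq_one hQ h5 ch _ hz _ h1
  rw [inv_mul_eq_one] at h3
  exact h3

/-- commuting modulo the centre implies commuting, for a `p`-element -/
theorem commute_of_mk_commute [Finite F] [FiniteDimensional F V]
    (hQ : (QuadraticMap.polarBilin Q).Nondegenerate) (h5 : 5 ≤ finrank F V)
    (ch : ℕ) [hch : Fact ch.Prime] [CharP F ch] (x y : Γ) (b : ℕ)
    (hy : y ^ (ch ^ b) = 1)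
    (h : (QuotientGroup.mk x : Γ ⧸ Subgroup.center Γ) * QuotientGroup.mk y =
      QuotientGroup.mk y * QuotientGroup.mk x) : x * y = y * x := by
  have h1 : (QuotientGroup.mk (x * y * x⁻¹) : Γ ⧸ Subgroup.center Γ) = QuotientGroup.mk y := by
    rw [QuotientGroup.mk_mul, QuotientGroup.mk_mul, h, QuotientGroup.mk_inv, mul_assoc,
      mul_inv_cancel, mul_one]
  have h2 : (x * y * x⁻¹) ^ (ch ^ b) = 1 := by
    rw [conj_pow, hy, mul_one, mul_inv_cancel]
  have h3 := M.eq_of_mk_eq hQ h5 ch _ _ b b h2 hy h1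
  rw [mul_inv_eq_iff_eq_mul] at h3
  exact h3

end OModel

end

end Cfsg.Agent.Lib.Helper36.AutO
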