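import Mathlib
import Cfsg.Agent.Lib.Helper36.AutO.Center

set_option autoImplicit false
set_option linter.unusedSimpArgs false
set_option linter.unusedVariables false
set_option linter.unusedSectionVars false

/-!
# Chevalley–Warning count and fixed singular vectors of `p`-subgroups
-/

namespace Cfsg.Agent.Lib.Helper36.AutO

open Cfsg.Agent.Lib.Helper13 hiding isoGroup mem_isoGroup
open Cfsg.Agent.Lib.Helper36 Cfsg.Agent.Lib.Helper44 Module

section cw

/-- Chevalley–Warning: the number of zeros of a quadratic form in at least three variables is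
divisible by the characteristic. -/
theorem card_zeros_dvd {F V : Type*} [Field F] [Finite F] [AddCommGroup V] [Module F V]
    [FiniteDimensional F V] (ch : ℕ) [CharP F ch] (Q : QuadraticForm F V)
    (h3 : 3 ≤ finrank F V) : ch ∣ Nat.card {v : V // Q v = 0} := by
  classical
  have : Fintype F := Fintype.ofFinite F
  set n := finrank F V with hn
  let b : Basis (Fin n) F V := finBasis F V
  obtain ⟨A, hA⟩ := LinearMap.BilinMap.toQuadraticMap_surjective Q
  let f : MvPolynomial (Fin n) F :=
    ∑ i, ∑ j, MvPolynomial.C (A (b i) (b j)) * MvPolynomial.X i * MvPolynomial.X j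
  have hdeg : f.totalDegree < Fintype.card (Fin n) := by
    have h2 : f.totalDegree ≤ 2 := by
      apply (MvPolynomial.totalDegree_finsetSum _ _).trans
      apply Finset.sup_le
      intro i _
      apply (MvPolynomial.totalDegree_finsetSum _ _).trans
      apply Finset.sup_le
      intro j _
      apply (MvPolynomial.totalDegree_mul _ _).trans
      have h1 := MvPolynomial.totalDegree_mul (MvPolynomial.C (A (b i) (b j)))
        (MvPolynomial.X i : MvPolynomial (Fin n) F)
      rw [MvPolynomial.totalDegree_C, MvPolynomial.totalDegree_X] at h1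
      rw [MvPolynomial.totalDegree_X]
      omega
    rw [Fintype.card_fin]
    omega
  have hdvd := char_dvd_card_solutions ch hdeg
  have heval : ∀ x : Fin n → F, MvPolynomial.eval x f = Q (∑ i, x i • b i) := by
    intro x
    rw [← hA, LinearMap.BilinMap.toQuadraticMap_apply]
    simp only [f, map_sum, map_mul, MvPolynomial.eval_C, MvPolynomial.eval_X, LinearMap.sum_apply,
      map_smul, LinearMap.smul_apply, smul_eq_mul]
    rw [Finset.sum_comm]
    apply Finset.sum_congr rfl
    intro i _
    rw [Finset.mul_sum]
    apply Finset.sum_congr rfl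
    intro j _
    ring
  have e : {x : Fin n → F // MvPolynomial.eval x f = 0} ≃ {v : V // Q v = 0} :=
    Equiv.subtypeEquiv b.equivFun.symm.toEquiv (fun x => by
      rw [heval]
      simp [Basis.equivFun_symm_apply])
  rw [← Nat.card_congr e, Nat.card_eq_fintype_card]
  exact hdvd

end cw

section
variable {F V : Type*} [Field F] [AddCommGroup V] [Module F V]

local notation "pol" => QuadraticMap.polar

variable {Q : QuadraticForm F V} {Γ : Type*} [Group Γ] (M : OModel Q Γ)

namespace OModel

/-- A `p`-subgroup (`p` the characteristic) stabilising a subspace of dimension at least three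
fixes a non-zero singular vector in it. -/
theorem exists_fixed_sing [Finite F] [FiniteDimensional F V]
    (ch : ℕ) [hch : Fact ch.Prime] [CharP F ch] (R : Subgroup Γ) (hR : IsPGroup ch R)
    (T : Submodule F V) (hT : ∀ x ∈ R, ∀ v ∈ T, M.ρ x v ∈ T) (h3 : 3 ≤ finrank F T) :
    ∃ v ∈ T, v ≠ 0 ∧ Q v = 0 ∧ ∀ x ∈ R, M.ρ x v = v := by
  classical
  let S := {v : V // v ∈ T ∧ v ≠ 0 ∧ Q v = 0}
  letI : MulAction ↥R S :=
    { smul := fun x v => ⟨M.ρ (x : Γ) v.1, hT _ x.2 _ v.2.1, by
        intro h
        apply v.2.2.1
        have := congrArg (M.ρ (x : Γ)⁻¹) h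
        rw [M.inv_apply', map_zero] at this
        exact this, by rw [M.isom]; exact v.2.2.2⟩
      one_smul := fun v => Subtype.ext (M.one_apply v.1)
      mul_smul := fun x y v => Subtype.ext (M.mul_apply (x : Γ) (y : Γ) v.1) }
  have hfin : Finite S := by
    have : Finite V := Module.finite_of_finite F
    exact Subtype.finite
  -- count
  have hcount : Nat.card S + 1 = Nat.card {v : ↥T // (Q.comp T.subtype) v = 0} := by
    have : Finite V := Module.finite_of_finite F
    have e : Option S ≃ {v : ↥T // (Q.comp T.subtype) v = 0} :=
      { toFun := fun o => match o with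
          | none => ⟨0, by simp⟩
          | some v => ⟨⟨v.1, v.2.1⟩, v.2.2.2⟩
        invFun := fun w => if h : (w.1 : V) = 0 then none else some ⟨w.1.1, w.1.2, h, w.2⟩
        left_inv := by
          intro o
          cases o with
          | none => simp
          | some v =>
            have : (v.1 : V) ≠ 0 := v.2.2.1
            simp [this]
        right_inv := by
          intro w
          by_cases h : (w.1 : V) = 0
          · simp only [h, dite_true]
            apply Subtype.ext
            apply Subtype.ext
            exact h.symm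
          · simp only [h, dite_false] }
    rw [← Nat.card_congr e, Finite.card_option]
  have hdvd := card_zeros_dvd ch (Q.comp T.subtype) h3
  have hnd : ¬ ch ∣ Nat.card S := by
    intro h
    rw [← hcount] at hdvd
    have := (Nat.dvd_add_right h).1 hdvd
    exact hch.out.one_lt.ne' (Nat.dvd_one.1 this)
  obtain ⟨v, hv⟩ := hR.nonempty_fixed_point_of_prime_not_dvd_card S hnd
  refine ⟨v.1, v.2.1, v.2.2.1, v.2.2.2, fun x hx => ?_⟩
  have := hv ⟨x, hx⟩
  exact congrArg Subtype.val this

end OModel

end

end Cfsg.Agent.Lib.Helper36.AutO
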