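import Mathlib
import Cfsg.Agent.Lib.Helper36.AutO.FixPt

set_option autoImplicit false
set_option linter.unusedSimpArgs false
set_option linter.unusedVariables false
set_option linter.unusedSectionVars false

/-!
# The unipotent radical `N₂(p,w)` of the stabiliser of a flag (point ⊂ totally singular line)
-/

namespace Cfsg.Agent.Lib.Helper36.AutO

open Cfsg.Agent.Lib.Helper13 hiding isoGroup mem_isoGroup
open Cfsg.Agent.Lib.Helper36 Cfsg.Agent.Lib.Helper44 Module

section grp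

/-- a `p`-subgroup normalised by a Sylow `p`-subgroup is contained in it -/
theorem le_sylow_of_normalizes {G : Type*} [Group G] {p : ℕ} (P : Sylow p G) (N : Subgroup G)
    (hN : IsPGroup p N) (h : (P : Subgroup G) ≤ Subgroup.normalizer (N : Set G)) : N ≤ (P : Subgroup G) := by
  have hsup : IsPGroup p (N ⊔ (P : Subgroup G) : Subgroup G) :=
    IsPGroup.to_sup_of_normal_left' hN P.2 h
  have := P.3 hsup le_sup_right
  rw [← this]
  exact le_sup_left

theorem le_normalizer_of_conj {G : Type*} [Group G] (P N : Subgroup G)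
    (h : ∀ s ∈ P, ∀ g ∈ N, s * g * s⁻¹ ∈ N) : P ≤ Subgroup.normalizer (N : Set G) := by
  intro s hs
  rw [Subgroup.mem_normalizer_iff]
  intro g
  constructor
  · exact h s hs g
  · intro hg
    have := h s⁻¹ (P.inv_mem hs) _ hg
    rw [inv_inv] at this
    have e : s⁻¹ * (s * g * s⁻¹) * s = g := by group
    rwa [e] at this

end grp

section
variable {F V : Type*} [Field F] [AddCommGroup V] [Module F V]

local notation "pol" => QuadraticMap.polar

variable {Q : QuadraticForm F V} {Γ : Type*} [Group Γ] (M : OModel Q Γ)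

namespace OModel

/-- the unipotent radical of the stabiliser of the flag `⟨p⟩ ⊂ ⟨p,w⟩` -/
def N2 (p w : V) : Subgroup Γ where
  carrier := {g | M.ρ g p = p ∧ (∃ c : F, M.ρ g w = w + c • p) ∧
    ∀ x, pol (⇑Q) p x = 0 → pol (⇑Q) w x = 0 → ∃ a b : F, M.ρ g x = x + a • p + b • w}
  one_mem' := by
    refine ⟨M.one_apply p, ⟨0, by rw [M.one_apply, zero_smul, add_zero]⟩, fun x _ _ => ⟨0, 0, ?_⟩⟩
    rw [M.one_apply, zero_smul, zero_smul, add_zero, add_zero]
  mul_mem' := by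
    rintro g h ⟨hg1, ⟨c, hg2⟩, hg3⟩ ⟨hh1, ⟨d, hh2⟩, hh3⟩
    refine ⟨by rw [M.mul_apply, hh1, hg1], ⟨c + d, ?_⟩, fun x hx1 hx2 => ?_⟩
    · rw [M.mul_apply, hh2, map_add, map_smul, hg1, hg2]; module
    · obtain ⟨a, b, hab⟩ := hh3 x hx1 hx2
      obtain ⟨a', b', hab'⟩ := hg3 x hx1 hx2
      refine ⟨a' + a + b * c, b' + b, ?_⟩
      rw [M.mul_apply, hab, map_add, map_add, map_smul, map_smul, hg1, hg2, hab']; module
  inv_mem' := by
    rintro g ⟨hg1, ⟨c, hg2⟩, hg3⟩
    have h1 : M.ρ g⁻¹ p = p := by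
      have := M.inv_apply' g p
      rwa [hg1] at this
    have h2 : M.ρ g⁻¹ w = w - c • p := by
      have := M.inv_apply' g w
      rw [hg2, map_add, map_smul, h1] at this
      exact eq_sub_of_add_eq this
    refine ⟨h1, ⟨-c, by rw [h2]; module⟩, fun x hx1 hx2 => ?_⟩
    obtain ⟨a, b, hab⟩ := hg3 x hx1 hx2
    refine ⟨-(a - b * c), -b, ?_⟩
    have := M.inv_apply' g x
    rw [hab, map_add, map_add, map_smul, map_smul, h1, h2] at this
    have e : M.ρ g⁻¹ x = x - (a • p + b • (w - c • p)) := by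
      apply eq_sub_of_add_eq
      rw [← add_assoc]; exact this
    rw [e]; module

theorem mem_N2_iff (p w : V) (g : Γ) : g ∈ M.N2 p w ↔ M.ρ g p = p ∧ (∃ c : F, M.ρ g w = w + c • p) ∧
    ∀ x, pol (⇑Q) p x = 0 → pol (⇑Q) w x = 0 → ∃ a b : F, M.ρ g x = x + a • p + b • w := Iff.rfl

theorem U_le_N2 (p w : V) (hp : Q p = 0) (hpw : pol (⇑Q) p w = 0) : M.U p ≤ M.N2 p w := by
  intro g hg
  obtain ⟨u, hu, rfl⟩ := (M.mem_U_iff p hp g).1 hg
  have hup : pol (⇑Q) u p = 0 := by rw [QuadraticMap.polar_comm]; exact hu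
  refine ⟨?_, ⟨pol (⇑Q) u w, ?_⟩, fun x hx1 hx2 => ⟨pol (⇑Q) u x, 0, ?_⟩⟩
  · rw [M.E_apply p u hp hu]; exact siegelLin_fix_left Q p u hp hu
  · rw [M.E_apply p u hp hu, siegelLin_apply, hpw]; module
  · rw [M.E_apply p u hp hu, siegelLin_apply, hx1]; module

theorem E_mem_N2 (p w v : V) (hw : Q w = 0) (hpw : pol (⇑Q) p w = 0) (hpv : pol (⇑Q) p v = 0)
    (hwv : pol (⇑Q) w v = 0) : M.E w v ∈ M.N2 p w := by
  have hwp : pol (⇑Q) w p = 0 := by rw [QuadraticMap.polar_comm]; exact hpw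
  have hvp : pol (⇑Q) v p = 0 := by rw [QuadraticMap.polar_comm]; exact hpv
  refine ⟨?_, ⟨0, ?_⟩, fun x hx1 hx2 => ⟨0, pol (⇑Q) v x, ?_⟩⟩
  · rw [M.E_apply w v hw hwv, siegelLin_apply, hvp, hwp]; module
  · rw [M.E_apply w v hw hwv, siegelLin_fix_left Q w v hw hwv]; module
  · rw [M.E_apply w v hw hwv, siegelLin_apply, hx2]; module

/-- elements of `N₂` are unipotent: `(g-1)^5 = 0` -/
theorem N2_nilp (p w : V) (hp : Q p = 0) (hw : Q w = 0) (hpw : pol (⇑Q) p w = 0) (g : Γ)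
    (hg : g ∈ M.N2 p w) :
    (((M.ρ g : V ≃ₗ[F] V) : V →ₗ[F] V) - 1) ^ 5 = (0 : Module.End F V) := by
  obtain ⟨hg1, ⟨c, hg2⟩, hg3⟩ := hg
  set N : Module.End F V := ((M.ρ g : V ≃ₗ[F] V) : V →ₗ[F] V) - 1 with hN
  have hNv : ∀ v, N v = M.ρ g v - v := fun v => by
    rw [hN]; simp
  have hwp : pol (⇑Q) w p = 0 := by rw [QuadraticMap.polar_comm]; exact hpw
  -- step 1
  have s1 : ∀ v, pol (⇑Q) p (N v) = 0 := by
    intro v
    rw [hNv, QuadraticMap.polar_sub_right]
    conv_lhs => rw [← hg1]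
    rw [M.pol_eq, hg1, sub_self]
  have hginvw : M.ρ g⁻¹ w = w - c • p := by
    have h1 : M.ρ g⁻¹ p = p := by
      have := M.inv_apply' g p
      rwa [hg1] at this
    have := M.inv_apply' g w
    rw [hg2, map_add, map_smul, h1] at this
    exact eq_sub_of_add_eq this
  have s2 : ∀ v, pol (⇑Q) p v = 0 → pol (⇑Q) w (N v) = 0 := by
    intro v hv
    rw [hNv, QuadraticMap.polar_sub_right]
    have : pol (⇑Q) w (M.ρ g v) = pol (⇑Q) (M.ρ g⁻¹ w) v := by
      rw [← M.pol_eq g (M.ρ g⁻¹ w) v, M.inv_apply]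
    rw [this, hginvw, QuadraticMap.polar_sub_left, QuadraticMap.polar_smul_left, hv]
    simp
  have s3 : ∀ v, pol (⇑Q) p v = 0 → pol (⇑Q) w v = 0 → ∃ a b : F, N v = a • p + b • w := by
    intro v h1 h2
    obtain ⟨a, b, hab⟩ := hg3 v h1 h2
    exact ⟨a, b, by rw [hNv, hab]; abel⟩
  have s4 : ∀ a b : F, N (a • p + b • w) = (b * c) • p := by
    intro a b
    rw [hNv, map_add, map_smul, map_smul, hg1, hg2]; module
  have s5 : ∀ a : F, N (a • p) = 0 := by
    intro a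
    rw [hNv, map_smul, hg1, sub_self]
  apply LinearMap.ext
  intro v
  have e : (N ^ 5) v = N (N (N (N (N v)))) := by
    simp [pow_succ, Module.End.mul_apply]
  rw [e, LinearMap.zero_apply]
  obtain ⟨a, b, hab⟩ := s3 (N (N v)) (s1 _) (s2 _ (s1 _))
  rw [hab, s4, s5]

theorem N2_isPGroup [Finite F] [FiniteDimensional F V] (ch : ℕ) [hch : Fact ch.Prime] [CharP F ch]
    (hV : Nontrivial V)
    (p w : V) (hp : Q p = 0) (hw : Q w = 0) (hpw : pol (⇑Q) p w = 0) :
    IsPGroup ch (M.N2 p w) := by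
  have : CharP (Module.End F V) ch :=
    charP_of_injective_algebraMap (FaithfulSMul.algebraMap_injective F (Module.End F V)) ch
  intro g
  refine ⟨3, ?_⟩
  apply Subtype.ext
  rw [Subgroup.coe_pow, Subgroup.coe_one]
  apply M.inj
  rw [map_pow, map_one]
  have hnil := M.N2_nilp p w hp hw hpw g.1 g.2
  set T : Module.End F V := ((M.ρ (g : Γ) : V ≃ₗ[F] V) : V →ₗ[F] V) with hT
  have h5 : 5 ≤ ch ^ 3 := by
    have := hch.out.two_le
    calc 5 ≤ 2 ^ 3 := by norm_num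
      _ ≤ ch ^ 3 := Nat.pow_le_pow_left this 3
  have hpow : T ^ (ch ^ 3) = 1 := by
    have h1 : T = (T - 1) + 1 := by abel
    rw [h1, add_pow_char_pow_of_commute ch 3 (Commute.one_right _), one_pow]
    have : (T - 1) ^ (ch ^ 3) = 0 := by
      rw [show ch ^ 3 = 5 + (ch ^ 3 - 5) by omega, pow_add, hnil, zero_mul]
    rw [this, zero_add]
  apply LinearEquiv.ext
  intro v
  have h2 : ((M.ρ (g : Γ)) ^ (ch ^ 3)) v = (T ^ (ch ^ 3)) v := by
    generalize ch ^ 3 = k
    induction k generalizing v with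
    | zero => simp
    | succ k ih =>
      rw [pow_succ, pow_succ, LinearEquiv.mul_apply, Module.End.mul_apply, ih]
      rfl
  rw [h2, hpow]
  rfl

end OModel

end

end Cfsg.Agent.Lib.Helper36.AutO
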