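import Mathlib
import Cfsg.Agent.Lib.Helper36.AutO.FlagGrp

set_option autoImplicit false
set_option linter.unusedSimpArgs false
set_option linter.unusedVariables false
set_option linter.unusedSectionVars false

/-!
# Centres of Sylow `p`-subgroups of `Ω(Q)` are the long root groups
-/

namespace Cfsg.Agent.Lib.Helper36.AutO

open Cfsg.Agent.Lib.Helper13 hiding isoGroup mem_isoGroup
open Cfsg.Agent.Lib.Helper36 Cfsg.Agent.Lib.Helper44 Module

section
variable {F V : Type*} [Field F] [AddCommGroup V] [Module F V]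

local notation "pol" => QuadraticMap.polar

/-- a vector outside a subspace has a "dual" vector orthogonal to the subspace -/
theorem exists_perp_dual [FiniteDimensional F V] (Q : QuadraticForm F V)
    (hQ : (QuadraticMap.polarBilin Q).Nondegenerate) (A : Submodule F V) (u : V) (hu : u ∉ A) :
    ∃ v, (∀ a ∈ A, pol (⇑Q) a v = 0) ∧ pol (⇑Q) u v = 1 := by
  set B : LinearMap.BilinForm F V := QuadraticMap.polarBilin Q with hB
  have hrefl : B.IsRefl := (polarBilin_isSymm Q).isRefl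
  have h1 := LinearMap.BilinForm.orthogonal_orthogonal hQ hrefl A
  have h2 : u ∉ B.orthogonal (B.orthogonal A) := by rw [h1]; exact hu
  rw [LinearMap.BilinForm.mem_orthogonal_iff] at h2
  push Not at h2
  obtain ⟨v, hv, hvu⟩ := h2
  have hvu' : pol (⇑Q) v u ≠ 0 := hvu
  rw [LinearMap.BilinForm.mem_orthogonal_iff] at hv
  refine ⟨(pol (⇑Q) v u)⁻¹ • v, fun a ha => ?_, ?_⟩
  · have : pol (⇑Q) a v = 0 := hv a ha
    rw [QuadraticMap.polar_smul_right, this, smul_zero]
  · rw [QuadraticMap.polar_smul_right, QuadraticMap.polar_comm (⇑Q) u v, smul_eq_mul,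
      inv_mul_cancel₀ hvu']

variable {Q : QuadraticForm F V} {Γ : Type*} [Group Γ] (M : OModel Q Γ)

namespace OModel

/-- the vectors of `p^⊥` fixed modulo `p` by `N₂(p,w)` lie in the line `⟨p,w⟩` -/
theorem fixed_N2 [Finite F] [FiniteDimensional F V]
    (hQ : (QuadraticMap.polarBilin Q).Nondegenerate) (h7 : 7 ≤ finrank F V)
    (p w : V) (hp0 : p ≠ 0) (hind : ∀ c : F, w ≠ c • p) (hp : Q p = 0) (hw : Q w = 0)
    (hpw : pol (⇑Q) p w = 0) (u : V)
    (hfix : ∀ v, pol (⇑Q) p v = 0 → pol (⇑Q) w v = 0 → ∃ c : F, M.ρ (M.E w v) u = u + c • p) :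
    u ∈ Submodule.span F {p, w} := by
  obtain ⟨q, q', hq, hq', hqq', hpq, hwq, hpq', hwq'⟩ :=
    hyp_in_perp2 Q hQ h7 p w hp0 hind (pol_self_of_sing Q p hp) (pol_self_of_sing Q w hw) hpw
  have key : ∀ v, pol (⇑Q) p v = 0 → pol (⇑Q) w v = 0 → ∃ c : F,
      (pol (⇑Q) v u - Q v * pol (⇑Q) w u) • w - pol (⇑Q) w u • v = c • p := by
    intro v h1 h2
    obtain ⟨c, hc⟩ := hfix v h1 h2
    refine ⟨c, ?_⟩
    rw [M.E_apply w v hw h2, siegelLin_apply] at hc
    have : u + ((pol (⇑Q) v u - Q v * pol (⇑Q) w u) • w - pol (⇑Q) w u • v) = u + c • p := by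
      rw [← add_sub_assoc]; exact hc
    exact add_left_cancel this
  have hwu : pol (⇑Q) w u = 0 := by
    obtain ⟨c, hc⟩ := key q hpq hwq
    have := congrArg (fun z => pol (⇑Q) z q') hc
    simp only [QuadraticMap.polar_sub_left, QuadraticMap.polar_smul_left, hwq', hqq', hpq',
      smul_eq_mul, mul_zero, mul_one, zero_sub] at this
    exact neg_eq_zero.1 this
  have hperp : ∀ v, pol (⇑Q) p v = 0 → pol (⇑Q) w v = 0 → pol (⇑Q) v u = 0 := by
    intro v h1 h2
    obtain ⟨c, hc⟩ := key v h1 h2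
    rw [hwu, mul_zero, sub_zero, zero_smul, sub_zero] at hc
    have h3 : (-c) • p + pol (⇑Q) v u • w = 0 := by rw [hc]; module
    exact (indep2 p w hp0 hind _ _ h3).2
  by_contra hcon
  obtain ⟨v, hv1, hv2⟩ := exists_perp_dual Q hQ _ u hcon
  have h1 : pol (⇑Q) p v = 0 := hv1 p (Submodule.subset_span (by simp))
  have h2 : pol (⇑Q) w v = 0 := hv1 w (Submodule.subset_span (by simp))
  have := hperp v h1 h2
  rw [QuadraticMap.polar_comm, hv2] at this
  exact one_ne_zero this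

theorem U_isPGroup (ch : ℕ) [CharP F ch] (p : V) (hp : Q p = 0) : IsPGroup ch (M.U p) := by
  intro g
  refine ⟨1, ?_⟩
  obtain ⟨u, hu, hg⟩ := (M.mem_U_iff p hp g.1).1 g.2
  apply Subtype.ext
  rw [Subgroup.coe_pow, Subgroup.coe_one, pow_one, hg, M.E_pow_char p u hp hu ch]

/-- subgroup of elements fixing a vector -/
def fixer (v : V) : Subgroup Γ where
  carrier := {x | M.ρ x v = v}
  one_mem' := M.one_apply v
  mul_mem' := by
    intro a b ha hb
    show M.ρ (a * b) v = v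
    rw [M.mul_apply, hb, ha]
  inv_mem' := by
    intro a ha
    show M.ρ a⁻¹ v = v
    have := M.inv_apply' a v
    rwa [ha] at this

theorem mem_fixer (v : V) (x : Γ) : x ∈ M.fixer v ↔ M.ρ x v = v := Iff.rfl

/-- Key lemma: a Sylow `p`-subgroup fixing the singular vector `p` has centre `X p w` for a
suitable `w`, and contains `N₂(p,w)`. -/
theorem sylow_center_of_fix [Finite F] [FiniteDimensional F V]
    (hQ : (QuadraticMap.polarBilin Q).Nondegenerate) (h7 : 7 ≤ finrank F V)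
    (ch : ℕ) [hch : Fact ch.Prime] [CharP F ch] (P : Sylow ch Γ)
    (p : V) (hp0 : p ≠ 0) (hp : Q p = 0) (hPp : ∀ x ∈ (P : Subgroup Γ), M.ρ x p = p) :
    ∃ w, Q w = 0 ∧ pol (⇑Q) p w = 0 ∧ (∀ c : F, w ≠ c • p) ∧
      (∀ s ∈ (P : Subgroup Γ), ∃ c : F, M.ρ s w = w + c • p) ∧ M.N2 p w ≤ (P : Subgroup Γ) ∧
      ∀ z, (z ∈ (P : Subgroup Γ) ∧ ∀ s ∈ (P : Subgroup Γ), s * z = z * s) ↔ z ∈ M.X p w := by
  have hV : Nontrivial V := Module.nontrivial_of_finrank_pos (R := F) (by omega)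
  -- (1) `U p ≤ P`
  have hUP : M.U p ≤ (P : Subgroup Γ) := by
    apply le_sylow_of_normalizes P (M.U p) (M.U_isPGroup ch p hp)
    apply le_normalizer_of_conj
    intro s hs g hg
    have := M.conj_U s p hp g hg
    rwa [hPp s hs] at this
  -- (2) a fixed singular vector in `⟨p,f⟩^⊥`
  obtain ⟨f, hf, hpf⟩ := exists_hyp_partner Q hQ p hp0 hp
  have hfp : pol (⇑Q) f p = 1 := by rw [QuadraticMap.polar_comm]; exact hpf
  set R : Subgroup Γ := (P : Subgroup Γ) ⊓ M.fixer f with hR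
  have hRp : IsPGroup ch R := P.2.to_le inf_le_left
  set φ : V →ₗ[F] F × F := (QuadraticMap.polarBilin Q p).prod (QuadraticMap.polarBilin Q f) with hφ
  have hker : 3 ≤ finrank F (LinearMap.ker φ) := by
    have h1 := LinearMap.finrank_range_add_finrank_ker φ
    have h2 : finrank F (LinearMap.range φ) ≤ 2 := by
      have := Submodule.finrank_le (LinearMap.range φ)
      rw [Module.finrank_prod, Module.finrank_self] at this
      exact this
    omega
  have hmemT : ∀ v, v ∈ LinearMap.ker φ ↔ pol (⇑Q) p v = 0 ∧ pol (⇑Q) f v = 0 := by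
    intro v
    rw [LinearMap.mem_ker]
    constructor
    · intro h
      exact ⟨(Prod.ext_iff.1 h).1, (Prod.ext_iff.1 h).2⟩
    · intro h
      exact Prod.ext h.1 h.2
  have hinv : ∀ x ∈ R, ∀ v ∈ LinearMap.ker φ, M.ρ x v ∈ LinearMap.ker φ := by
    intro x hx v hv
    rw [hmemT] at hv ⊢
    have hxp : M.ρ x p = p := hPp x hx.1
    have hxf : M.ρ x f = f := hx.2
    constructor
    · conv_lhs => rw [← hxp]
      rw [M.pol_eq]; exact hv.1
    · conv_lhs => rw [← hxf]
      rw [M.pol_eq]; exact hv.2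
  obtain ⟨w, hwT, hw0, hw, hRw⟩ := M.exists_fixed_sing ch R hRp _ hinv hker
  rw [hmemT] at hwT
  obtain ⟨hpw, hfw⟩ := hwT
  -- (3)
  have hPw : ∀ s ∈ (P : Subgroup Γ), ∃ c : F, M.ρ s w = w + c • p := by
    intro s hs
    have hsp := hPp s hs
    have hgf : Q (M.ρ s f) = 0 := by rw [M.isom, hf]
    have hpgf : pol (⇑Q) p (M.ρ s f) = 1 := by
      conv_lhs => rw [← hsp]
      rw [M.pol_eq, hpf]
    set u := f - M.ρ s f with hu
    have hpu : pol (⇑Q) p u = 0 := by
      rw [hu, QuadraticMap.polar_sub_right, hpf, hpgf, sub_self]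
    have hEf : M.ρ (M.E p u) f = M.ρ s f := by
      rw [M.E_apply p u hp hpu]
      exact eich_trans_opp Q p f (M.ρ s f) hf hgf hpf hpgf
    have hmem : (M.E p u)⁻¹ * s ∈ R := by
      refine ⟨(P : Subgroup Γ).mul_mem ((P : Subgroup Γ).inv_mem (hUP (M.E_mem_U p u hpu))) hs, ?_⟩
      show M.ρ ((M.E p u)⁻¹ * s) f = f
      rw [M.mul_apply, ← hEf, M.inv_apply']
    have h1 := hRw _ hmem
    rw [M.mul_apply] at h1
    have h2 : M.ρ s w = M.ρ (M.E p u) w := by
      rw [← h1, M.inv_apply]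
      rw [h1]
    refine ⟨pol (⇑Q) u w, ?_⟩
    rw [h2, M.E_apply p u hp hpu, siegelLin_apply, hpw]; module
  -- (4)
  have hwind : ∀ c : F, w ≠ c • p := by
    intro c hc
    have : pol (⇑Q) f w = c := by
      rw [hc, QuadraticMap.polar_smul_right, hfp, smul_eq_mul, mul_one]
    rw [hfw] at this
    rw [← this, zero_smul] at hc
    exact hw0 hc
  -- (5) `N₂ ≤ P`
  have hN2P : M.N2 p w ≤ (P : Subgroup Γ) := by
    apply le_sylow_of_normalizes P (M.N2 p w) (M.N2_isPGroup ch hV p w hp hw hpw)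
    apply le_normalizer_of_conj
    intro s hs g hg
    obtain ⟨hg1, ⟨cg, hg2⟩, hg3⟩ := hg
    have hsp := hPp s hs
    obtain ⟨cs, hcs⟩ := hPw s hs
    have hsinvp : M.ρ s⁻¹ p = p := by
      have := M.inv_apply' s p
      rwa [hsp] at this
    have hsinvw : M.ρ s⁻¹ w = w - cs • p := by
      have := M.inv_apply' s w
      rw [hcs, map_add, map_smul, hsinvp] at this
      exact eq_sub_of_add_eq this
    refine ⟨?_, ⟨cg, ?_⟩, fun x hx1 hx2 => ?_⟩
    · rw [M.mul_apply, M.mul_apply, hsinvp, hg1, hsp]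
    · rw [M.mul_apply, M.mul_apply, hsinvw, map_sub, map_smul, hg1, hg2, map_sub, map_add, map_smul,
        map_smul, hsp, hcs]; module
    · have hy1 : pol (⇑Q) p (M.ρ s⁻¹ x) = 0 := by
        rw [M.pol_inv, hsp, hx1]
      have hy2 : pol (⇑Q) w (M.ρ s⁻¹ x) = 0 := by
        rw [M.pol_inv, hcs, QuadraticMap.polar_add_left, QuadraticMap.polar_smul_left, hx1, hx2]
        simp
      obtain ⟨a, b, hab⟩ := hg3 _ hy1 hy2
      refine ⟨a + b * cs, b, ?_⟩
      rw [M.mul_apply, M.mul_apply, hab, map_add, map_add, map_smul, map_smul, M.inv_apply, hsp,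
        hcs]; module
  refine ⟨w, hw, hpw, hwind, hPw, hN2P, fun z => ?_⟩
  constructor
  · rintro ⟨hzP, hzc⟩
    -- z = E p u
    have hzp := hPp z hzP
    have hztriv : ∀ v, pol (⇑Q) p v = 0 → ∃ c : F, M.ρ z v = v + c • p := by
      intro v hv
      have h1 := hzc _ (hUP (M.E_mem_U p v hv))
      have h2 : z * M.E p v * z⁻¹ = M.E p v := by
        rw [← h1, mul_assoc, mul_inv_cancel, mul_one]
      rw [M.conj_E z p v hp hv, hzp] at h2
      have hv' : pol (⇑Q) p (M.ρ z v) = 0 := by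
        conv_lhs => rw [← hzp]
        rw [M.pol_eq, hv]
      exact (M.E_eq_iff hQ p _ _ hp0 hp hv' hv).1 h2
    obtain ⟨u, hpu, rfl⟩ := M.eq_E_of_trivial hQ p hp0 hp z hzp hztriv
    -- u is fixed mod p by P, in particular by `E w v`
    have hu : u ∈ Submodule.span F {p, w} := by
      apply M.fixed_N2 hQ h7 p w hp0 hwind hp hw hpw u
      intro v hv1 hv2
      have hmem : M.E w v ∈ (P : Subgroup Γ) := hN2P (M.E_mem_N2 p w v hw hpw hv1 hv2)
      have h1 := hzc _ hmem
      have h2 : M.E w v * M.E p u * (M.E w v)⁻¹ = M.E p u := by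
        rw [h1, mul_assoc, mul_inv_cancel, mul_one]
      rw [M.conj_E _ p u hp hpu, hPp _ hmem] at h2
      have hv' : pol (⇑Q) p (M.ρ (M.E w v) u) = 0 := by
        conv_lhs => rw [← hPp _ hmem]
        rw [M.pol_eq, hpu]
      exact (M.E_eq_iff hQ p _ _ hp0 hp hv' hpu).1 h2
    obtain ⟨a, b, rfl⟩ := Submodule.mem_span_pair.1 hu
    rw [M.mem_X_iff p w hp hpw]
    refine ⟨b, ?_⟩
    rw [add_comm, M.E_add_smul p (b • w) a hp
      (by rw [QuadraticMap.polar_smul_right, hpw, smul_zero])]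
  · intro hz
    obtain ⟨t, rfl⟩ := (M.mem_X_iff p w hp hpw z).1 hz
    have htw : pol (⇑Q) p (t • w) = 0 := by rw [QuadraticMap.polar_smul_right, hpw, smul_zero]
    refine ⟨hUP (M.E_mem_U p _ htw), fun s hs => ?_⟩
    obtain ⟨c, hc⟩ := hPw s hs
    have h1 : s * M.E p (t • w) * s⁻¹ = M.E p (t • w) := by
      rw [M.conj_E s p _ hp htw, hPp s hs, map_smul, hc, smul_add, smul_smul]
      exact M.E_add_smul p (t • w) (t * c) hp htw
    calc s * M.E p (t • w) = (s * M.E p (t • w) * s⁻¹) * s := by group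
      _ = M.E p (t • w) * s := by rw [h1]

end OModel

end

end Cfsg.Agent.Lib.Helper36.AutO
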