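import Mathlib
import Cfsg.Agent.Lib.Helper36.AutO.SylowCentre

set_option autoImplicit false
set_option linter.unusedSimpArgs false
set_option linter.unusedVariables false
set_option linter.unusedSectionVars false

/-!
# Centres of Sylow `p`-subgroups of `Ω(Q)` are exactly the long root groups `X p w`
-/

namespace Cfsg.Agent.Lib.Helper36.AutO

open Cfsg.Agent.Lib.Helper13 hiding isoGroup mem_isoGroup
open Cfsg.Agent.Lib.Helper36 Cfsg.Agent.Lib.Helper44 Module

section
variable {F V : Type*} [Field F] [AddCommGroup V] [Module F V]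

local notation "pol" => QuadraticMap.polar

/-- `p, w` span a totally singular line -/
structure IsLine (Q : QuadraticForm F V) (p w : V) : Prop where
  hp0 : p ≠ 0
  hind : ∀ c : F, w ≠ c • p
  hp : Q p = 0
  hw : Q w = 0
  hpw : pol (⇑Q) p w = 0

theorem IsLine.hwp {Q : QuadraticForm F V} {p w : V} (h : IsLine Q p w) : pol (⇑Q) w p = 0 := by
  rw [QuadraticMap.polar_comm]; exact h.hpw

theorem IsLine.hw0 {Q : QuadraticForm F V} {p w : V} (h : IsLine Q p w) : w ≠ 0 := by
  intro h0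
  exact h.hind 0 (by rw [h0, zero_smul])

/-- change of basis in a totally singular line -/
theorem siegel_line_change (Q : QuadraticForm F V) (p w : V) (h : IsLine Q p w) (a b c d : F)
    (z : V) : siegelLin Q (a • p + b • w) (c • p + d • w) z =
      siegelLin Q p ((a * d - b * c) • w) z := by
  have hpp := pol_self_of_sing Q p h.hp
  have hww := pol_self_of_sing Q w h.hw
  have hQ1 : Q (c • p + d • w) = 0 := by
    rw [Q_add', QuadraticMap.map_smul, QuadraticMap.map_smul, h.hp, h.hw,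
      QuadraticMap.polar_smul_left, QuadraticMap.polar_smul_right, h.hpw]
    simp
  have hQ2 : Q ((a * d - b * c) • w) = 0 := by rw [QuadraticMap.map_smul, h.hw, smul_zero]
  rw [siegelLin_apply, siegelLin_apply, hQ1, hQ2]
  simp only [QuadraticMap.polar_add_left, QuadraticMap.polar_smul_left, smul_eq_mul, zero_mul,
    sub_zero]
  module

variable {Q : QuadraticForm F V} {Γ : Type*} [Group Γ] (M : OModel Q Γ)

namespace OModel

theorem X_eq_of_mem_span (p w p' w' : V) (h : IsLine Q p w) (h' : IsLine Q p' w')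
    (hp' : p' ∈ Submodule.span F {p, w}) (hw' : w' ∈ Submodule.span F {p, w}) :
    M.X p' w' ≤ M.X p w := by
  obtain ⟨a, b, rfl⟩ := Submodule.mem_span_pair.1 hp'
  obtain ⟨c, d, rfl⟩ := Submodule.mem_span_pair.1 hw'
  intro x hx
  obtain ⟨t, rfl⟩ := (M.mem_X_iff _ _ h'.hp h'.hpw x).1 hx
  rw [M.mem_X_iff _ _ h.hp h.hpw]
  refine ⟨a * (t * d) - b * (t * c), ?_⟩
  apply M.ext_apply
  intro z
  rw [M.E_apply _ _ h'.hp (by rw [QuadraticMap.polar_smul_right, h'.hpw, smul_zero]),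
    M.E_apply _ _ h.hp (by rw [QuadraticMap.polar_smul_right, h.hpw, smul_zero]),
    smul_add, smul_smul, smul_smul]
  exact siegel_line_change Q p w h a b (t * c) (t * d) z

/-- every Sylow `p`-subgroup has a long root group as its centre -/
theorem sylow_center [Finite F] [FiniteDimensional F V]
    (hQ : (QuadraticMap.polarBilin Q).Nondegenerate) (h7 : 7 ≤ finrank F V)
    (ch : ℕ) [hch : Fact ch.Prime] [CharP F ch] (P : Sylow ch Γ) :
    ∃ p w, IsLine Q p w ∧
      ∀ z, (z ∈ (P : Subgroup Γ) ∧ ∀ s ∈ (P : Subgroup Γ), s * z = z * s) ↔ z ∈ M.X p w := by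
  have h3 : 3 ≤ finrank F (⊤ : Submodule F V) := by rw [finrank_top]; omega
  obtain ⟨p, -, hp0, hp, hPp⟩ := M.exists_fixed_sing ch (P : Subgroup Γ) P.2 ⊤
    (fun _ _ _ _ => Submodule.mem_top) h3
  obtain ⟨w, hw, hpw, hind, -, -, hz⟩ := M.sylow_center_of_fix hQ h7 ch P p hp0 hp hPp
  exact ⟨p, w, ⟨hp0, hind, hp, hw, hpw⟩, hz⟩

/-- every long root group is the centre of a Sylow `p`-subgroup -/
theorem exists_sylow_center [Finite F] [FiniteDimensional F V]
    (hQ : (QuadraticMap.polarBilin Q).Nondegenerate) (h7 : 7 ≤ finrank F V)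
    (ch : ℕ) [hch : Fact ch.Prime] [CharP F ch] (p w : V) (h : IsLine Q p w) :
    ∃ P : Sylow ch Γ,
      ∀ z, (z ∈ (P : Subgroup Γ) ∧ ∀ s ∈ (P : Subgroup Γ), s * z = z * s) ↔ z ∈ M.X p w := by
  have hV : Nontrivial V := Module.nontrivial_of_finrank_pos (R := F) (by omega)
  obtain ⟨P, hNP⟩ := (M.N2_isPGroup ch hV p w h.hp h.hw h.hpw).exists_le_sylow
  have h3 : 3 ≤ finrank F (⊤ : Submodule F V) := by rw [finrank_top]; omega
  obtain ⟨p₁, -, hp₁0, hp₁, hPp₁⟩ := M.exists_fixed_sing ch (P : Subgroup Γ) P.2 ⊤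
    (fun _ _ _ _ => Submodule.mem_top) h3
  have hUP : M.U p ≤ (P : Subgroup Γ) := (M.U_le_N2 p w h.hp h.hpw).trans hNP
  obtain ⟨c, hc⟩ := M.fixed_of_U hQ (by omega) p h.hp0 h.hp p₁ (fun y hy => hPp₁ y (hUP hy))
  have hc0 : c ≠ 0 := by
    intro h0
    rw [h0, zero_smul] at hc
    exact hp₁0 hc
  have hPp : ∀ x ∈ (P : Subgroup Γ), M.ρ x p = p := by
    intro x hx
    have := hPp₁ x hx
    rw [hc, map_smul] at this
    exact smul_right_injective V hc0 this
  obtain ⟨w₁, hw₁, hpw₁, hind₁, hPw₁, -, hz⟩ := M.sylow_center_of_fix hQ h7 ch P p h.hp0 h.hp hPp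
  have hw₁mem : w₁ ∈ Submodule.span F {p, w} := by
    apply M.fixed_N2 hQ h7 p w h.hp0 h.hind h.hp h.hw h.hpw w₁
    intro v hv1 hv2
    exact hPw₁ _ (hNP (M.E_mem_N2 p w v h.hw h.hpw hv1 hv2))
  have hline₁ : IsLine Q p w₁ := ⟨h.hp0, hind₁, h.hp, hw₁, hpw₁⟩
  have hle : M.X p w₁ ≤ M.X p w :=
    M.X_eq_of_mem_span p w p w₁ h hline₁ (Submodule.subset_span (by simp)) hw₁mem
  have hwmem : w ∈ Submodule.span F {p, w₁} := by
    obtain ⟨a, b, hab⟩ := Submodule.mem_span_pair.1 hw₁mem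
    have hb : b ≠ 0 := by
      intro hb
      rw [hb, zero_smul, add_zero] at hab
      exact hind₁ a hab.symm
    rw [Submodule.mem_span_pair]
    refine ⟨-(b⁻¹ * a), b⁻¹, ?_⟩
    rw [← hab, smul_add, smul_smul, smul_smul, inv_mul_cancel₀ hb]; module
  have hge : M.X p w ≤ M.X p w₁ :=
    M.X_eq_of_mem_span p w₁ p w hline₁ h (Submodule.subset_span (by simp)) hwmem
  refine ⟨P, fun z => ?_⟩
  rw [hz, le_antisymm hle hge]

end OModel

end

end Cfsg.Agent.Lib.Helper36.AutO
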