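import Mathlib
import Cfsg.Agent.Lib.Helper36.AutO.SylowCentre2

set_option autoImplicit false
set_option linter.unusedSimpArgs false
set_option linter.unusedVariables false
set_option linter.unusedSectionVars false

/-!
# Totally singular lines: basic facts
-/

namespace Cfsg.Agent.Lib.Helper36.AutO

open Cfsg.Agent.Lib.Helper13 hiding isoGroup mem_isoGroup
open Cfsg.Agent.Lib.Helper36 Cfsg.Agent.Lib.Helper44 Module

section
variable {F V : Type*} [Field F] [AddCommGroup V] [Module F V]

local notation "pol" => QuadraticMap.polar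

variable {Q : QuadraticForm F V}

theorem IsLine.Q_comb {p w : V} (h : IsLine Q p w) (a b : F) : Q (a • p + b • w) = 0 := by
  rw [Q_add', QuadraticMap.map_smul, QuadraticMap.map_smul, h.hp, h.hw,
    QuadraticMap.polar_smul_left, QuadraticMap.polar_smul_right, h.hpw]
  simp

theorem IsLine.Q_span {p w : V} (h : IsLine Q p w) {x : V} (hx : x ∈ Submodule.span F {p, w}) :
    Q x = 0 := by
  obtain ⟨a, b, rfl⟩ := Submodule.mem_span_pair.1 hx
  exact h.Q_comb a b

theorem IsLine.pol_span {p w : V} (h : IsLine Q p w) {x y : V}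
    (hx : x ∈ Submodule.span F {p, w}) (hy : y ∈ Submodule.span F {p, w}) : pol (⇑Q) x y = 0 := by
  obtain ⟨a, b, rfl⟩ := Submodule.mem_span_pair.1 hx
  obtain ⟨c, d, rfl⟩ := Submodule.mem_span_pair.1 hy
  simp only [QuadraticMap.polar_add_left, QuadraticMap.polar_add_right,
    QuadraticMap.polar_smul_left, QuadraticMap.polar_smul_right, h.hpw, h.hwp,
    pol_self_of_sing Q p h.hp, pol_self_of_sing Q w h.hw, smul_zero, add_zero]

theorem IsLine.indep {p w : V} (h : IsLine Q p w) (a b : F) (hab : a • p + b • w = 0) :
    a = 0 ∧ b = 0 := indep2 p w h.hp0 h.hind a b hab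

theorem IsLine.finrank_span [FiniteDimensional F V] {p w : V} (h : IsLine Q p w) :
    finrank F (Submodule.span F {p, w}) = 2 := by
  have hli : LinearIndependent F ![p, w] := by
    rw [LinearIndependent.pair_iff]
    intro s t hst
    exact h.indep s t hst
  have h1 := finrank_span_eq_card hli
  rw [Fintype.card_fin] at h1
  have hr : Set.range ![p, w] = {p, w} := by
    ext v; simp [eq_comm, or_comm]
  rw [hr] at h1
  exact h1

/-- rebasing a totally singular line at one of its non-zero vectors -/
theorem IsLine.rebase {p w : V} (h : IsLine Q p w) (r : V) (hr : r ∈ Submodule.span F {p, w})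
    (hr0 : r ≠ 0) : ∃ w₂, IsLine Q r w₂ ∧ Submodule.span F {r, w₂} = Submodule.span F {p, w} := by
  obtain ⟨a, b, hab⟩ := Submodule.mem_span_pair.1 hr
  have hQr : Q r = 0 := h.Q_span hr
  have hp_mem : p ∈ Submodule.span F {p, w} := Submodule.subset_span (by simp)
  have hw_mem : w ∈ Submodule.span F {p, w} := Submodule.subset_span (by simp)
  by_cases hb : b = 0
  · -- r = a p
    rw [hb, zero_smul, add_zero] at hab
    have ha : a ≠ 0 := by
      intro ha
      rw [ha, zero_smul] at hab
      exact hr0 hab.symm
    refine ⟨w, ⟨hr0, ?_, hQr, h.hw, h.pol_span hr hw_mem⟩, ?_⟩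
    · intro c hc
      rw [← hab, smul_smul] at hc
      exact h.hind _ hc
    · apply le_antisymm
      · rw [Submodule.span_le]
        intro x hx
        rcases hx with rfl | rfl
        · exact hr
        · exact hw_mem
      · rw [Submodule.span_le]
        intro x hx
        rcases hx with rfl | rfl
        · have : x = a⁻¹ • r := by rw [← hab, smul_smul, inv_mul_cancel₀ ha, one_smul]
          rw [this]
          exact Submodule.smul_mem _ _ (Submodule.subset_span (by simp))
        · exact Submodule.subset_span (by simp)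
  · refine ⟨p, ⟨hr0, ?_, hQr, h.hp, h.pol_span hr hp_mem⟩, ?_⟩
    · intro c hc
      rw [← hab, smul_add, smul_smul, smul_smul] at hc
      have h1 : (c * a - 1) • p + (c * b) • w = 0 := by
        rw [sub_smul, one_smul, sub_add_eq_add_sub, sub_eq_zero]; exact hc.symm
      obtain ⟨h2, h3⟩ := h.indep _ _ h1
      rcases mul_eq_zero.1 h3 with h4 | h4
      · rw [h4, zero_mul, zero_sub] at h2
        exact one_ne_zero (neg_eq_zero.1 h2)
      · exact hb h4
    · apply le_antisymm
      · rw [Submodule.span_le]
        intro x hx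
        rcases hx with rfl | rfl
        · exact hr
        · exact hp_mem
      · rw [Submodule.span_le]
        intro x hx
        rcases hx with rfl | rfl
        · exact Submodule.subset_span (by simp)
        · have : x = b⁻¹ • r - (b⁻¹ * a) • p := by
            rw [← hab, smul_add, smul_smul, smul_smul, inv_mul_cancel₀ hb]; module
          rw [this]
          exact Submodule.sub_mem _ (Submodule.smul_mem _ _ (Submodule.subset_span (by simp)))
            (Submodule.smul_mem _ _ (Submodule.subset_span (by simp)))

/-- the action of a root element of a line -/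
theorem siegel_line_apply {p w : V} (h : IsLine Q p w) (t : F) (z : V) :
    siegelLin Q p (t • w) z = z + t • (pol (⇑Q) w z • p - pol (⇑Q) p z • w) := by
  rw [siegelLin_apply, QuadraticMap.map_smul, h.hw, QuadraticMap.polar_smul_left]
  simp only [smul_eq_mul, mul_zero, zero_mul, sub_zero]
  module

variable {Γ : Type*} [Group Γ] (M : OModel Q Γ)

namespace OModel

theorem X_congr (p w p' w' : V) (h : IsLine Q p w) (h' : IsLine Q p' w')
    (hs : Submodule.span F {p', w'} = Submodule.span F {p, w}) : M.X p' w' = M.X p w := by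
  apply le_antisymm
  · apply M.X_eq_of_mem_span p w p' w' h h'
    · rw [← hs]; exact Submodule.subset_span (by simp)
    · rw [← hs]; exact Submodule.subset_span (by simp)
  · apply M.X_eq_of_mem_span p' w' p w h' h
    · rw [hs]; exact Submodule.subset_span (by simp)
    · rw [hs]; exact Submodule.subset_span (by simp)

theorem E_line_ne_one (hQ : (QuadraticMap.polarBilin Q).Nondegenerate) {p w : V}
    (h : IsLine Q p w) (t : F) (ht : t ≠ 0) : M.E p (t • w) ≠ 1 := by
  intro h1
  obtain ⟨c, hc⟩ := (M.E_eq_one_iff hQ p _ h.hp0 h.hp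
    (by rw [QuadraticMap.polar_smul_right, h.hpw, smul_zero])).1 h1
  apply h.hind (t⁻¹ * c)
  rw [← smul_smul, ← hc, smul_smul, inv_mul_cancel₀ ht, one_smul]

/-- the range of `x - 1`, `x` a root element of the line `⟨p,w⟩`, is inside the line -/
theorem X_sub_mem_span {p w : V} (h : IsLine Q p w) (x : Γ) (hx : x ∈ M.X p w) (z : V) :
    M.ρ x z - z ∈ Submodule.span F {p, w} := by
  obtain ⟨t, rfl⟩ := (M.mem_X_iff p w h.hp h.hpw x).1 hx
  rw [M.E_apply p _ h.hp (by rw [QuadraticMap.polar_smul_right, h.hpw, smul_zero]),
    siegel_line_apply h, add_sub_cancel_left]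
  apply Submodule.smul_mem
  apply Submodule.sub_mem
  · exact Submodule.smul_mem _ _ (Submodule.subset_span (by simp))
  · exact Submodule.smul_mem _ _ (Submodule.subset_span (by simp))

/-- a non-trivial root element determines its line -/
theorem span_le_of_root_mem (hQ : (QuadraticMap.polarBilin Q).Nondegenerate) {p w : V}
    (h : IsLine Q p w) (t : F) (ht : t ≠ 0) (K : Submodule F V)
    (hK : ∀ z, M.ρ (M.E p (t • w)) z - z ∈ K) : Submodule.span F {p, w} ≤ K := by
  have htw : pol (⇑Q) p (t • w) = 0 := by rw [QuadraticMap.polar_smul_right, h.hpw, smul_zero]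
  rw [Submodule.span_le]
  intro x hx
  rcases hx with rfl | rfl
  · -- `x = p`
    obtain ⟨z, hz1, hz2⟩ := dual2 Q hQ x w h.hp0 h.hind 0 1
    have := hK z
    rw [M.E_apply x _ h.hp htw, siegel_line_apply h, add_sub_cancel_left, hz1, hz2] at this
    have e : x = t⁻¹ • (t • ((1 : F) • x - (0 : F) • w)) := by
      rw [smul_smul, inv_mul_cancel₀ ht]; module
    rw [e]
    exact K.smul_mem _ this
  · obtain ⟨z, hz1, hz2⟩ := dual2 Q hQ p x h.hp0 h.hind 1 0
    have := hK z
    rw [M.E_apply p _ h.hp htw, siegel_line_apply h, add_sub_cancel_left, hz1, hz2] at this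
    have e : x = (-t⁻¹) • (t • ((0 : F) • p - (1 : F) • x)) := by
      rw [smul_smul, neg_mul, inv_mul_cancel₀ ht]; module
    rw [e]
    exact K.smul_mem _ this

/-- root groups of lines are equal iff the lines are equal -/
theorem span_eq_of_X_eq [FiniteDimensional F V] (hQ : (QuadraticMap.polarBilin Q).Nondegenerate)
    {p w p' w' : V} (h : IsLine Q p w) (h' : IsLine Q p' w') (hX : M.X p w ≤ M.X p' w') :
    Submodule.span F {p, w} = Submodule.span F {p', w'} := by
  have hle : Submodule.span F {p, w} ≤ Submodule.span F {p', w'} := by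
    apply M.span_le_of_root_mem hQ h 1 one_ne_zero
    intro z
    exact M.X_sub_mem_span h' _ (hX (M.E_mem_X p w 1)) z
  exact Submodule.eq_of_le_of_finrank_eq hle (by rw [h.finrank_span, h'.finrank_span])

end OModel

end

end Cfsg.Agent.Lib.Helper36.AutO
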