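import Mathlib
import Cfsg.Agent.Lib.Helper36.AutO.Lines

set_option autoImplicit false
set_option linter.unusedSimpArgs false
set_option linter.unusedVariables false
set_option linter.unusedSectionVars false

/-!
# Geometry: hyperbolic pairs in perps, spanning by singular vectors
-/

namespace Cfsg.Agent.Lib.Helper36.AutO

open Cfsg.Agent.Lib.Helper13 hiding isoGroup mem_isoGroup
open Cfsg.Agent.Lib.Helper36 Cfsg.Agent.Lib.Helper44 Module

section
variable {F V : Type*} [Field F] [AddCommGroup V] [Module F V]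

local notation "pol" => QuadraticMap.polar

theorem polar_comp_subtype (Q : QuadraticForm F V) (W : Submodule F V) (x y : ↥W) :
    pol (⇑(Q.comp W.subtype)) x y = pol (⇑Q) (x : V) (y : V) := by
  simp [QuadraticMap.polar]

/-- a subspace containing a hyperbolic pair is spanned by its singular vectors -/
theorem mem_span_sing_of_hyp (Q : QuadraticForm F V) (T : Submodule F V) (a b : V) (ha : a ∈ T)
    (hb : b ∈ T) (hQa : Q a = 0) (hQb : Q b = 0) (hab : pol (⇑Q) a b = 1) (y : V) (hy : y ∈ T) :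
    y ∈ Submodule.span F {v | v ∈ T ∧ Q v = 0} := by
  have hba : pol (⇑Q) b a = 1 := by rw [QuadraticMap.polar_comm]; exact hab
  set y' := y - pol (⇑Q) b y • a - pol (⇑Q) a y • b with hy'
  obtain ⟨h1, h2⟩ := hyp_decomp a b y hQa hQb hab
  rw [← hy'] at h1 h2
  have hy'T : y' ∈ T := T.sub_mem (T.sub_mem hy (T.smul_mem _ ha)) (T.smul_mem _ hb)
  set s := (-Q y') • a + b + y' with hs
  have hsT : s ∈ T := T.add_mem (T.add_mem (T.smul_mem _ ha) hb) hy'T
  have hQs : Q s = 0 := by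
    have e1 : Q ((-Q y') • a + b) = -Q y' := by
      rw [Q_add', QuadraticMap.map_smul, hQa, hQb, QuadraticMap.polar_smul_left, hab]
      simp
    rw [hs, Q_add', e1, QuadraticMap.polar_add_left, QuadraticMap.polar_smul_left, h1, h2]
    simp
  have ha_mem : a ∈ Submodule.span F {v | v ∈ T ∧ Q v = 0} := Submodule.subset_span ⟨ha, hQa⟩
  have hb_mem : b ∈ Submodule.span F {v | v ∈ T ∧ Q v = 0} := Submodule.subset_span ⟨hb, hQb⟩
  have hs_mem : s ∈ Submodule.span F {v | v ∈ T ∧ Q v = 0} := Submodule.subset_span ⟨hsT, hQs⟩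
  have e : y = s + (Q y' + pol (⇑Q) b y) • a + (pol (⇑Q) a y - 1) • b := by
    rw [hs, hy']; module
  rw [e]
  exact Submodule.add_mem _ (Submodule.add_mem _ hs_mem (Submodule.smul_mem _ _ ha_mem))
    (Submodule.smul_mem _ _ hb_mem)

/-- explicit version of `hyp_split`: the orthogonal complement of a hyperbolic pair -/
theorem hyp_split_explicit [FiniteDimensional F V]
    (Q : QuadraticForm F V) (hQ : (QuadraticMap.polarBilin Q).Nondegenerate) (e f : V)
    (hQe : Q e = 0) (hQf : Q f = 0) (hef : QuadraticMap.polar Q e f = 1) :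
    ∃ W : Submodule F V,
    (QuadraticMap.polarBilin (Q.comp W.subtype)).Nondegenerate ∧
      finrank F W + 2 = finrank F V ∧
      (∀ w, w ∈ W ↔ QuadraticMap.polar Q e w = 0 ∧ QuadraticMap.polar Q f w = 0) := by
  set B : LinearMap.BilinForm F V := QuadraticMap.polarBilin Q with hBdef
  refine ⟨LinearMap.BilinForm.orthogonal B (Submodule.span F {e, f}), ?_⟩
  have hS : B.IsSymm := polarBilin_isSymm Q
  have hee : B e e = 0 := by
    simp [hBdef, QuadraticMap.polar_self, hQe]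
  have hff : B f f = 0 := by
    simp [hBdef, QuadraticMap.polar_self, hQf]
  have hef' : B e f = 1 := hef
  have hfe' : B f e = 1 := by rw [← hS.eq]; exact hef
  have hmemW : ∀ w, w ∈ LinearMap.BilinForm.orthogonal B (Submodule.span F {e, f}) ↔
      B e w = 0 ∧ B f w = 0 := by
    intro w
    rw [LinearMap.BilinForm.mem_orthogonal_iff]
    constructor
    · intro hw
      exact ⟨hw e (Submodule.subset_span (by simp)), hw f (Submodule.subset_span (by simp))⟩
    · rintro ⟨h1, h2⟩ n hn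
      obtain ⟨a, b, rfl⟩ := Submodule.mem_span_pair.1 hn
      show B (a • e + b • f) w = 0
      rw [map_add, map_smul, map_smul, LinearMap.add_apply, LinearMap.smul_apply,
        LinearMap.smul_apply, h1, h2]
      simp
  have hdisj : Disjoint (Submodule.span F {e, f})
      (LinearMap.BilinForm.orthogonal B (Submodule.span F {e, f})) := by
    rw [Submodule.disjoint_def]
    intro v hv hv'
    obtain ⟨a, b, rfl⟩ := Submodule.mem_span_pair.1 hv
    obtain ⟨h1, h2⟩ := (hmemW _).1 hv'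
    simp only [map_add, map_smul, smul_eq_mul, hee, hff, hef', hfe', mul_zero, mul_one, zero_add,
      add_zero] at h1 h2
    rw [h1, h2]; simp
  have hH : (LinearMap.BilinForm.restrict B (Submodule.span F {e, f})).Nondegenerate :=
    LinearMap.BilinForm.nondegenerate_restrict_of_disjoint_orthogonal B hS.isRefl hdisj
  obtain ⟨h1, h2, h3⟩ := restrict_orth_nondeg B hS hQ _ hH
  have hli : LinearIndependent F ![e, f] := by
    rw [LinearIndependent.pair_iff]
    intro s t hst
    have e1 := congrArg (fun v => B e v) hst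
    have e2 := congrArg (fun v => B f v) hst
    simp only [map_add, map_smul, smul_eq_mul, hee, hff, hef', hfe', mul_zero, mul_one, zero_add,
      add_zero, map_zero] at e1 e2
    exact ⟨e2, e1⟩
  have hfr : finrank F (Submodule.span F {e, f}) = 2 := by
    have h := finrank_span_eq_card hli
    rw [Fintype.card_fin] at h
    have hr : Set.range ![e, f] = {e, f} := by
      ext v; simp [eq_comm, or_comm]
    rw [hr] at h
    exact h
  refine ⟨?_, ?_, hmemW⟩
  · rw [polarBilin_comp_subtype]; exact h1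
  · have := Submodule.finrank_le (Submodule.span F {e, f})
    omega

/-- a hyperbolic pair orthogonal to a given hyperbolic pair (dimension at least 5) -/
theorem exists_hyp_perp_hyp [Finite F] [FiniteDimensional F V]
    (Q : QuadraticForm F V) (hQ : (QuadraticMap.polarBilin Q).Nondegenerate)
    (h5 : 5 ≤ finrank F V) (e f : V)
    (hQe : Q e = 0) (hQf : Q f = 0) (hef : pol (⇑Q) e f = 1) :
    ∃ a b : V, Q a = 0 ∧ Q b = 0 ∧ pol (⇑Q) a b = 1 ∧ pol (⇑Q) e a = 0 ∧ pol (⇑Q) f a = 0 ∧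
      pol (⇑Q) e b = 0 ∧ pol (⇑Q) f b = 0 := by
  obtain ⟨W, hW1, hW2, hW3⟩ := hyp_split_explicit Q hQ e f hQe hQf hef
  obtain ⟨a, b, W', ha, hb, hab, -, -, -⟩ := peel (Q.comp W.subtype) hW1 (by omega)
  refine ⟨(a : V), (b : V), ha, hb, ?_, ((hW3 _).1 a.2).1, ((hW3 _).1 a.2).2, ((hW3 _).1 b.2).1,
    ((hW3 _).1 b.2).2⟩
  rw [← polar_comp_subtype]; exact hab

/-- a hyperbolic pair orthogonal to `r, w₂, w₂'` where `w₂, w₂'` are singular, not orthogonal,
and `r ≠ 0` is orthogonal to both (dimension at least 9... here 7 suffices) -/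
theorem exists_hyp_perp3 [Finite F] [FiniteDimensional F V]
    (Q : QuadraticForm F V) (hQ : (QuadraticMap.polarBilin Q).Nondegenerate)
    (h7 : 7 ≤ finrank F V) (r w₂ w₂' : V) (hr0 : r ≠ 0) (hrw : pol (⇑Q) r w₂ = 0)
    (hrw' : pol (⇑Q) r w₂' = 0) (hw₂ : Q w₂ = 0) (hw₂' : Q w₂' = 0)
    (hc : pol (⇑Q) w₂ w₂' ≠ 0) :
    ∃ a b : V, Q a = 0 ∧ Q b = 0 ∧ pol (⇑Q) a b = 1 ∧ pol (⇑Q) r a = 0 ∧ pol (⇑Q) w₂ a = 0 ∧
      pol (⇑Q) w₂' a = 0 ∧ pol (⇑Q) r b = 0 ∧ pol (⇑Q) w₂ b = 0 ∧ pol (⇑Q) w₂' b = 0 := by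
  set f := (pol (⇑Q) w₂ w₂')⁻¹ • w₂' with hf
  have hQf : Q f = 0 := by rw [hf, QuadraticMap.map_smul, hw₂', smul_zero]
  have hef : pol (⇑Q) w₂ f = 1 := by
    rw [hf, QuadraticMap.polar_smul_right, smul_eq_mul, inv_mul_cancel₀ hc]
  obtain ⟨W, hW1, hW2, hW3⟩ := hyp_split_explicit Q hQ w₂ f hw₂ hQf hef
  have hrW : r ∈ W := by
    rw [hW3]
    refine ⟨by rw [QuadraticMap.polar_comm]; exact hrw, ?_⟩
    rw [hf, QuadraticMap.polar_smul_left, QuadraticMap.polar_comm (⇑Q) w₂' r, hrw', smul_zero]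
  have hr0' : (⟨r, hrW⟩ : ↥W) ≠ 0 := by
    intro h
    exact hr0 (congrArg Subtype.val h)
  obtain ⟨a, b, h1, h2, h3, h4, h5⟩ :=
    Cfsg.Agent.S0795.exists_hyp_in_perp (Q.comp W.subtype) hW1 (by omega) ⟨r, hrW⟩ hr0'
  rw [polar_comp_subtype] at h1 h2 h5
  have hfperp : ∀ v : V, pol (⇑Q) f v = 0 → pol (⇑Q) w₂' v = 0 := by
    intro v hv
    rw [hf, QuadraticMap.polar_smul_left, smul_eq_mul] at hv
    rcases mul_eq_zero.1 hv with h | h
    · exact absurd h (inv_ne_zero hc)
    · exact h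
  exact ⟨(a : V), (b : V), h3, h4, h5, h1, ((hW3 _).1 a.2).1, hfperp _ ((hW3 _).1 a.2).2, h2,
    ((hW3 _).1 b.2).1, hfperp _ ((hW3 _).1 b.2).2⟩

end

end Cfsg.Agent.Lib.Helper36.AutO
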