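import Mathlib

set_option autoImplicit false
set_option linter.unusedSimpArgs false
set_option linter.unusedVariables false
set_option linter.unusedSectionVars false

/-!
# Group-theoretic predicates (root groups as centres of Sylow subgroups, commuting, collinearity,
pencils) and their invariance under isomorphisms
-/

namespace Cfsg.Agent.Lib.Helper36.AutO.GP

variable {H H' : Type*} [Group H] [Group H'] (p : ℕ)

/-- `P` is a Sylow `p`-subgroup -/
def IsSyl (P : Subgroup H) : Prop :=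
  IsPGroup p P ∧ ∀ Q : Subgroup H, IsPGroup p Q → P ≤ Q → Q = P

/-- the centre of a subgroup, as a subgroup of the ambient group -/
def zOf (P : Subgroup H) : Subgroup H := P ⊓ Subgroup.centralizer (P : Set H)

theorem mem_zOf (P : Subgroup H) (x : H) : x ∈ zOf P ↔ x ∈ P ∧ ∀ s ∈ P, s * x = x * s := by
  unfold zOf
  rw [Subgroup.mem_inf, Subgroup.mem_centralizer_iff]
  rfl

/-- a root group: the centre of a Sylow `p`-subgroup -/
def IsRoot (R : Subgroup H) : Prop := ∃ P, IsSyl p P ∧ R = zOf P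

def Comm (R₁ R₂ : Subgroup H) : Prop := ∀ x ∈ R₁, ∀ y ∈ R₂, x * y = y * x

/-- collinear root groups -/
def Coll (R₁ R₂ : Subgroup H) : Prop :=
  Comm R₁ R₂ ∧ ∀ x ∈ R₁, ∀ y ∈ R₂, ∃ R, IsRoot p R ∧ x * y ∈ R

/-- the group generated by the common collinear neighbours -/
def nbr (R₁ R₂ : Subgroup H) : Subgroup H :=
  Subgroup.closure {x | ∃ R, IsRoot p R ∧ Coll p R R₁ ∧ Coll p R R₂ ∧ x ∈ R}

/-- the (group-theoretic) meeting relation; `N = 0` encodes "commuting" -/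
def Meet (N : ℕ) (R₁ R₂ : Subgroup H) : Prop :=
  Comm R₁ R₂ ∧ (N = 0 ∨ Coll p R₁ R₂ ∨ N < Nat.card (nbr p R₁ R₂))

/-- the pencil of two root groups -/
def pencil (N : ℕ) (R₁ R₂ : Subgroup H) : Subgroup H :=
  Subgroup.closure {x | ∃ R, IsRoot p R ∧ Meet p N R R₁ ∧ Meet p N R R₂ ∧ x ∈ R}

section invariance
variable (e : H ≃* H')

theorem map_symm_map (R' : Subgroup H') :
    (R'.map e.symm.toMonoidHom).map e.toMonoidHom = R' := by
  ext y
  simp only [Subgroup.mem_map, MulEquiv.coe_toMonoidHom]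
  constructor
  · rintro ⟨x, ⟨y', hy', rfl⟩, rfl⟩
    rwa [MulEquiv.apply_symm_apply]
  · intro hy
    exact ⟨e.symm y, ⟨y, hy, rfl⟩, e.apply_symm_apply y⟩

theorem map_map_symm (R : Subgroup H) :
    (R.map e.toMonoidHom).map e.symm.toMonoidHom = R := by
  have := map_symm_map e.symm R
  rwa [MulEquiv.symm_symm] at this

theorem mem_map_iff (R : Subgroup H) (x : H) : e x ∈ R.map e.toMonoidHom ↔ x ∈ R := by
  simp only [Subgroup.mem_map, MulEquiv.coe_toMonoidHom]
  constructor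
  · rintro ⟨y, hy, h⟩
    rwa [← e.injective h]
  · intro hx
    exact ⟨x, hx, rfl⟩

theorem IsSyl.map {P : Subgroup H} (hP : IsSyl p P) : IsSyl p (P.map e.toMonoidHom) := by
  refine ⟨hP.1.map _, fun Q' hQ' hle => ?_⟩
  have h1 : IsPGroup p (Q'.map e.symm.toMonoidHom) := hQ'.map _
  have h2 : P ≤ Q'.map e.symm.toMonoidHom := by
    intro x hx
    refine ⟨e x, hle ⟨x, hx, rfl⟩, ?_⟩
    exact e.symm_apply_apply x
  have h3 := hP.2 _ h1 h2
  rw [← h3, map_symm_map]

theorem zOf_map (P : Subgroup H) : zOf (P.map e.toMonoidHom) = (zOf P).map e.toMonoidHom := by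
  ext y
  constructor
  · intro hy
    rw [mem_zOf] at hy
    obtain ⟨⟨x, hx, rfl⟩, hc⟩ := hy
    refine ⟨x, ?_, rfl⟩
    show x ∈ zOf P
    rw [mem_zOf]
    refine ⟨hx, fun s hs => ?_⟩
    have := hc (e s) ⟨s, hs, rfl⟩
    apply e.injective
    rw [map_mul, map_mul]
    exact this
  · rintro ⟨x, hx, rfl⟩
    have hx : x ∈ zOf P := hx
    rw [mem_zOf] at hx ⊢
    refine ⟨⟨x, hx.1, rfl⟩, ?_⟩
    rintro _ ⟨s, hs, rfl⟩
    show e s * e x = e x * e s
    rw [← map_mul, ← map_mul, hx.2 s hs]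

theorem IsRoot.map {R : Subgroup H} (hR : IsRoot p R) : IsRoot p (R.map e.toMonoidHom) := by
  obtain ⟨P, hP, rfl⟩ := hR
  exact ⟨P.map e.toMonoidHom, hP.map p e, (zOf_map e P).symm⟩

theorem Comm.map {R₁ R₂ : Subgroup H} (h : Comm R₁ R₂) :
    Comm (R₁.map e.toMonoidHom) (R₂.map e.toMonoidHom) := by
  rintro _ ⟨x, hx, rfl⟩ _ ⟨y, hy, rfl⟩
  show e x * e y = e y * e x
  rw [← map_mul, ← map_mul, h x hx y hy]

theorem Coll.map {R₁ R₂ : Subgroup H} (h : Coll p R₁ R₂) :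
    Coll p (R₁.map e.toMonoidHom) (R₂.map e.toMonoidHom) := by
  refine ⟨h.1.map e, ?_⟩
  rintro _ ⟨x, hx, rfl⟩ _ ⟨y, hy, rfl⟩
  obtain ⟨R, hR, hxy⟩ := h.2 x hx y hy
  refine ⟨R.map e.toMonoidHom, hR.map p e, ?_⟩
  show e x * e y ∈ _
  rw [← map_mul]
  exact ⟨x * y, hxy, rfl⟩

theorem nbr_map (R₁ R₂ : Subgroup H) :
    nbr p (R₁.map e.toMonoidHom) (R₂.map e.toMonoidHom) = (nbr p R₁ R₂).map e.toMonoidHom := by
  unfold nbr
  rw [MonoidHom.map_closure]
  congr 1
  ext y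
  constructor
  · rintro ⟨R', hR', h1, h2, hy⟩
    refine ⟨e.symm y, ⟨R'.map e.symm.toMonoidHom, hR'.map p e.symm, ?_, ?_, ⟨y, hy, rfl⟩⟩,
      e.apply_symm_apply y⟩
    · have := h1.map p e.symm
      rwa [map_map_symm] at this
    · have := h2.map p e.symm
      rwa [map_map_symm] at this
  · rintro ⟨x, ⟨R, hR, h1, h2, hx⟩, rfl⟩
    exact ⟨R.map e.toMonoidHom, hR.map p e, h1.map p e, h2.map p e, ⟨x, hx, rfl⟩⟩

theorem card_map (R : Subgroup H) : Nat.card (R.map e.toMonoidHom) = Nat.card R :=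
  (Nat.card_congr (R.equivMapOfInjective e.toMonoidHom e.injective).toEquiv).symm

theorem Meet.map {N : ℕ} {R₁ R₂ : Subgroup H} (h : Meet p N R₁ R₂) :
    Meet p N (R₁.map e.toMonoidHom) (R₂.map e.toMonoidHom) := by
  refine ⟨h.1.map e, ?_⟩
  rcases h.2 with h0 | hc | hn
  · exact Or.inl h0
  · exact Or.inr (Or.inl (hc.map p e))
  · refine Or.inr (Or.inr ?_)
    rw [nbr_map, card_map]
    exact hn

theorem pencil_map (N : ℕ) (R₁ R₂ : Subgroup H) :
    pencil p N (R₁.map e.toMonoidHom) (R₂.map e.toMonoidHom) =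
      (pencil p N R₁ R₂).map e.toMonoidHom := by
  unfold pencil
  rw [MonoidHom.map_closure]
  congr 1
  ext y
  constructor
  · rintro ⟨R', hR', h1, h2, hy⟩
    refine ⟨e.symm y, ⟨R'.map e.symm.toMonoidHom, hR'.map p e.symm, ?_, ?_, ⟨y, hy, rfl⟩⟩,
      e.apply_symm_apply y⟩
    · have := h1.map p e.symm
      rwa [map_map_symm] at this
    · have := h2.map p e.symm
      rwa [map_map_symm] at this
  · rintro ⟨x, ⟨R, hR, h1, h2, hx⟩, rfl⟩
    exact ⟨R.map e.toMonoidHom, hR.map p e, h1.map p e, h2.map p e, ⟨x, hx, rfl⟩⟩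

theorem IsRoot.of_map {R : Subgroup H} (hR : IsRoot p (R.map e.toMonoidHom)) : IsRoot p R := by
  have := hR.map p e.symm
  rwa [map_map_symm] at this

theorem Coll.of_map {R₁ R₂ : Subgroup H}
    (h : Coll p (R₁.map e.toMonoidHom) (R₂.map e.toMonoidHom)) : Coll p R₁ R₂ := by
  have := h.map p e.symm
  rwa [map_map_symm, map_map_symm] at this

theorem Meet.of_map {N : ℕ} {R₁ R₂ : Subgroup H}
    (h : Meet p N (R₁.map e.toMonoidHom) (R₂.map e.toMonoidHom)) : Meet p N R₁ R₂ := by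
  have := h.map p e.symm
  rwa [map_map_symm, map_map_symm] at this

end invariance

end Cfsg.Agent.Lib.Helper36.AutO.GP
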