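import Mathlib
import Cfsg.Agent.Lib.Helper36.AutO.Lines

set_option autoImplicit false
set_option linter.unusedSimpArgs false
set_option linter.unusedVariables false
set_option linter.unusedSectionVars false

/-!
# Relations between long root groups: commuting and collinearity
-/

namespace Cfsg.Agent.Lib.Helper36.AutO

open Cfsg.Agent.Lib.Helper13 hiding isoGroup mem_isoGroup
open Cfsg.Agent.Lib.Helper36 Cfsg.Agent.Lib.Helper44 Module

section
variable {F V : Type*} [Field F] [AddCommGroup V] [Module F V]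

local notation "pol" => QuadraticMap.polar

/-- two subspaces are orthogonal -/
def LPerp (Q : QuadraticForm F V) (L L' : Submodule F V) : Prop :=
  ∀ x ∈ L, ∀ y ∈ L', pol (⇑Q) x y = 0

/-- two subspaces meet non-trivially -/
def LMeet (L L' : Submodule F V) : Prop := ∃ r : V, r ≠ 0 ∧ r ∈ L ∧ r ∈ L'

theorem LPerp.symm {Q : QuadraticForm F V} {L L' : Submodule F V} (h : LPerp Q L L') :
    LPerp Q L' L := fun x hx y hy => by rw [QuadraticMap.polar_comm]; exact h y hy x hx

theorem LMeet.symm {L L' : Submodule F V} (h : LMeet L L') : LMeet L' L := by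
  obtain ⟨r, h0, h1, h2⟩ := h
  exact ⟨r, h0, h2, h1⟩

theorem lperp_span_iff (Q : QuadraticForm F V) (p w p' w' : V) :
    LPerp Q (Submodule.span F {p, w}) (Submodule.span F {p', w'}) ↔
      pol (⇑Q) p p' = 0 ∧ pol (⇑Q) p w' = 0 ∧ pol (⇑Q) w p' = 0 ∧ pol (⇑Q) w w' = 0 := by
  have hp : p ∈ Submodule.span F {p, w} := Submodule.subset_span (by simp)
  have hw : w ∈ Submodule.span F {p, w} := Submodule.subset_span (by simp)
  have hp' : p' ∈ Submodule.span F {p', w'} := Submodule.subset_span (by simp)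
  have hw' : w' ∈ Submodule.span F {p', w'} := Submodule.subset_span (by simp)
  constructor
  · intro h
    exact ⟨h p hp p' hp', h p hp w' hw', h w hw p' hp', h w hw w' hw'⟩
  · rintro ⟨h1, h2, h3, h4⟩ x hx y hy
    obtain ⟨a, b, rfl⟩ := Submodule.mem_span_pair.1 hx
    obtain ⟨c, d, rfl⟩ := Submodule.mem_span_pair.1 hy
    simp only [QuadraticMap.polar_add_left, QuadraticMap.polar_add_right,
      QuadraticMap.polar_smul_left, QuadraticMap.polar_smul_right, h1, h2, h3, h4, smul_zero,
      add_zero]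

variable {Q : QuadraticForm F V} {Γ : Type*} [Group Γ] (M : OModel Q Γ)

namespace OModel

/-- root elements of orthogonal lines commute -/
theorem comm_of_perp {p w p' w' : V} (h : IsLine Q p w) (h' : IsLine Q p' w')
    (hperp : LPerp Q (Submodule.span F {p, w}) (Submodule.span F {p', w'}))
    (x y : Γ) (hx : x ∈ M.X p w) (hy : y ∈ M.X p' w') : x * y = y * x := by
  obtain ⟨h1, h2, h3, h4⟩ := (lperp_span_iff Q p w p' w').1 hperp
  have h1' : pol (⇑Q) p' p = 0 := by rw [QuadraticMap.polar_comm]; exact h1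
  have h2' : pol (⇑Q) w' p = 0 := by rw [QuadraticMap.polar_comm]; exact h2
  have h3' : pol (⇑Q) p' w = 0 := by rw [QuadraticMap.polar_comm]; exact h3
  have h4' : pol (⇑Q) w' w = 0 := by rw [QuadraticMap.polar_comm]; exact h4
  obtain ⟨s, rfl⟩ := (M.mem_X_iff p w h.hp h.hpw x).1 hx
  obtain ⟨t, rfl⟩ := (M.mem_X_iff p' w' h'.hp h'.hpw y).1 hy
  have hs : pol (⇑Q) p (s • w) = 0 := by rw [QuadraticMap.polar_smul_right, h.hpw, smul_zero]
  have ht : pol (⇑Q) p' (t • w') = 0 := by rw [QuadraticMap.polar_smul_right, h'.hpw, smul_zero]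
  apply M.ext_apply
  intro z
  rw [M.mul_apply, M.mul_apply, M.E_apply p _ h.hp hs, M.E_apply p' _ h'.hp ht,
    M.E_apply p _ h.hp hs, M.E_apply p' _ h'.hp ht, siegel_line_apply h, siegel_line_apply h',
    siegel_line_apply h, siegel_line_apply h']
  simp only [QuadraticMap.polar_add_right, QuadraticMap.polar_sub_right,
    QuadraticMap.polar_smul_right, h1, h2, h3, h4, h1', h2', h3', h4', smul_zero, sub_zero,
    add_zero]
  abel

/-- root elements of lines sharing a point commute -/
theorem comm_of_meet {p w p' w' : V} (h : IsLine Q p w) (h' : IsLine Q p' w')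
    (hmeet : LMeet (Submodule.span F {p, w}) (Submodule.span F {p', w'}))
    (x y : Γ) (hx : x ∈ M.X p w) (hy : y ∈ M.X p' w') : x * y = y * x := by
  obtain ⟨r, hr0, hr1, hr2⟩ := hmeet
  obtain ⟨w₂, hl, hs⟩ := h.rebase r hr1 hr0
  obtain ⟨w₂', hl', hs'⟩ := h'.rebase r hr2 hr0
  rw [← M.X_congr p w r w₂ h hl hs] at hx
  rw [← M.X_congr p' w' r w₂' h' hl' hs'] at hy
  exact M.U_comm r hl.hp x y (M.X_le_U r w₂ hl.hpw hx) (M.X_le_U r w₂' hl'.hpw hy)

/-- commuting root groups: the lines are orthogonal or meet -/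
theorem perp_or_meet_of_comm [FiniteDimensional F V]
    (hQ : (QuadraticMap.polarBilin Q).Nondegenerate) {p w p' w' : V} (h : IsLine Q p w)
    (h' : IsLine Q p' w')
    (hcomm : M.E p ((1 : F) • w) * M.E p' ((1 : F) • w') = M.E p' ((1 : F) • w') * M.E p ((1 : F) • w)) :
    LPerp Q (Submodule.span F {p, w}) (Submodule.span F {p', w'}) ∨
      LMeet (Submodule.span F {p, w}) (Submodule.span F {p', w'}) := by
  by_cases hm : LMeet (Submodule.span F {p, w}) (Submodule.span F {p', w'})
  · exact Or.inr hm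
  left
  set x := M.E p ((1 : F) • w) with hx
  set y := M.E p' ((1 : F) • w') with hy
  have hxX : x ∈ M.X p w := M.E_mem_X p w 1
  have hyX : y ∈ M.X p' w' := M.E_mem_X p' w' 1
  have h1w : pol (⇑Q) p ((1 : F) • w) = 0 := by rw [one_smul]; exact h.hpw
  have h1w' : pol (⇑Q) p' ((1 : F) • w') = 0 := by rw [one_smul]; exact h'.hpw
  -- `ρ x` fixes `L'` pointwise
  have hfix_gen : ∀ z, M.ρ x (M.ρ y z - z) = M.ρ y z - z := by
    intro z
    have e1 : M.ρ x (M.ρ y z - z) - (M.ρ y z - z) ∈ Submodule.span F {p, w} :=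
      M.X_sub_mem_span h x hxX _
    have e2 : M.ρ x (M.ρ y z - z) - (M.ρ y z - z) ∈ Submodule.span F {p', w'} := by
      have e3 : M.ρ x (M.ρ y z - z) = M.ρ y (M.ρ x z) - M.ρ x z := by
        rw [map_sub, ← M.mul_apply, hcomm, M.mul_apply]
      rw [e3]
      exact Submodule.sub_mem _ (M.X_sub_mem_span h' y hyX _) (M.X_sub_mem_span h' y hyX _)
    by_contra hne
    exact hm ⟨_, sub_ne_zero.2 hne, e1, e2⟩
  have hfix : ∀ m ∈ Submodule.span F {p', w'}, M.ρ x m = m := by
    have hle : Submodule.span F {p', w'} ≤ LinearMap.ker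
        (((M.ρ x : V ≃ₗ[F] V) : V →ₗ[F] V) - LinearMap.id) := by
      apply M.span_le_of_root_mem hQ h' 1 one_ne_zero
      intro z
      rw [LinearMap.mem_ker, LinearMap.sub_apply, LinearMap.id_apply, sub_eq_zero]
      exact hfix_gen z
    intro m hm'
    have := hle hm'
    rw [LinearMap.mem_ker, LinearMap.sub_apply, LinearMap.id_apply, sub_eq_zero] at this
    exact this
  intro a ha m hm'
  have e := hfix m hm'
  rw [hx, M.E_apply p _ h.hp h1w, siegel_line_apply h, one_smul] at e
  have e' : pol (⇑Q) w m • p + (-pol (⇑Q) p m) • w = 0 := by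
    have : m + (pol (⇑Q) w m • p - pol (⇑Q) p m • w) = m + 0 := by rw [add_zero]; exact e
    have := add_left_cancel this
    rw [← this]; module
  obtain ⟨e1, e2⟩ := h.indep _ _ e'
  obtain ⟨c, d, rfl⟩ := Submodule.mem_span_pair.1 ha
  rw [QuadraticMap.polar_add_left, QuadraticMap.polar_smul_left, QuadraticMap.polar_smul_left, e1,
    neg_eq_zero.1 e2]
  simp

end OModel

end

end Cfsg.Agent.Lib.Helper36.AutO
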