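import Mathlib
import Cfsg.Agent.Lib.Helper36.AutO.LineRel

set_option autoImplicit false
set_option linter.unusedSimpArgs false
set_option linter.unusedVariables false
set_option linter.unusedSectionVars false

/-!
# Collinearity of long root groups
-/

namespace Cfsg.Agent.Lib.Helper36.AutO

open Cfsg.Agent.Lib.Helper13 hiding isoGroup mem_isoGroup
open Cfsg.Agent.Lib.Helper36 Cfsg.Agent.Lib.Helper44 Module

section
variable {F V : Type*} [Field F] [AddCommGroup V] [Module F V]

local notation "pol" => QuadraticMap.polar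

variable {Q : QuadraticForm F V} {Γ : Type*} [Group Γ] (M : OModel Q Γ)

namespace OModel

/-- products of root elements of two orthogonal lines through a common point are root elements -/
theorem coll_of_perp_meet (hQ : (QuadraticMap.polarBilin Q).Nondegenerate)
    {p w p' w' : V} (h : IsLine Q p w) (h' : IsLine Q p' w')
    (hperp : LPerp Q (Submodule.span F {p, w}) (Submodule.span F {p', w'}))
    (hmeet : LMeet (Submodule.span F {p, w}) (Submodule.span F {p', w'}))
    (x y : Γ) (hx : x ∈ M.X p w) (hy : y ∈ M.X p' w') :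
    ∃ p'' w'', IsLine Q p'' w'' ∧ x * y ∈ M.X p'' w'' := by
  obtain ⟨r, hr0, hr1, hr2⟩ := hmeet
  obtain ⟨w₂, hl, hs⟩ := h.rebase r hr1 hr0
  obtain ⟨w₂', hl', hs'⟩ := h'.rebase r hr2 hr0
  rw [← M.X_congr p w r w₂ h hl hs] at hx
  rw [← M.X_congr p' w' r w₂' h' hl' hs'] at hy
  obtain ⟨s, rfl⟩ := (M.mem_X_iff r w₂ hl.hp hl.hpw x).1 hx
  obtain ⟨t, rfl⟩ := (M.mem_X_iff r w₂' hl'.hp hl'.hpw y).1 hy
  have h1 : pol (⇑Q) r (s • w₂) = 0 := by rw [QuadraticMap.polar_smul_right, hl.hpw, smul_zero]
  have h2 : pol (⇑Q) r (t • w₂') = 0 := by rw [QuadraticMap.polar_smul_right, hl'.hpw, smul_zero]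
  rw [← M.E_add r _ _ hl.hp h1 h2]
  have hw22 : pol (⇑Q) w₂ w₂' = 0 := by
    apply hperp
    · rw [← hs]; exact Submodule.subset_span (by simp)
    · rw [← hs']; exact Submodule.subset_span (by simp)
  by_cases hv : ∃ c : F, s • w₂ + t • w₂' = c • r
  · obtain ⟨c, hc⟩ := hv
    refine ⟨p, w, h, ?_⟩
    rw [(M.E_eq_one_iff hQ r _ hr0 hl.hp
      (by rw [QuadraticMap.polar_add_right, h1, h2, add_zero])).2 ⟨c, hc⟩]
    exact Subgroup.one_mem _
  · push Not at hv
    refine ⟨r, s • w₂ + t • w₂', ⟨hr0, hv, hl.hp, ?_, ?_⟩, ?_⟩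
    · rw [Q_add', QuadraticMap.map_smul, QuadraticMap.map_smul, hl.hw, hl'.hw,
        QuadraticMap.polar_smul_left, QuadraticMap.polar_smul_right, hw22]
      simp
    · rw [QuadraticMap.polar_add_right, h1, h2, add_zero]
    · have := M.E_mem_X r (s • w₂ + t • w₂') 1
      rwa [one_smul] at this

/-- if the product of two generic root elements of two distinct lines is a root element and
they commute, then the lines are orthogonal and meet -/
theorem perp_meet_of_coll [FiniteDimensional F V]
    (hQ : (QuadraticMap.polarBilin Q).Nondegenerate) {p w p' w' : V} (h : IsLine Q p w)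
    (h' : IsLine Q p' w')
    (hcomm : M.E p ((1 : F) • w) * M.E p' ((1 : F) • w') =
      M.E p' ((1 : F) • w') * M.E p ((1 : F) • w))
    (hroot : ∃ p'' w'', IsLine Q p'' w'' ∧ M.E p ((1 : F) • w) * M.E p' ((1 : F) • w') ∈ M.X p'' w'') :
    LPerp Q (Submodule.span F {p, w}) (Submodule.span F {p', w'}) ∧
      LMeet (Submodule.span F {p, w}) (Submodule.span F {p', w'}) := by
  obtain ⟨p'', w'', hl'', hmem⟩ := hroot
  have h1w : pol (⇑Q) p ((1 : F) • w) = 0 := by rw [one_smul]; exact h.hpw
  have h1w' : pol (⇑Q) p' ((1 : F) • w') = 0 := by rw [one_smul]; exact h'.hpw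
  have hK : ∀ z, M.ρ (M.E p ((1 : F) • w) * M.E p' ((1 : F) • w')) z - z ∈
      Submodule.span F {p'', w''} := fun z => M.X_sub_mem_span hl'' _ hmem z
  rcases M.perp_or_meet_of_comm hQ h h' hcomm with hperp | hmeet
  · -- orthogonal: show they meet
    refine ⟨hperp, ?_⟩
    by_contra hm
    obtain ⟨e1, e2, e3, e4⟩ := (lperp_span_iff Q p w p' w').1 hperp
    have e1' : pol (⇑Q) p' p = 0 := by rw [QuadraticMap.polar_comm]; exact e1
    have e2' : pol (⇑Q) w' p = 0 := by rw [QuadraticMap.polar_comm]; exact e2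
    have e3' : pol (⇑Q) p' w = 0 := by rw [QuadraticMap.polar_comm]; exact e3
    have e4' : pol (⇑Q) w' w = 0 := by rw [QuadraticMap.polar_comm]; exact e4
    have hform : ∀ z, M.ρ (M.E p ((1 : F) • w) * M.E p' ((1 : F) • w')) z - z =
        (pol (⇑Q) w z • p - pol (⇑Q) p z • w) + (pol (⇑Q) w' z • p' - pol (⇑Q) p' z • w') := by
      intro z
      rw [M.mul_apply, M.E_apply p _ h.hp h1w, M.E_apply p' _ h'.hp h1w', siegel_line_apply h,
        siegel_line_apply h']
      simp only [QuadraticMap.polar_add_right, QuadraticMap.polar_sub_right,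
        QuadraticMap.polar_smul_right, e1, e2, e3, e4, smul_zero, sub_zero, add_zero, one_smul]
      abel
    have hp_mem : p ∈ Submodule.span F {p, w} := Submodule.subset_span (by simp)
    have hw_mem : w ∈ Submodule.span F {p, w} := Submodule.subset_span (by simp)
    have hp'_mem : p' ∈ Submodule.span F {p', w'} := Submodule.subset_span (by simp)
    have hw'_mem : w' ∈ Submodule.span F {p', w'} := Submodule.subset_span (by simp)
    -- `p ∈ K`
    have hpK : p ∈ Submodule.span F {p'', w''} := by
      have hnot : w ∉ Submodule.span F {p, p', w'} := by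
        intro hw
        obtain ⟨a, b, c, habc⟩ := Submodule.mem_span_triple.1 hw
        apply hm
        refine ⟨w - a • p, ?_, ?_, ?_⟩
        · intro h0
          exact h.hind a (sub_eq_zero.1 h0)
        · exact Submodule.sub_mem _ hw_mem (Submodule.smul_mem _ _ hp_mem)
        · have : w - a • p = b • p' + c • w' := by rw [← habc]; abel
          rw [this]
          exact Submodule.add_mem _ (Submodule.smul_mem _ _ hp'_mem) (Submodule.smul_mem _ _ hw'_mem)
      obtain ⟨z, hz1, hz2⟩ := exists_perp_dual Q hQ _ w hnot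
      have := hK z
      rw [hform, hz2, hz1 p (Submodule.subset_span (by simp)),
        hz1 p' (Submodule.subset_span (by simp)), hz1 w' (Submodule.subset_span (by simp))] at this
      simpa using this
    have hwK : w ∈ Submodule.span F {p'', w''} := by
      have hnot : p ∉ Submodule.span F {w, p', w'} := by
        intro hp
        obtain ⟨a, b, c, habc⟩ := Submodule.mem_span_triple.1 hp
        apply hm
        refine ⟨p - a • w, ?_, ?_, ?_⟩
        · intro h0
          have h1 : p = a • w := sub_eq_zero.1 h0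
          by_cases ha : a = 0
          · rw [ha, zero_smul] at h1
            exact h.hp0 h1
          · apply h.hind a⁻¹
            rw [h1, smul_smul, inv_mul_cancel₀ ha, one_smul]
        · exact Submodule.sub_mem _ hp_mem (Submodule.smul_mem _ _ hw_mem)
        · have : p - a • w = b • p' + c • w' := by rw [← habc]; abel
          rw [this]
          exact Submodule.add_mem _ (Submodule.smul_mem _ _ hp'_mem) (Submodule.smul_mem _ _ hw'_mem)
      obtain ⟨z, hz1, hz2⟩ := exists_perp_dual Q hQ _ p hnot
      have := hK z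
      rw [hform, hz2, hz1 w (Submodule.subset_span (by simp)),
        hz1 p' (Submodule.subset_span (by simp)), hz1 w' (Submodule.subset_span (by simp))] at this
      have h2 : w = -(((0 : F) • p - (1 : F) • w) + ((0 : F) • p' - (0 : F) • w')) := by module
      rw [h2]
      exact Submodule.neg_mem _ this
    have hp'K : p' ∈ Submodule.span F {p'', w''} := by
      have hnot : w' ∉ Submodule.span F {p, w, p'} := by
        intro hw
        obtain ⟨a, b, c, habc⟩ := Submodule.mem_span_triple.1 hw
        apply hm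
        refine ⟨w' - c • p', ?_, ?_, ?_⟩
        · intro h0
          exact h'.hind c (sub_eq_zero.1 h0)
        · have : w' - c • p' = a • p + b • w := by rw [← habc]; abel
          rw [this]
          exact Submodule.add_mem _ (Submodule.smul_mem _ _ hp_mem) (Submodule.smul_mem _ _ hw_mem)
        · exact Submodule.sub_mem _ hw'_mem (Submodule.smul_mem _ _ hp'_mem)
      obtain ⟨z, hz1, hz2⟩ := exists_perp_dual Q hQ _ w' hnot
      have := hK z
      rw [hform, hz2, hz1 p (Submodule.subset_span (by simp)),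
        hz1 w (Submodule.subset_span (by simp)), hz1 p' (Submodule.subset_span (by simp))] at this
      simpa using this
    have hle : Submodule.span F {p, w} ≤ Submodule.span F {p'', w''} := by
      rw [Submodule.span_le]
      intro x hx
      rcases hx with rfl | rfl
      · exact hpK
      · exact hwK
    have heq := Submodule.eq_of_le_of_finrank_eq hle (by rw [h.finrank_span, hl''.finrank_span])
    exact hm ⟨p', h'.hp0, by rw [heq]; exact hp'K, hp'_mem⟩
  · -- meeting: show orthogonal
    refine ⟨?_, hmeet⟩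
    by_contra hnp
    obtain ⟨r, hr0, hr1, hr2⟩ := hmeet
    obtain ⟨w₂, hl, hs⟩ := h.rebase r hr1 hr0
    obtain ⟨w₂', hl', hs'⟩ := h'.rebase r hr2 hr0
    have hx : M.E p ((1 : F) • w) ∈ M.X r w₂ := by
      rw [M.X_congr p w r w₂ h hl hs]; exact M.E_mem_X p w 1
    have hy : M.E p' ((1 : F) • w') ∈ M.X r w₂' := by
      rw [M.X_congr p' w' r w₂' h' hl' hs']; exact M.E_mem_X p' w' 1
    obtain ⟨s, hs_eq⟩ := (M.mem_X_iff r w₂ hl.hp hl.hpw _).1 hx
    obtain ⟨t, ht_eq⟩ := (M.mem_X_iff r w₂' hl'.hp hl'.hpw _).1 hy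
    have hs0 : s ≠ 0 := by
      intro h0
      rw [h0, zero_smul, M.E_zero r hl.hp] at hs_eq
      exact M.E_line_ne_one hQ h 1 one_ne_zero hs_eq
    have ht0 : t ≠ 0 := by
      intro h0
      rw [h0, zero_smul, M.E_zero r hl'.hp] at ht_eq
      exact M.E_line_ne_one hQ h' 1 one_ne_zero ht_eq
    have hc : pol (⇑Q) w₂ w₂' ≠ 0 := by
      intro h0
      apply hnp
      rw [← hs, ← hs', lperp_span_iff]
      refine ⟨pol_self_of_sing Q r hl.hp, hl'.hpw, hl.hwp, h0⟩
    have h1 : pol (⇑Q) r (s • w₂) = 0 := by rw [QuadraticMap.polar_smul_right, hl.hpw, smul_zero]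
    have h2 : pol (⇑Q) r (t • w₂') = 0 := by rw [QuadraticMap.polar_smul_right, hl'.hpw, smul_zero]
    set v := s • w₂ + t • w₂' with hv
    have hrv : pol (⇑Q) r v = 0 := by rw [hv, QuadraticMap.polar_add_right, h1, h2, add_zero]
    have hQv : Q v = s * t * pol (⇑Q) w₂ w₂' := by
      rw [hv, Q_add', QuadraticMap.map_smul, QuadraticMap.map_smul, hl.hw, hl'.hw,
        QuadraticMap.polar_smul_left, QuadraticMap.polar_smul_right]
      simp only [smul_eq_mul, mul_zero, zero_add]
      ring
    obtain ⟨z, hz⟩ := Cfsg.Agent.S0795.exists_dual Q hQ r hr0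
    have hKz := hK z
    rw [hs_eq, ht_eq, ← M.E_add r _ _ hl.hp h1 h2, M.E_apply r v hl.hp hrv, siegelLin_apply, hz,
      mul_one, one_smul] at hKz
    have hQ0 := hl''.Q_span hKz
    have e : z + (pol (⇑Q) v z - Q v) • r - v - z = (pol (⇑Q) v z - Q v) • r - v := by abel
    rw [e, Q_sub, QuadraticMap.map_smul, hl.hp, QuadraticMap.polar_smul_left, hrv, hQv] at hQ0
    simp only [smul_eq_mul, mul_zero, zero_add, sub_zero] at hQ0
    rcases mul_eq_zero.1 hQ0 with h3 | h3
    · rcases mul_eq_zero.1 h3 with h4 | h4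
      · exact hs0 h4
      · exact ht0 h4
    · exact hc h3

end OModel

end

end Cfsg.Agent.Lib.Helper36.AutO
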