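import Mathlib
import Cfsg.Agent.Lib.Helper36.AutO.LineRel2
import Cfsg.Agent.Lib.Helper36.AutO.GroupPred

set_option autoImplicit false
set_option linter.unusedSimpArgs false
set_option linter.unusedVariables false
set_option linter.unusedSectionVars false

/-!
# Dictionary, part 1: root groups of `Γ ⧸ Z(Γ)` are the images of the `X p w`;
commuting and collinearity
-/

namespace Cfsg.Agent.Lib.Helper36.AutO

open Cfsg.Agent.Lib.Helper13 hiding isoGroup mem_isoGroup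
open Cfsg.Agent.Lib.Helper36 Cfsg.Agent.Lib.Helper44 Module

section
variable {F V : Type*} [Field F] [AddCommGroup V] [Module F V]

local notation "pol" => QuadraticMap.polar

variable {Q : QuadraticForm F V} {Γ : Type*} [Group Γ] (M : OModel Q Γ)

/-- the projection onto `Γ ⧸ Z(Γ)` -/
abbrev prj (Γ : Type*) [Group Γ] : Γ →* Γ ⧸ Subgroup.center Γ :=
  QuotientGroup.mk' (Subgroup.center Γ)

theorem prj_surj (Γ : Type*) [Group Γ] : Function.Surjective (prj Γ) :=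
  QuotientGroup.mk'_surjective _

namespace OModel

/-- the image of the root group of a line -/
def Xb (p w : V) : Subgroup (Γ ⧸ Subgroup.center Γ) := (M.X p w).map (prj Γ)

/-- the image of the unipotent radical -/
def Ub (p : V) : Subgroup (Γ ⧸ Subgroup.center Γ) := (M.U p).map (prj Γ)

theorem X_pow_char {p w : V} (h : IsLine Q p w) (ch : ℕ) [CharP F ch] (x : Γ)
    (hx : x ∈ M.X p w) : x ^ (ch ^ 1) = 1 := by
  obtain ⟨t, rfl⟩ := (M.mem_X_iff p w h.hp h.hpw x).1 hx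
  rw [pow_one]
  exact M.E_pow_char p _ h.hp (by rw [QuadraticMap.polar_smul_right, h.hpw, smul_zero]) ch

theorem U_pow_char {p : V} (hp : Q p = 0) (ch : ℕ) [CharP F ch] (x : Γ)
    (hx : x ∈ M.U p) : x ^ (ch ^ 1) = 1 := by
  obtain ⟨u, hu, rfl⟩ := (M.mem_U_iff p hp x).1 hx
  rw [pow_one]
  exact M.E_pow_char p _ hp hu ch

section main
variable [Finite F] [FiniteDimensional F V]
  (hQ : (QuadraticMap.polarBilin Q).Nondegenerate) (h7 : 7 ≤ finrank F V)
  (ch : ℕ) [hch : Fact ch.Prime] [hchar : CharP F ch]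

include M hQ h7 ch hch hchar

/-- the centre of the image of a Sylow subgroup is the image of the centre -/
theorem zOf_map_prj (P : Sylow ch Γ) :
    GP.zOf ((P : Subgroup Γ).map (prj Γ)) = (GP.zOf (P : Subgroup Γ)).map (prj Γ) := by
  ext y
  constructor
  · intro hy
    rw [GP.mem_zOf] at hy
    obtain ⟨⟨x, hx, rfl⟩, hc⟩ := hy
    refine ⟨x, ?_, rfl⟩
    show x ∈ GP.zOf (P : Subgroup Γ)
    rw [GP.mem_zOf]
    refine ⟨hx, fun s hs => ?_⟩
    obtain ⟨k, hk⟩ := P.2 ⟨x, hx⟩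
    have hk' : x ^ (ch ^ k) = 1 := by
      have := congrArg Subtype.val hk
      simpa using this
    exact M.commute_of_mk_commute hQ (by omega) ch s x k hk' (hc _ ⟨s, hs, rfl⟩)
  · rintro ⟨x, hx, rfl⟩
    have hx : x ∈ GP.zOf (P : Subgroup Γ) := hx
    rw [GP.mem_zOf] at hx ⊢
    refine ⟨⟨x, hx.1, rfl⟩, ?_⟩
    rintro _ ⟨s, hs, rfl⟩
    show prj Γ s * prj Γ x = prj Γ x * prj Γ s
    rw [← map_mul, ← map_mul, hx.2 s hs]

theorem zOf_eq_X (P : Sylow ch Γ) (p w : V)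
    (hz : ∀ z, (z ∈ (P : Subgroup Γ) ∧ ∀ s ∈ (P : Subgroup Γ), s * z = z * s) ↔ z ∈ M.X p w) :
    GP.zOf (P : Subgroup Γ) = M.X p w := by
  ext z
  rw [GP.mem_zOf]
  exact hz z

/-- **Root groups of `Γ ⧸ Z(Γ)`** are exactly the images of the root groups of lines. -/
theorem isRoot_iff [Finite Γ] (R : Subgroup (Γ ⧸ Subgroup.center Γ)) :
    GP.IsRoot ch R ↔ ∃ p w, IsLine Q p w ∧ R = M.Xb p w := by
  constructor
  · rintro ⟨Pb, hPb, rfl⟩
    let Pbs : Sylow ch (Γ ⧸ Subgroup.center Γ) :=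
      { toSubgroup := Pb
        isPGroup' := hPb.1
        is_maximal' := fun {Q'} hQ' hle => hPb.2 Q' hQ' hle }
    obtain ⟨P, hP⟩ := Sylow.mapSurjective_surjective (prj_surj Γ) ch Pbs
    have hP' : (P : Subgroup Γ).map (prj Γ) = Pb := by
      have := congrArg (fun S : Sylow ch (Γ ⧸ Subgroup.center Γ) => S.toSubgroup) hP
      simpa using this
    obtain ⟨p, w, hl, hz⟩ := M.sylow_center hQ h7 ch P
    refine ⟨p, w, hl, ?_⟩
    rw [← hP', M.zOf_map_prj hQ h7 ch P, M.zOf_eq_X hQ h7 ch P p w hz]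
    rfl
  · rintro ⟨p, w, hl, rfl⟩
    obtain ⟨P, hz⟩ := M.exists_sylow_center hQ h7 ch p w hl
    let Pb := P.mapSurjective (prj_surj Γ)
    refine ⟨(Pb : Subgroup _), ⟨Pb.2, fun Q' hQ' hle => Pb.3 hQ' hle⟩, ?_⟩
    have : (Pb : Subgroup (Γ ⧸ Subgroup.center Γ)) = (P : Subgroup Γ).map (prj Γ) := rfl
    rw [this, M.zOf_map_prj hQ h7 ch P, M.zOf_eq_X hQ h7 ch P p w hz]
    rfl

/-- root elements with the same image are equal -/
theorem X_eq_of_prj_eq {p w p' w' : V} (h : IsLine Q p w) (h' : IsLine Q p' w') (x y : Γ)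
    (hx : x ∈ M.X p w) (hy : y ∈ M.X p' w') (hxy : prj Γ x = prj Γ y) : x = y :=
  M.eq_of_mk_eq hQ (by omega) ch x y 1 1 (M.X_pow_char h ch x hx) (M.X_pow_char h' ch y hy) hxy

theorem span_eq_of_Xb_le {p w p' w' : V} (h : IsLine Q p w) (h' : IsLine Q p' w')
    (hle : M.Xb p w ≤ M.Xb p' w') : Submodule.span F {p, w} = Submodule.span F {p', w'} := by
  apply M.span_eq_of_X_eq hQ h h'
  intro x hx
  obtain ⟨y, hy, hyx⟩ := hle ⟨x, hx, rfl⟩
  have := M.X_eq_of_prj_eq hQ h7 ch h' h y x hy hx hyx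
  rwa [← this]

theorem comm_iff {p w p' w' : V} (h : IsLine Q p w) (h' : IsLine Q p' w') :
    GP.Comm (M.Xb p w) (M.Xb p' w') ↔
      LPerp Q (Submodule.span F {p, w}) (Submodule.span F {p', w'}) ∨
        LMeet (Submodule.span F {p, w}) (Submodule.span F {p', w'}) := by
  constructor
  · intro hc
    apply M.perp_or_meet_of_comm hQ h h'
    have h1 := hc _ ⟨_, M.E_mem_X p w 1, rfl⟩ _ ⟨_, M.E_mem_X p' w' 1, rfl⟩
    exact M.commute_of_mk_commute hQ (by omega) ch _ _ 1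
      (M.X_pow_char h' ch _ (M.E_mem_X p' w' 1)) h1
  · intro hc
    rintro _ ⟨x, hx, rfl⟩ _ ⟨y, hy, rfl⟩
    show prj Γ x * prj Γ y = prj Γ y * prj Γ x
    rw [← map_mul, ← map_mul]
    rcases hc with hc | hc
    · rw [M.comm_of_perp h h' hc x y hx hy]
    · rw [M.comm_of_meet h h' hc x y hx hy]

theorem coll_iff [Finite Γ] {p w p' w' : V} (h : IsLine Q p w) (h' : IsLine Q p' w') :
    GP.Coll ch (M.Xb p w) (M.Xb p' w') ↔
      LPerp Q (Submodule.span F {p, w}) (Submodule.span F {p', w'}) ∧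
        LMeet (Submodule.span F {p, w}) (Submodule.span F {p', w'}) := by
  constructor
  · rintro ⟨hc, hr⟩
    have hx1 := M.E_mem_X p w 1
    have hy1 := M.E_mem_X p' w' 1
    have h1 := hc _ ⟨_, hx1, rfl⟩ _ ⟨_, hy1, rfl⟩
    have hcomm := M.commute_of_mk_commute hQ (by omega) ch _ _ 1 (M.X_pow_char h' ch _ hy1) h1
    apply M.perp_meet_of_coll hQ h h' hcomm
    obtain ⟨R, hR, hmem⟩ := hr _ ⟨_, hx1, rfl⟩ _ ⟨_, hy1, rfl⟩
    obtain ⟨p'', w'', hl'', rfl⟩ := (M.isRoot_iff hQ h7 ch R).1 hR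
    refine ⟨p'', w'', hl'', ?_⟩
    obtain ⟨k, hk, hkxy⟩ := hmem
    have hpow : (M.E p ((1 : F) • w) * M.E p' ((1 : F) • w')) ^ (ch ^ 1) = 1 := by
      have hc' : Commute (M.E p ((1 : F) • w)) (M.E p' ((1 : F) • w')) := hcomm
      rw [hc'.mul_pow, M.X_pow_char h ch _ hx1, M.X_pow_char h' ch _ hy1, one_mul]
    have : k = M.E p ((1 : F) • w) * M.E p' ((1 : F) • w') := by
      apply M.eq_of_mk_eq hQ (by omega) ch _ _ 1 1 (M.X_pow_char hl'' ch k hk) hpow
      rw [← map_mul] at hkxy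
      exact hkxy
    rw [← this]
    exact hk
  · rintro ⟨hperp, hmeet⟩
    refine ⟨(M.comm_iff hQ h7 ch h h').2 (Or.inl hperp), ?_⟩
    rintro _ ⟨x, hx, rfl⟩ _ ⟨y, hy, rfl⟩
    obtain ⟨p'', w'', hl'', hmem⟩ := M.coll_of_perp_meet hQ h h' hperp hmeet x y hx hy
    refine ⟨M.Xb p'' w'', (M.isRoot_iff hQ h7 ch _).2 ⟨p'', w'', hl'', rfl⟩, ?_⟩
    show prj Γ x * prj Γ y ∈ _
    rw [← map_mul]
    exact ⟨x * y, hmem, rfl⟩

end main

end OModel

end

end Cfsg.Agent.Lib.Helper36.AutO
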