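import Mathlib
import Cfsg.Agent.Lib.Helper36.AutO.Dict1
import Cfsg.Agent.Lib.Helper36.AutO.Geom

set_option autoImplicit false
set_option linter.unusedSimpArgs false
set_option linter.unusedVariables false
set_option linter.unusedSectionVars false

/-!
# Dictionary, part 2: many common collinear neighbours for two non-orthogonal lines through a point
-/

namespace Cfsg.Agent.Lib.Helper36.AutO

open Cfsg.Agent.Lib.Helper13 hiding isoGroup mem_isoGroup
open Cfsg.Agent.Lib.Helper36 Cfsg.Agent.Lib.Helper44 Module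

section
variable {F V : Type*} [Field F] [AddCommGroup V] [Module F V]

local notation "pol" => QuadraticMap.polar

variable {Q : QuadraticForm F V} {Γ : Type*} [Group Γ] (M : OModel Q Γ)

namespace OModel

section main
variable [Finite F] [FiniteDimensional F V]
  (hQ : (QuadraticMap.polarBilin Q).Nondegenerate) (h7 : 7 ≤ finrank F V)
  (ch : ℕ) [hch : Fact ch.Prime] [hchar : CharP F ch]

include M hQ h7 ch hch hchar

/-- if a subgroup of `Γ ⧸ Z` contains the root groups of all lines `⟨r,y⟩` with `y ∈ T` singular,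
where `T ≤ r^⊥` contains a hyperbolic pair, then it contains the image of `E r y` for all `y ∈ T` -/
theorem prj_E_mem_of_lines (r : V) (hr0 : r ≠ 0) (hr : Q r = 0) (T : Submodule F V)
    (hT : ∀ y ∈ T, pol (⇑Q) r y = 0) (a b : V) (ha : a ∈ T) (hb : b ∈ T) (hQa : Q a = 0)
    (hQb : Q b = 0) (hab : pol (⇑Q) a b = 1) (S : Subgroup (Γ ⧸ Subgroup.center Γ))
    (hS : ∀ y ∈ T, IsLine Q r y → M.Xb r y ≤ S) (y : V) (hy : y ∈ T) :
    prj Γ (M.E r y) ∈ S := by
  have key : ∀ y' ∈ Submodule.span F {v | v ∈ T ∧ Q v = 0},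
      pol (⇑Q) r y' = 0 ∧ ∀ c : F, prj Γ (M.E r (c • y')) ∈ S := by
    intro y' hy'
    induction hy' using Submodule.span_induction with
    | mem v hv =>
      obtain ⟨hvT, hQv⟩ := hv
      refine ⟨hT v hvT, fun c => ?_⟩
      by_cases hd : ∃ d : F, v = d • r
      · obtain ⟨d, rfl⟩ := hd
        have : M.E r (c • d • r) = 1 := by
          rw [smul_smul]
          have := M.E_add_smul r 0 (c * d) hr (by rw [QuadraticMap.polar_zero_right])
          rw [zero_add] at this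
          rw [this, M.E_zero r hr]
        rw [this, map_one]
        exact S.one_mem
      · push Not at hd
        have hl : IsLine Q r v := ⟨hr0, hd, hr, hQv, hT v hvT⟩
        exact hS v hvT hl ⟨_, M.E_mem_X r v c, rfl⟩
    | zero =>
      refine ⟨by rw [QuadraticMap.polar_zero_right], fun c => ?_⟩
      rw [smul_zero, M.E_zero r hr, map_one]
      exact S.one_mem
    | add x z _ _ hx hz =>
      refine ⟨by rw [QuadraticMap.polar_add_right, hx.1, hz.1, add_zero], fun c => ?_⟩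
      rw [smul_add, M.E_add r _ _ hr (by rw [QuadraticMap.polar_smul_right, hx.1, smul_zero])
        (by rw [QuadraticMap.polar_smul_right, hz.1, smul_zero]), map_mul]
      exact S.mul_mem (hx.2 c) (hz.2 c)
    | smul d x _ hx =>
      refine ⟨by rw [QuadraticMap.polar_smul_right, hx.1, smul_zero], fun c => ?_⟩
      rw [smul_smul]
      exact hx.2 _
  have := (key y (mem_span_sing_of_hyp Q T a b ha hb hQa hQb hab y hy)).2 1
  rwa [one_smul] at this

/-- two non-orthogonal lines through `r` have more than `q^4` common collinear neighbours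
(in dimension at least 9) -/
theorem card_nbr_gt' [Finite Γ] (h9 : 9 ≤ finrank F V) (r w₂ w₂' : V) (hl : IsLine Q r w₂)
    (hl' : IsLine Q r w₂') (hc : pol (⇑Q) w₂ w₂' ≠ 0) :
    (Nat.card F) ^ 4 < Nat.card (GP.nbr ch (M.Xb r w₂) (M.Xb r w₂')) := by
  obtain ⟨a, b, hQa, hQb, hab, hra, hwa, hwa', hrb, hwb, hwb'⟩ :=
    exists_hyp_perp3 Q hQ h7 r w₂ w₂' hl.hp0 hl.hpw hl'.hpw hl.hw hl'.hw hc
  obtain ⟨f, hf⟩ := Cfsg.Agent.S0795.exists_dual Q hQ r hl.hp0
  set φ : V →ₗ[F] (F × F) × (F × F) :=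
    ((QuadraticMap.polarBilin Q r).prod (QuadraticMap.polarBilin Q w₂)).prod
      ((QuadraticMap.polarBilin Q w₂').prod (QuadraticMap.polarBilin Q f)) with hφ
  have hker : 5 ≤ finrank F (LinearMap.ker φ) := by
    have h1 := LinearMap.finrank_range_add_finrank_ker φ
    have h2 : finrank F (LinearMap.range φ) ≤ 4 := by
      have := Submodule.finrank_le (LinearMap.range φ)
      rw [Module.finrank_prod, Module.finrank_prod, Module.finrank_self] at this
      exact this
    omega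
  have hmem1 : ∀ v, v ∈ LinearMap.ker φ → pol (⇑Q) r v = 0 ∧ pol (⇑Q) w₂ v = 0 ∧
      pol (⇑Q) w₂' v = 0 ∧ pol (⇑Q) f v = 0 := by
    intro v hv
    rw [LinearMap.mem_ker] at hv
    exact ⟨(Prod.ext_iff.1 (Prod.ext_iff.1 hv).1).1, (Prod.ext_iff.1 (Prod.ext_iff.1 hv).1).2,
      (Prod.ext_iff.1 (Prod.ext_iff.1 hv).2).1, (Prod.ext_iff.1 (Prod.ext_iff.1 hv).2).2⟩
  set ψ : V →ₗ[F] F × (F × F) :=
    (QuadraticMap.polarBilin Q r).prod
      ((QuadraticMap.polarBilin Q w₂).prod (QuadraticMap.polarBilin Q w₂')) with hψ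
  have hmem0 : ∀ v, v ∈ LinearMap.ker ψ ↔ pol (⇑Q) r v = 0 ∧ pol (⇑Q) w₂ v = 0 ∧
      pol (⇑Q) w₂' v = 0 := by
    intro v
    rw [LinearMap.mem_ker]
    constructor
    · intro hv
      exact ⟨(Prod.ext_iff.1 hv).1, (Prod.ext_iff.1 (Prod.ext_iff.1 hv).2).1,
        (Prod.ext_iff.1 (Prod.ext_iff.1 hv).2).2⟩
    · rintro ⟨h1, h2, h3⟩
      exact Prod.ext h1 (Prod.ext h2 h3)
  -- every `E r y`, `y ∈ ker ψ`, maps into `nbr`
  have hall : ∀ y ∈ LinearMap.ker ψ, prj Γ (M.E r y) ∈ GP.nbr ch (M.Xb r w₂) (M.Xb r w₂') := by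
    intro y hy
    apply M.prj_E_mem_of_lines hQ h7 ch r hl.hp0 hl.hp (LinearMap.ker ψ)
      (fun y hy => ((hmem0 y).1 hy).1) a b ((hmem0 a).2 ⟨hra, hwa, hwa'⟩)
      ((hmem0 b).2 ⟨hrb, hwb, hwb'⟩) hQa hQb hab _ _ y hy
    intro v hv hlv
    obtain ⟨hv1, hv2, hv3⟩ := (hmem0 v).1 hv
    intro x hx
    apply Subgroup.subset_closure
    refine ⟨M.Xb r v, (M.isRoot_iff hQ h7 ch _).2 ⟨r, v, hlv, rfl⟩, ?_, ?_, hx⟩
    · rw [M.coll_iff hQ h7 ch hlv hl]
      refine ⟨?_, r, hl.hp0, Submodule.subset_span (by simp), Submodule.subset_span (by simp)⟩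
      rw [lperp_span_iff]
      refine ⟨pol_self_of_sing Q r hl.hp, hl.hpw, hlv.hwp, ?_⟩
      rw [QuadraticMap.polar_comm]; exact hv2
    · rw [M.coll_iff hQ h7 ch hlv hl']
      refine ⟨?_, r, hl.hp0, Submodule.subset_span (by simp), Submodule.subset_span (by simp)⟩
      rw [lperp_span_iff]
      refine ⟨pol_self_of_sing Q r hl.hp, hl'.hpw, hlv.hwp, ?_⟩
      rw [QuadraticMap.polar_comm]; exact hv3
  -- the injection
  have hle : LinearMap.ker φ ≤ LinearMap.ker ψ := by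
    intro v hv
    obtain ⟨h1, h2, h3, -⟩ := hmem1 v hv
    exact (hmem0 v).2 ⟨h1, h2, h3⟩
  let ι : ↥(LinearMap.ker φ) → ↥(GP.nbr ch (M.Xb r w₂) (M.Xb r w₂')) :=
    fun y => ⟨prj Γ (M.E r (y : V)), hall _ (hle y.2)⟩
  have hinj : Function.Injective ι := by
    intro y y' hyy'
    have h1 : prj Γ (M.E r (y : V)) = prj Γ (M.E r (y' : V)) := congrArg Subtype.val hyy'
    obtain ⟨hy1, -, -, hy4⟩ := hmem1 _ y.2
    obtain ⟨hy1', -, -, hy4'⟩ := hmem1 _ y'.2
    have h2 : M.E r (y : V) = M.E r (y' : V) :=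
      M.eq_of_mk_eq hQ (by omega) ch _ _ 1 1
        (M.U_pow_char hl.hp ch _ (M.E_mem_U r _ hy1)) (M.U_pow_char hl.hp ch _ (M.E_mem_U r _ hy1')) h1
    obtain ⟨c, hc'⟩ := (M.E_eq_iff hQ r _ _ hl.hp0 hl.hp hy1 hy1').1 h2
    have h3 : pol (⇑Q) f (y : V) = pol (⇑Q) f (y' : V) + c := by
      rw [hc', QuadraticMap.polar_add_right, QuadraticMap.polar_smul_right,
        QuadraticMap.polar_comm (⇑Q) f r, hf, smul_eq_mul, mul_one]
    rw [hy4, hy4', zero_add] at h3
    apply Subtype.ext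
    rw [hc', ← h3, zero_smul, add_zero]
  have hcard := Nat.card_le_card_of_injective ι hinj
  have hcard2 : Nat.card ↥(LinearMap.ker φ) = Nat.card F ^ finrank F ↥(LinearMap.ker φ) :=
    Module.natCard_eq_pow_finrank
  have hq : 2 ≤ Nat.card F := by
    have : Nontrivial F := inferInstance
    exact Finite.one_lt_card
  calc Nat.card F ^ 4 < Nat.card F ^ 5 := Nat.pow_lt_pow_right hq (by norm_num)
    _ ≤ Nat.card F ^ finrank F ↥(LinearMap.ker φ) := Nat.pow_le_pow_right (by omega) hker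
    _ = Nat.card ↥(LinearMap.ker φ) := hcard2.symm
    _ ≤ _ := hcard

end main

end OModel

end

end Cfsg.Agent.Lib.Helper36.AutO
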