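import Mathlib
import Cfsg.Agent.Lib.Helper36.AutO.Dict2

set_option autoImplicit false
set_option linter.unusedSimpArgs false
set_option linter.unusedVariables false
set_option linter.unusedSectionVars false

/-!
# Dictionary, part 3: few common collinear neighbours for two disjoint orthogonal lines
-/

namespace Cfsg.Agent.Lib.Helper36.AutO

open Cfsg.Agent.Lib.Helper13 hiding isoGroup mem_isoGroup
open Cfsg.Agent.Lib.Helper36 Cfsg.Agent.Lib.Helper44 Module

section
variable {F V : Type*} [Field F] [AddCommGroup V] [Module F V]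

local notation "pol" => QuadraticMap.polar

variable {Q : QuadraticForm F V} {Γ : Type*} [Group Γ] (M : OModel Q Γ)

namespace OModel

/-- Eichler elements with mutually orthogonal data commute -/
theorem E_comm_of_perp (p u w v : V) (hp : Q p = 0) (hw : Q w = 0) (hpu : pol (⇑Q) p u = 0)
    (hwv : pol (⇑Q) w v = 0) (hpw : pol (⇑Q) p w = 0) (hpv : pol (⇑Q) p v = 0)
    (huw : pol (⇑Q) u w = 0) (huv : pol (⇑Q) u v = 0) :
    M.E p u * M.E w v = M.E w v * M.E p u := by
  have hwp : pol (⇑Q) w p = 0 := by rw [QuadraticMap.polar_comm]; exact hpw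
  have hvp : pol (⇑Q) v p = 0 := by rw [QuadraticMap.polar_comm]; exact hpv
  have hwu : pol (⇑Q) w u = 0 := by rw [QuadraticMap.polar_comm]; exact huw
  have hvu : pol (⇑Q) v u = 0 := by rw [QuadraticMap.polar_comm]; exact huv
  apply M.ext_apply
  intro z
  rw [M.mul_apply, M.mul_apply, M.E_apply p u hp hpu, M.E_apply w v hw hwv, M.E_apply p u hp hpu,
    M.E_apply w v hw hwv]
  simp only [siegelLin_apply, QuadraticMap.polar_add_right, QuadraticMap.polar_sub_right,
    QuadraticMap.polar_smul_right, hpw, hpv, huw, huv, hwp, hvp, hwu, hvu, smul_zero, sub_zero,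
    add_zero]
  abel

/-- splitting a root element of the line `⟨a,b⟩`, `a = a₁ p + a₂ w` -/
theorem E_split (p w b : V) (a₁ a₂ t : F) (hp : Q p = 0) (hw : Q w = 0) (hb : Q b = 0)
    (hpw : pol (⇑Q) p w = 0) (hpb : pol (⇑Q) p b = 0) (hwb : pol (⇑Q) w b = 0) :
    M.E (a₁ • p + a₂ • w) (t • b) = M.E p ((t * a₁) • b) * M.E w ((t * a₂) • b) := by
  have hwp : pol (⇑Q) w p = 0 := by rw [QuadraticMap.polar_comm]; exact hpw
  have hbp : pol (⇑Q) b p = 0 := by rw [QuadraticMap.polar_comm]; exact hpb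
  have hbw : pol (⇑Q) b w = 0 := by rw [QuadraticMap.polar_comm]; exact hwb
  have hbb : pol (⇑Q) b b = 0 := pol_self_of_sing Q b hb
  have hQa : Q (a₁ • p + a₂ • w) = 0 := by
    rw [Q_add', QuadraticMap.map_smul, QuadraticMap.map_smul, hp, hw,
      QuadraticMap.polar_smul_left, QuadraticMap.polar_smul_right, hpw]
    simp
  have hab : pol (⇑Q) (a₁ • p + a₂ • w) (t • b) = 0 := by
    rw [QuadraticMap.polar_add_left, QuadraticMap.polar_smul_left, QuadraticMap.polar_smul_left,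
      QuadraticMap.polar_smul_right, QuadraticMap.polar_smul_right, hpb, hwb]
    simp
  apply M.ext_apply
  intro z
  rw [M.mul_apply, M.E_apply _ _ hQa hab,
    M.E_apply p _ hp (by rw [QuadraticMap.polar_smul_right, hpb, smul_zero]),
    M.E_apply w _ hw (by rw [QuadraticMap.polar_smul_right, hwb, smul_zero])]
  simp only [siegelLin_apply, QuadraticMap.map_smul, hb, QuadraticMap.polar_add_left,
    QuadraticMap.polar_add_right, QuadraticMap.polar_sub_right, QuadraticMap.polar_smul_left,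
    QuadraticMap.polar_smul_right, hpw, hwp, hbp, hbw, hbb, hpb, hwb, smul_eq_mul, mul_zero,
    zero_mul, sub_zero, add_zero]
  module

/-- the group `{E p u * E w v : u, v ∈ L'}` for a line `⟨p,w⟩` orthogonal to `L'` -/
def Dgrp (p w : V) (L' : Submodule F V) (hp : Q p = 0) (hw : Q w = 0)
    (hpw : pol (⇑Q) p w = 0) (hL' : ∀ u ∈ L', ∀ v ∈ L', pol (⇑Q) u v = 0)
    (hpL : ∀ u ∈ L', pol (⇑Q) p u = 0) (hwL : ∀ u ∈ L', pol (⇑Q) w u = 0) : Subgroup Γ where
  carrier := {g | ∃ u v, u ∈ L' ∧ v ∈ L' ∧ g = M.E p u * M.E w v}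
  one_mem' := ⟨0, 0, L'.zero_mem, L'.zero_mem, by rw [M.E_zero p hp, M.E_zero w hw, one_mul]⟩
  mul_mem' := by
    rintro _ _ ⟨u, v, hu, hv, rfl⟩ ⟨u', v', hu', hv', rfl⟩
    refine ⟨u + u', v + v', L'.add_mem hu hu', L'.add_mem hv hv', ?_⟩
    have hc : M.E w v * M.E p u' = M.E p u' * M.E w v :=
      (M.E_comm_of_perp p u' w v hp hw (hpL u' hu') (hwL v hv) hpw (hpL v hv)
        (by rw [QuadraticMap.polar_comm]; exact hwL u' hu') (hL' u' hu' v hv)).symm
    rw [M.E_add p u u' hp (hpL u hu) (hpL u' hu'), M.E_add w v v' hw (hwL v hv) (hwL v' hv')]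
    calc M.E p u * M.E w v * (M.E p u' * M.E w v')
        = M.E p u * (M.E w v * M.E p u') * M.E w v' := by group
      _ = M.E p u * (M.E p u' * M.E w v) * M.E w v' := by rw [hc]
      _ = M.E p u * M.E p u' * (M.E w v * M.E w v') := by group
  inv_mem' := by
    rintro _ ⟨u, v, hu, hv, rfl⟩
    refine ⟨-u, -v, L'.neg_mem hu, L'.neg_mem hv, ?_⟩
    have hc : M.E p u * M.E w v = M.E w v * M.E p u :=
      M.E_comm_of_perp p u w v hp hw (hpL u hu) (hwL v hv) hpw (hpL v hv)
        (by rw [QuadraticMap.polar_comm]; exact hwL u hu) (hL' u hu v hv)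
    rw [M.E_neg p u hp (hpL u hu), M.E_neg w v hw (hwL v hv), hc, mul_inv_rev]

section main
variable [Finite F] [FiniteDimensional F V]
  (hQ : (QuadraticMap.polarBilin Q).Nondegenerate) (h7 : 7 ≤ finrank F V)
  (ch : ℕ) [hch : Fact ch.Prime] [hchar : CharP F ch]

include M hQ h7 ch hch hchar

/-- two disjoint orthogonal lines have at most `q^4` common collinear neighbours -/
theorem card_nbr_le [Finite Γ] {p w p' w' : V} (h : IsLine Q p w) (h' : IsLine Q p' w')
    (hperp : LPerp Q (Submodule.span F {p, w}) (Submodule.span F {p', w'}))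
    (hnmeet : ¬ LMeet (Submodule.span F {p, w}) (Submodule.span F {p', w'})) :
    Nat.card (GP.nbr ch (M.Xb p w) (M.Xb p' w')) ≤ (Nat.card F) ^ 4 := by
  set L := Submodule.span F {p, w} with hL
  set L' := Submodule.span F {p', w'} with hL'
  have hp_mem : p ∈ L := Submodule.subset_span (by simp)
  have hw_mem : w ∈ L := Submodule.subset_span (by simp)
  have hL'L' : ∀ u ∈ L', ∀ v ∈ L', pol (⇑Q) u v = 0 := fun u hu v hv => h'.pol_span hu hv
  have hpL : ∀ u ∈ L', pol (⇑Q) p u = 0 := fun u hu => hperp p hp_mem u hu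
  have hwL : ∀ u ∈ L', pol (⇑Q) w u = 0 := fun u hu => hperp w hw_mem u hu
  set D := M.Dgrp p w L' h.hp h.hw h.hpw hL'L' hpL hwL with hD
  -- `nbr ≤ D.map prj`
  have hle : GP.nbr ch (M.Xb p w) (M.Xb p' w') ≤ D.map (prj Γ) := by
    unfold GP.nbr
    rw [Subgroup.closure_le]
    rintro xb ⟨R, hR, hc1, hc2, hxb⟩
    obtain ⟨k₁, k₂, hk, rfl⟩ := (M.isRoot_iff hQ h7 ch R).1 hR
    obtain ⟨hKL, a, ha0, haK, haL⟩ := (M.coll_iff hQ h7 ch hk h).1 hc1
    obtain ⟨hKL', b, hb0, hbK, hbL'⟩ := (M.coll_iff hQ h7 ch hk h').1 hc2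
    have hlab : IsLine Q a b := by
      refine ⟨ha0, ?_, h.Q_span haL, h'.Q_span hbL', hperp a haL b hbL'⟩
      intro c hc
      apply hnmeet
      refine ⟨b, hb0, ?_, hbL'⟩
      rw [hc]
      exact L.smul_mem _ haL
    have hspan : Submodule.span F {a, b} = Submodule.span F {k₁, k₂} := by
      apply Submodule.eq_of_le_of_finrank_eq
      · rw [Submodule.span_le]
        intro x hx
        rcases hx with rfl | rfl
        · exact haK
        · exact hbK
      · rw [hlab.finrank_span, hk.finrank_span]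
    obtain ⟨x, hx, rfl⟩ := hxb
    rw [← M.X_congr k₁ k₂ a b hk hlab hspan] at hx
    obtain ⟨t, rfl⟩ := (M.mem_X_iff a b hlab.hp hlab.hpw x).1 hx
    obtain ⟨a₁, a₂, rfl⟩ := Submodule.mem_span_pair.1 haL
    refine ⟨_, ?_, rfl⟩
    rw [M.E_split p w b a₁ a₂ t h.hp h.hw hlab.hw h.hpw (hpL b hbL') (hwL b hbL')]
    exact ⟨(t * a₁) • b, (t * a₂) • b, L'.smul_mem _ hbL', L'.smul_mem _ hbL', rfl⟩
  -- cardinality of `D`
  have hcardD : Nat.card D ≤ Nat.card F ^ 4 := by
    let f : ↥L' × ↥L' → ↥D := fun uv =>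
      ⟨M.E p (uv.1 : V) * M.E w (uv.2 : V), ⟨uv.1, uv.2, uv.1.2, uv.2.2, rfl⟩⟩
    have hf : Function.Surjective f := by
      rintro ⟨g, u, v, hu, hv, rfl⟩
      exact ⟨(⟨u, hu⟩, ⟨v, hv⟩), rfl⟩
    have : Finite V := Module.finite_of_finite F
    have h1 := Nat.card_le_card_of_surjective f hf
    have h2 : Nat.card (↥L' × ↥L') = Nat.card F ^ 4 := by
      rw [Nat.card_prod, Module.natCard_eq_pow_finrank (K := F) (V := ↥L'), hL', h'.finrank_span]
      ring
    rw [h2] at h1
    exact h1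
  calc Nat.card (GP.nbr ch (M.Xb p w) (M.Xb p' w')) ≤ Nat.card (D.map (prj Γ)) :=
        Subgroup.card_le_of_le hle
    _ ≤ Nat.card D := Nat.le_of_dvd Nat.card_pos (Subgroup.card_map_dvd _ _)
    _ ≤ _ := hcardD

end main

end OModel

end

end Cfsg.Agent.Lib.Helper36.AutO
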