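import Mathlib
import Cfsg.Agent.Lib.Helper36.AutO.Dict3

set_option autoImplicit false
set_option linter.unusedSimpArgs false
set_option linter.unusedVariables false
set_option linter.unusedSectionVars false

/-!
# Dictionary, part 4: the meeting relation, pencils, and the action of automorphisms on the
unipotent radicals `U r`
-/

namespace Cfsg.Agent.Lib.Helper36.AutO

open Cfsg.Agent.Lib.Helper13 hiding isoGroup mem_isoGroup
open Cfsg.Agent.Lib.Helper36 Cfsg.Agent.Lib.Helper44 Module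

section
variable {F V : Type*} [Field F] [AddCommGroup V] [Module F V]

local notation "pol" => QuadraticMap.polar

/-- the regime: either no disjoint orthogonal totally singular lines (`N = 0`), or
dimension at least 9 (`N = q^4`) -/
def Regime (Q : QuadraticForm F V) (N : ℕ) : Prop :=
  (N = 0 ∧ ∀ p w p' w' : V, IsLine Q p w → IsLine Q p' w' →
      LPerp Q (Submodule.span F {p, w}) (Submodule.span F {p', w'}) →
      LMeet (Submodule.span F {p, w}) (Submodule.span F {p', w'})) ∨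
    (N = (Nat.card F) ^ 4 ∧ 9 ≤ finrank F V)

variable {Q : QuadraticForm F V} {Γ : Type*} [Group Γ] (M : OModel Q Γ)

namespace OModel

theorem Xb_congr (p w p' w' : V) (h : IsLine Q p w) (h' : IsLine Q p' w')
    (hs : Submodule.span F {p', w'} = Submodule.span F {p, w}) : M.Xb p' w' = M.Xb p w := by
  unfold Xb
  rw [M.X_congr p w p' w' h h' hs]

section main
variable [Finite F] [FiniteDimensional F V]
  (hQ : (QuadraticMap.polarBilin Q).Nondegenerate) (h7 : 7 ≤ finrank F V)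
  (ch : ℕ) [hch : Fact ch.Prime] [hchar : CharP F ch] (N : ℕ) (hreg : Regime Q N)

include M hQ h7 ch hch hchar hreg

theorem meet_iff [Finite Γ] {p w p' w' : V} (h : IsLine Q p w) (h' : IsLine Q p' w') :
    GP.Meet ch N (M.Xb p w) (M.Xb p' w') ↔
      LMeet (Submodule.span F {p, w}) (Submodule.span F {p', w'}) := by
  have hq : 2 ≤ Nat.card F := by
    have : Nontrivial F := inferInstance
    exact Finite.one_lt_card
  constructor
  · rintro ⟨hcomm, hor⟩
    rcases (M.comm_iff hQ h7 ch h h').1 hcomm with hperp | hmeet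
    · by_contra hnm
      rcases hreg with ⟨-, hA⟩ | ⟨hN, h9⟩
      · exact hnm (hA p w p' w' h h' hperp)
      · rcases hor with h0 | hc | hlt
        · rw [hN] at h0
          have : 0 < Nat.card F ^ 4 := pow_pos (by omega) 4
          omega
        · exact hnm ((M.coll_iff hQ h7 ch h h').1 hc).2
        · have := M.card_nbr_le hQ h7 ch h h' hperp hnm
          rw [hN] at hlt
          omega
    · exact hmeet
  · intro hmeet
    refine ⟨(M.comm_iff hQ h7 ch h h').2 (Or.inr hmeet), ?_⟩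
    rcases hreg with ⟨hN, -⟩ | ⟨hN, h9⟩
    · exact Or.inl hN
    · by_cases hperp : LPerp Q (Submodule.span F {p, w}) (Submodule.span F {p', w'})
      · exact Or.inr (Or.inl ((M.coll_iff hQ h7 ch h h').2 ⟨hperp, hmeet⟩))
      · refine Or.inr (Or.inr ?_)
        obtain ⟨r, hr0, hr1, hr2⟩ := hmeet
        obtain ⟨w₂, hl, hs⟩ := h.rebase r hr1 hr0
        obtain ⟨w₂', hl', hs'⟩ := h'.rebase r hr2 hr0
        rw [← M.Xb_congr p w r w₂ h hl hs, ← M.Xb_congr p' w' r w₂' h' hl' hs', hN]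
        apply M.card_nbr_gt' hQ h7 ch h9 r w₂ w₂' hl hl'
        intro h0
        apply hperp
        rw [← hs, ← hs', lperp_span_iff]
        exact ⟨pol_self_of_sing Q r hl.hp, hl'.hpw, hl.hwp, h0⟩

/-- the pencil of two non-orthogonal lines through `r` is the image of `U r` -/
theorem pencil_eq [Finite Γ] (r w₂ w₂' : V) (hl : IsLine Q r w₂) (hl' : IsLine Q r w₂')
    (hc : pol (⇑Q) w₂ w₂' ≠ 0) :
    GP.pencil ch N (M.Xb r w₂) (M.Xb r w₂') = M.Ub r := by
  have hr_mem : ∀ y : V, r ∈ Submodule.span F {r, y} := fun y => Submodule.subset_span (by simp)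
  apply le_antisymm
  · unfold GP.pencil
    rw [Subgroup.closure_le]
    rintro xb ⟨R, hR, hm1, hm2, hxb⟩
    obtain ⟨k₁, k₂, hk, rfl⟩ := (M.isRoot_iff hQ h7 ch R).1 hR
    obtain ⟨a, ha0, haK, haL⟩ := (M.meet_iff hQ h7 ch N hreg hk hl).1 hm1
    obtain ⟨b, hb0, hbK, hbL'⟩ := (M.meet_iff hQ h7 ch N hreg hk hl').1 hm2
    -- `r ∈ K`
    have hrK : r ∈ Submodule.span F {k₁, k₂} := by
      obtain ⟨α, β, rfl⟩ := Submodule.mem_span_pair.1 haL
      obtain ⟨γ, δ, rfl⟩ := Submodule.mem_span_pair.1 hbL'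
      have hab := hk.pol_span haK hbK
      simp only [QuadraticMap.polar_add_left, QuadraticMap.polar_add_right,
        QuadraticMap.polar_smul_left, QuadraticMap.polar_smul_right,
        pol_self_of_sing Q r hl.hp, hl'.hpw, hl.hwp, smul_eq_mul, mul_zero, zero_add, add_zero]
        at hab
      have hαcase : β = 0 → r ∈ Submodule.span F {k₁, k₂} := by
        intro hβ
        rw [hβ, zero_smul, add_zero] at haK ha0
        have hα : α ≠ 0 := by
          intro h0
          rw [h0, zero_smul] at ha0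
          exact ha0 rfl
        have : r = α⁻¹ • (α • r) := by rw [smul_smul, inv_mul_cancel₀ hα, one_smul]
        rw [this]
        exact Submodule.smul_mem _ _ haK
      have hγcase : δ = 0 → r ∈ Submodule.span F {k₁, k₂} := by
        intro hδ
        rw [hδ, zero_smul, add_zero] at hbK hb0
        have hγ : γ ≠ 0 := by
          intro h0
          rw [h0, zero_smul] at hb0
          exact hb0 rfl
        have : r = γ⁻¹ • (γ • r) := by rw [smul_smul, inv_mul_cancel₀ hγ, one_smul]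
        rw [this]
        exact Submodule.smul_mem _ _ hbK
      rcases mul_eq_zero.1 hab with h1 | h2
      · exact hγcase h1
      · rcases mul_eq_zero.1 h2 with h3 | h3
        · exact hαcase h3
        · exact absurd h3 hc
    obtain ⟨k', hk', hs⟩ := hk.rebase r hrK hl.hp0
    obtain ⟨x, hx, rfl⟩ := hxb
    rw [← M.X_congr k₁ k₂ r k' hk hk' hs] at hx
    exact ⟨x, M.X_le_U r k' hk'.hpw hx, rfl⟩
  · rintro _ ⟨x, hx, rfl⟩
    obtain ⟨u, hu, rfl⟩ := (M.mem_U_iff r hl.hp x).1 hx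
    obtain ⟨a, b, hra, hrb, hQa, hQb, hab⟩ :=
      Cfsg.Agent.S0795.exists_hyp_in_perp Q hQ (by omega) r hl.hp0
    apply M.prj_E_mem_of_lines hQ h7 ch r hl.hp0 hl.hp
      (LinearMap.ker (QuadraticMap.polarBilin Q r)) (fun y hy => LinearMap.mem_ker.1 hy) a b
      (LinearMap.mem_ker.2 hra) (LinearMap.mem_ker.2 hrb) hQa hQb hab _ _ u
      (LinearMap.mem_ker.2 hu)
    intro y hy hly xb hxb
    apply Subgroup.subset_closure
    refine ⟨M.Xb r y, (M.isRoot_iff hQ h7 ch _).2 ⟨r, y, hly, rfl⟩, ?_, ?_, hxb⟩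
    · exact (M.meet_iff hQ h7 ch N hreg hly hl).2 ⟨r, hl.hp0, hr_mem _, hr_mem _⟩
    · exact (M.meet_iff hQ h7 ch N hreg hly hl').2 ⟨r, hl.hp0, hr_mem _, hr_mem _⟩

/-- **Automorphisms permute the unipotent radicals `U r`.** -/
theorem exists_Ub_map [Finite Γ] (α : (Γ ⧸ Subgroup.center Γ) ≃* (Γ ⧸ Subgroup.center Γ))
    (r : V) (hr0 : r ≠ 0) (hr : Q r = 0) :
    ∃ r' : V, r' ≠ 0 ∧ Q r' = 0 ∧ (M.Ub r).map α.toMonoidHom = M.Ub r' := by
  obtain ⟨a, b, hra, hrb, hQa, hQb, hab⟩ :=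
    Cfsg.Agent.S0795.exists_hyp_in_perp Q hQ (by omega) r hr0
  have hba : pol (⇑Q) b a = 1 := by rw [QuadraticMap.polar_comm]; exact hab
  have hla : IsLine Q r a := by
    refine ⟨hr0, ?_, hr, hQa, hra⟩
    intro c hc
    have : pol (⇑Q) a b = 0 := by rw [hc, QuadraticMap.polar_smul_left, hrb, smul_zero]
    rw [hab] at this
    exact one_ne_zero this
  have hlb : IsLine Q r b := by
    refine ⟨hr0, ?_, hr, hQb, hrb⟩
    intro c hc
    have : pol (⇑Q) b a = 0 := by rw [hc, QuadraticMap.polar_smul_left, hra, smul_zero]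
    rw [hba] at this
    exact one_ne_zero this
  have hab0 : pol (⇑Q) a b ≠ 0 := by rw [hab]; exact one_ne_zero
  have hr_mem : ∀ y : V, r ∈ Submodule.span F {r, y} := fun y => Submodule.subset_span (by simp)
  have hpen := M.pencil_eq hQ h7 ch N hreg r a b hla hlb hab0
  have hmeet : GP.Meet ch N (M.Xb r a) (M.Xb r b) :=
    (M.meet_iff hQ h7 ch N hreg hla hlb).2 ⟨r, hr0, hr_mem _, hr_mem _⟩
  have hroot_a : GP.IsRoot ch (M.Xb r a) := (M.isRoot_iff hQ h7 ch _).2 ⟨r, a, hla, rfl⟩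
  have hroot_b : GP.IsRoot ch (M.Xb r b) := (M.isRoot_iff hQ h7 ch _).2 ⟨r, b, hlb, rfl⟩
  obtain ⟨k₁, k₂, hk, hka⟩ := (M.isRoot_iff hQ h7 ch _).1 (hroot_a.map ch α)
  obtain ⟨m₁, m₂, hm, hmb⟩ := (M.isRoot_iff hQ h7 ch _).1 (hroot_b.map ch α)
  have hmeet' := hmeet.map ch α
  rw [hka, hmb] at hmeet'
  obtain ⟨r', hr'0, hr'1, hr'2⟩ := (M.meet_iff hQ h7 ch N hreg hk hm).1 hmeet'
  obtain ⟨u₁, hl₁, hs₁⟩ := hk.rebase r' hr'1 hr'0
  obtain ⟨u₂, hl₂, hs₂⟩ := hm.rebase r' hr'2 hr'0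
  have hc' : pol (⇑Q) u₁ u₂ ≠ 0 := by
    intro h0
    have hcoll : GP.Coll ch (M.Xb k₁ k₂) (M.Xb m₁ m₂) := by
      rw [M.coll_iff hQ h7 ch hk hm]
      refine ⟨?_, r', hr'0, hr'1, hr'2⟩
      rw [← hs₁, ← hs₂, lperp_span_iff]
      exact ⟨pol_self_of_sing Q r' hl₁.hp, hl₂.hpw, hl₁.hwp, h0⟩
    rw [← hka, ← hmb] at hcoll
    have hcoll' := hcoll.of_map ch α
    have := ((M.coll_iff hQ h7 ch hla hlb).1 hcoll').1
    rw [lperp_span_iff] at this
    exact hab0 this.2.2.2
  refine ⟨r', hr'0, hl₁.hp, ?_⟩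
  rw [← hpen, ← GP.pencil_map, hka, hmb, ← M.Xb_congr k₁ k₂ r' u₁ hk hl₁ hs₁,
    ← M.Xb_congr m₁ m₂ r' u₂ hm hl₂ hs₂]
  exact M.pencil_eq hQ h7 ch N hreg r' u₁ u₂ hl₁ hl₂ hc'

end main

end OModel

end

end Cfsg.Agent.Lib.Helper36.AutO
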