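import Mathlib
import Cfsg.Agent.Lib.Helper36.AutO.Dict4

set_option autoImplicit false
set_option linter.unusedSimpArgs false
set_option linter.unusedVariables false
set_option linter.unusedSectionVars false

/-!
# Generation of `Ω(Q)` by two opposite unipotent radicals; transitivity
-/

namespace Cfsg.Agent.Lib.Helper36.AutO

open Cfsg.Agent.Lib.Helper13 hiding isoGroup mem_isoGroup
open Cfsg.Agent.Lib.Helper36 Cfsg.Agent.Lib.Helper44 Module

section
variable {F V : Type*} [Field F] [AddCommGroup V] [Module F V]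

local notation "pol" => QuadraticMap.polar

variable {Q : QuadraticForm F V} {Γ : Type*} [Group Γ] (M : OModel Q Γ)

namespace OModel

/-- opposite unipotent radicals intersect trivially -/
theorem U_inf_U (e f : V) (he : Q e = 0) (hf : Q f = 0) (hef : pol (⇑Q) e f = 1) (x : Γ)
    (hxe : x ∈ M.U e) (hxf : x ∈ M.U f) : x = 1 := by
  obtain ⟨u, hu, rfl⟩ := (M.mem_U_iff e he x).1 hxe
  obtain ⟨v, hv, hx⟩ := (M.mem_U_iff f hf _).1 hxf
  have hfe : pol (⇑Q) f e = 1 := by rw [QuadraticMap.polar_comm]; exact hef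
  have h1 : M.ρ (M.E e u) e = e := by
    rw [M.E_apply e u he hu]; exact siegelLin_fix_left Q e u he hu
  rw [hx, M.E_apply f v hf hv, siegelLin_apply, hfe, mul_one, one_smul] at h1
  have h2 : v = (pol (⇑Q) v e - Q v) • f := by
    have : e + (pol (⇑Q) v e - Q v) • f - v = e + 0 := by rw [add_zero]; exact h1
    have h3 : (pol (⇑Q) v e - Q v) • f - v = 0 := by
      apply add_left_cancel (a := e)
      rw [← add_sub_assoc]; exact this
    exact (sub_eq_zero.1 h3).symm
  rw [hx, h2]
  have := M.E_add_smul f 0 (pol (⇑Q) v e - Q v) hf (by rw [QuadraticMap.polar_zero_right])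
  rw [zero_add] at this
  rw [this, M.E_zero f hf]

/-- an Eichler element whose centre is not orthogonal to `e` lies in `⟨U e, U f⟩` -/
theorem E_mem_closure_of_not_perp (e f : V) (he : Q e = 0) (hf : Q f = 0)
    (hef : pol (⇑Q) e f = 1) (r v : V) (hr : Q r = 0) (hrv : pol (⇑Q) r v = 0)
    (her : pol (⇑Q) e r ≠ 0) :
    M.E r v ∈ Subgroup.closure ((M.U e : Set Γ) ∪ (M.U f : Set Γ)) := by
  set H := Subgroup.closure ((M.U e : Set Γ) ∪ (M.U f : Set Γ)) with hH
  set c := pol (⇑Q) e r with hc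
  set r' := c⁻¹ • r with hr'
  have hQr' : Q r' = 0 := by rw [hr', QuadraticMap.map_smul, hr, smul_zero]
  have her' : pol (⇑Q) e r' = 1 := by
    rw [hr', QuadraticMap.polar_smul_right, smul_eq_mul, inv_mul_cancel₀ her]
  have hu : pol (⇑Q) e (r' - f) = 0 := by
    rw [QuadraticMap.polar_sub_right, her', hef, sub_self]
  set h := M.E e (r' - f) with hh
  have hhH : h ∈ H := Subgroup.subset_closure (Or.inl (M.E_mem_U e _ hu))
  have hhr' : M.ρ h r' = f := by
    rw [hh, M.E_apply e _ he hu]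
    exact eich_trans_opp Q e r' f hQr' hf her' hef
  have hhr : M.ρ h r = c • f := by
    have : r = c • r' := by rw [hr', smul_smul, mul_inv_cancel₀ her, one_smul]
    rw [this, map_smul, hhr']
  have hconj := M.conj_E h r v hr hrv
  rw [hhr] at hconj
  have hmem : h * M.E r v * h⁻¹ ∈ H := by
    rw [hconj]
    apply Subgroup.subset_closure
    right
    have hcf : Q (c • f) = 0 := by rw [QuadraticMap.map_smul, hf, smul_zero]
    have h1 : pol (⇑Q) (c • f) (M.ρ h v) = 0 := by
      rw [← hhr, M.pol_eq, hrv]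
    have := M.E_mem_U (c • f) (M.ρ h v) h1
    rw [M.U_smul f c her hf] at this
    exact this
  have e1 : M.E r v = h⁻¹ * (h * M.E r v * h⁻¹) * h := by group
  rw [e1]
  exact H.mul_mem (H.mul_mem (H.inv_mem hhH) hmem) hhH

/-- `Ω(Q)` is generated by two opposite unipotent radicals -/
theorem closure_U_U (hQ : (QuadraticMap.polarBilin Q).Nondegenerate)
    (e f : V) (he : Q e = 0) (hf : Q f = 0) (hef : pol (⇑Q) e f = 1) :
    Subgroup.closure ((M.U e : Set Γ) ∪ (M.U f : Set Γ)) = ⊤ := by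
  have hfe : pol (⇑Q) f e = 1 := by rw [QuadraticMap.polar_comm]; exact hef
  set H := Subgroup.closure ((M.U e : Set Γ) ∪ (M.U f : Set Γ)) with hH
  have hsymm : Subgroup.closure ((M.U f : Set Γ) ∪ (M.U e : Set Γ)) = H := by
    rw [Set.union_comm]
  rw [eq_top_iff, ← M.gen, Subgroup.closure_le]
  rintro x ⟨r, v, hr, hrv, hx⟩
  have hxE : x = M.E r v := M.eq_E_of_isE hx hr hrv
  rw [hxE]
  by_cases h1 : pol (⇑Q) e r ≠ 0
  · exact M.E_mem_closure_of_not_perp e f he hf hef r v hr hrv h1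
  push Not at h1
  by_cases h2 : pol (⇑Q) f r ≠ 0
  · have := M.E_mem_closure_of_not_perp f e hf he hfe r v hr hrv h2
    rw [hsymm] at this
    exact this
  push Not at h2
  by_cases hr0 : r = 0
  · have : M.E r v = 1 := by
      apply M.ext_apply
      intro z
      rw [M.E_apply r v hr hrv, M.one_apply, hr0, siegelLin_zero_left]
    rw [this]
    exact H.one_mem
  obtain ⟨y, hy⟩ := Cfsg.Agent.S0795.exists_dual Q hQ r hr0
  set w := y - pol (⇑Q) f y • e - pol (⇑Q) e y • f with hw
  obtain ⟨hw1, hw2⟩ := hyp_decomp e f y he hf hef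
  rw [← hw] at hw1 hw2
  have hre : pol (⇑Q) r e = 0 := by rw [QuadraticMap.polar_comm]; exact h1
  have hrf : pol (⇑Q) r f = 0 := by rw [QuadraticMap.polar_comm]; exact h2
  have hrw : pol (⇑Q) r w = 1 := by
    rw [hw, QuadraticMap.polar_sub_right, QuadraticMap.polar_sub_right,
      QuadraticMap.polar_smul_right, QuadraticMap.polar_smul_right, hre, hrf, hy]
    simp
  have hwr : pol (⇑Q) w r = 1 := by rw [QuadraticMap.polar_comm]; exact hrw
  set h := M.E e w with hh
  have hhH : h ∈ H := Subgroup.subset_closure (Or.inl (M.E_mem_U e _ hw1))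
  have hhr : M.ρ h r = r + e := by
    rw [hh, M.E_apply e w he hw1, siegelLin_apply, h1, hwr]
    simp
  have hconj := M.conj_E h r v hr hrv
  have hmem : h * M.E r v * h⁻¹ ∈ H := by
    rw [hconj]
    have h3 : pol (⇑Q) f (M.ρ h r) ≠ 0 := by
      rw [hhr, QuadraticMap.polar_add_right, h2, hfe, zero_add]
      exact one_ne_zero
    have := M.E_mem_closure_of_not_perp f e hf he hfe (M.ρ h r) (M.ρ h v)
      (by rw [M.isom, hr]) (by rw [M.pol_eq, hrv]) h3
    rw [hsymm] at this
    exact this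
  have e1 : M.E r v = h⁻¹ * (h * M.E r v * h⁻¹) * h := by group
  rw [e1]
  exact H.mul_mem (H.mul_mem (H.inv_mem hhH) hmem) hhH

/-- transitivity on singular points -/
theorem exists_map_smul [Finite F] [FiniteDimensional F V]
    (hQ : (QuadraticMap.polarBilin Q).Nondegenerate) (h5 : 5 ≤ finrank F V)
    (a a' : V) (ha : a ≠ 0) (ha' : a' ≠ 0) (hQa : Q a = 0) (hQa' : Q a' = 0) :
    ∃ k : Γ, ∃ c : F, c ≠ 0 ∧ M.ρ k a = c • a' := by
  by_cases hind : ∃ c : F, a' = c • a
  · obtain ⟨c, hc⟩ := hind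
    have hc0 : c ≠ 0 := by
      intro h0
      rw [h0, zero_smul] at hc
      exact ha' hc
    refine ⟨1, c⁻¹, inv_ne_zero hc0, ?_⟩
    rw [M.one_apply, hc, smul_smul, inv_mul_cancel₀ hc0, one_smul]
  · push Not at hind
    obtain ⟨k, hk, hka⟩ := KE_trans_sing Q hQ h5 a a' ha hQa hQa' hind
    -- `k ∈ KE Q` is in the range of `ρ`
    have hrange : ∀ k' : ↥(isoGroup Q), k' ∈ KE Q → ∃ x : Γ, ∀ z, M.ρ x z = (k' : V ≃ₗ[F] V) z := by
      intro k' hk'
      unfold KE at hk'
      induction hk' using Subgroup.closure_induction with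
      | mem y hy =>
        obtain ⟨p, w, hp, hpw, hy⟩ := hy
        exact ⟨M.E p w, fun z => by rw [M.E_apply p w hp hpw, hy]⟩
      | one => exact ⟨1, fun z => M.one_apply z⟩
      | mul y y' _ _ hy hy' =>
        obtain ⟨x, hx⟩ := hy
        obtain ⟨x', hx'⟩ := hy'
        exact ⟨x * x', fun z => by rw [M.mul_apply, hx', hx]; rfl⟩
      | inv y _ hy =>
        obtain ⟨x, hx⟩ := hy
        refine ⟨x⁻¹, fun z => ?_⟩
        have h1 : M.ρ x (M.ρ x⁻¹ z) = M.ρ x (((y⁻¹ : ↥(isoGroup Q)) : V ≃ₗ[F] V) z) := by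
          rw [M.inv_apply, hx, isoG_inv_apply]
        exact (M.ρ x).injective h1
    obtain ⟨x, hx⟩ := hrange k hk
    exact ⟨x, 1, one_ne_zero, by rw [hx, hka, one_smul]⟩

end OModel

end

end Cfsg.Agent.Lib.Helper36.AutO
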