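import Mathlib
import Cfsg.Agent.Lib.Helper36.AutO.Gen2

set_option autoImplicit false
set_option linter.unusedSimpArgs false
set_option linter.unusedVariables false
set_option linter.unusedSectionVars false

/-!
# Normalising an automorphism of `Γ ⧸ Z(Γ)`: after composing with an inner automorphism it
preserves the images of `U e` and `U f` for a hyperbolic pair `(e,f)`
-/

namespace Cfsg.Agent.Lib.Helper36.AutO

open Cfsg.Agent.Lib.Helper13 hiding isoGroup mem_isoGroup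
open Cfsg.Agent.Lib.Helper36 Cfsg.Agent.Lib.Helper44 Module

section
variable {F V : Type*} [Field F] [AddCommGroup V] [Module F V]

local notation "pol" => QuadraticMap.polar

variable {Q : QuadraticForm F V} {Γ : Type*} [Group Γ] (M : OModel Q Γ)

namespace OModel

theorem Ub_conj (k : Γ) (r : V) (hr : Q r = 0) :
    (M.Ub r).map (MulAut.conj (prj Γ k)).toMonoidHom = M.Ub (M.ρ k r) := by
  ext y
  constructor
  · rintro ⟨_, ⟨x, hx, rfl⟩, rfl⟩
    refine ⟨k * x * k⁻¹, M.conj_U k r hr x hx, ?_⟩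
    simp [MulAut.conj_apply]
  · rintro ⟨x, hx, rfl⟩
    have hr' : Q (M.ρ k r) = 0 := by rw [M.isom, hr]
    have h1 := M.conj_U k⁻¹ (M.ρ k r) hr' x hx
    rw [M.inv_apply', inv_inv] at h1
    refine ⟨prj Γ (k⁻¹ * x * k), ⟨_, h1, rfl⟩, ?_⟩
    simp [MulAut.conj_apply, mul_assoc]

theorem Ub_smul (r : V) (c : F) (hc : c ≠ 0) (hr : Q r = 0) : M.Ub (c • r) = M.Ub r := by
  unfold Ub
  rw [M.U_smul r c hc hr]

theorem map_mul_aut {H : Type*} [Group H] (R : Subgroup H) (α β : MulAut H) :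
    (R.map α.toMonoidHom).map β.toMonoidHom = R.map (β * α).toMonoidHom := by
  rw [Subgroup.map_map]
  rfl

section main
variable [Finite F] [FiniteDimensional F V]
  (hQ : (QuadraticMap.polarBilin Q).Nondegenerate) (h7 : 7 ≤ finrank F V)
  (ch : ℕ) [hch : Fact ch.Prime] [hchar : CharP F ch] (N : ℕ) (hreg : Regime Q N)

include M hQ h7 ch hch hchar

theorem prj_U_inj {r r' : V} (hr : Q r = 0) (hr' : Q r' = 0) (x y : Γ) (hx : x ∈ M.U r)
    (hy : y ∈ M.U r') (hxy : prj Γ x = prj Γ y) : x = y :=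
  M.eq_of_mk_eq hQ (by omega) ch x y 1 1 (M.U_pow_char hr ch x hx) (M.U_pow_char hr' ch y hy) hxy

theorem Ub_inf_Ub (e f : V) (he : Q e = 0) (hf : Q f = 0) (hef : pol (⇑Q) e f = 1)
    (y : Γ ⧸ Subgroup.center Γ) (hye : y ∈ M.Ub e) (hyf : y ∈ M.Ub f) : y = 1 := by
  obtain ⟨x, hx, rfl⟩ := hye
  obtain ⟨x', hx', hxx'⟩ := hyf
  have := M.prj_U_inj hQ h7 ch hf he x' x hx' hx hxx'
  rw [this] at hx'
  rw [M.U_inf_U e f he hf hef x hx hx', map_one]

/-- radicals at orthogonal singular vectors share a non-trivial element -/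
theorem exists_ne_one_mem_Ub_inf (e f'' : V) (he0 : e ≠ 0) (hf0 : f'' ≠ 0) (he : Q e = 0)
    (hf : Q f'' = 0) (hef : pol (⇑Q) e f'' = 0) :
    ∃ y : Γ ⧸ Subgroup.center Γ, y ≠ 1 ∧ y ∈ M.Ub e ∧ y ∈ M.Ub f'' := by
  by_cases hind : ∃ c : F, f'' = c • e
  · obtain ⟨c, hc⟩ := hind
    have hc0 : c ≠ 0 := by
      intro h0
      rw [h0, zero_smul] at hc
      exact hf0 hc
    obtain ⟨a, b, hea, heb, hQa, hQb, hab⟩ :=
      Cfsg.Agent.S0795.exists_hyp_in_perp Q hQ (by omega) e he0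
    have hla : IsLine Q e a := by
      refine ⟨he0, ?_, he, hQa, hea⟩
      intro c' hc'
      have : pol (⇑Q) a b = 0 := by rw [hc', QuadraticMap.polar_smul_left, heb, smul_zero]
      rw [hab] at this
      exact one_ne_zero this
    have hx : M.E e ((1 : F) • a) ∈ M.U e := M.X_le_U e a hea (M.E_mem_X e a 1)
    refine ⟨prj Γ (M.E e ((1 : F) • a)), ?_, ⟨_, hx, rfl⟩, ?_⟩
    · intro h1
      have : prj Γ (M.E e ((1 : F) • a)) = prj Γ 1 := by rw [h1, map_one]
      have h2 := M.prj_U_inj hQ h7 ch he he _ 1 hx (Subgroup.one_mem _) this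
      exact M.E_line_ne_one hQ hla 1 one_ne_zero h2
    · rw [hc, M.Ub_smul e c hc0 he]
      exact ⟨_, hx, rfl⟩
  · push Not at hind
    have hl : IsLine Q e f'' := ⟨he0, hind, he, hf, hef⟩
    have hl' : IsLine Q f'' e := by
      refine ⟨hf0, ?_, hf, he, hl.hwp⟩
      intro c hc
      by_cases hc0 : c = 0
      · rw [hc0, zero_smul] at hc
        exact he0 hc
      · apply hind c⁻¹
        rw [hc, smul_smul, inv_mul_cancel₀ hc0, one_smul]
    have hx : M.E e ((1 : F) • f'') ∈ M.X e f'' := M.E_mem_X e f'' 1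
    have hx' : M.E e ((1 : F) • f'') ∈ M.X f'' e := by
      rw [M.X_congr e f'' f'' e hl hl' (by rw [Set.pair_comm])]
      exact hx
    refine ⟨prj Γ (M.E e ((1 : F) • f'')), ?_, ⟨_, M.X_le_U e f'' hef hx, rfl⟩,
      ⟨_, M.X_le_U f'' e hl.hwp hx', rfl⟩⟩
    intro h1
    have : prj Γ (M.E e ((1 : F) • f'')) = prj Γ 1 := by rw [h1, map_one]
    have h2 := M.prj_U_inj hQ h7 ch he he _ 1 (M.X_le_U e f'' hef hx) (Subgroup.one_mem _) this
    exact M.E_line_ne_one hQ hl 1 one_ne_zero h2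

include hreg

/-- **Normalisation.** -/
theorem exists_normalize [Finite Γ] (α : MulAut (Γ ⧸ Subgroup.center Γ)) (e f : V)
    (he : Q e = 0) (hf : Q f = 0) (hef : pol (⇑Q) e f = 1) :
    ∃ g : Γ, (M.Ub e).map (MulAut.conj (prj Γ g) * α).toMonoidHom = M.Ub e ∧
      (M.Ub f).map (MulAut.conj (prj Γ g) * α).toMonoidHom = M.Ub f := by
  have hfe : pol (⇑Q) f e = 1 := by rw [QuadraticMap.polar_comm]; exact hef
  have he0 : e ≠ 0 := by
    intro h0
    rw [h0, QuadraticMap.polar_zero_left] at hef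
    exact zero_ne_one hef
  have hf0 : f ≠ 0 := by
    intro h0
    rw [h0, QuadraticMap.polar_zero_right] at hef
    exact zero_ne_one hef
  -- first step: fix `U e`
  obtain ⟨r', hr'0, hr', hαe⟩ := M.exists_Ub_map hQ h7 ch N hreg α e he0 he
  obtain ⟨k, c, hc0, hk⟩ := M.exists_map_smul hQ (by omega) r' e hr'0 he0 hr' he
  set α₁ : MulAut (Γ ⧸ Subgroup.center Γ) := MulAut.conj (prj Γ k) * α with hα₁
  have hα₁e : (M.Ub e).map α₁.toMonoidHom = M.Ub e := by
    rw [hα₁, ← map_mul_aut, hαe, M.Ub_conj k r' hr', hk, M.Ub_smul e c hc0 he]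
  -- second step
  obtain ⟨f'', hf''0, hf'', hα₁f⟩ := M.exists_Ub_map hQ h7 ch N hreg α₁ f hf0 hf
  have hef'' : pol (⇑Q) e f'' ≠ 0 := by
    intro h0
    obtain ⟨y, hy1, hye, hyf⟩ := M.exists_ne_one_mem_Ub_inf hQ h7 ch e f'' he0 hf''0 he hf'' h0
    rw [← hα₁e] at hye
    rw [← hα₁f] at hyf
    obtain ⟨z, hz, rfl⟩ := hye
    obtain ⟨z', hz', hzz'⟩ := hyf
    have : z' = z := α₁.injective hzz'
    rw [this] at hz'
    have := M.Ub_inf_Ub hQ h7 ch e f he hf hef z hz hz'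
    apply hy1
    rw [this]
    exact map_one _
  set d := pol (⇑Q) e f'' with hd
  set f₃ := d⁻¹ • f'' with hf₃
  have hQf₃ : Q f₃ = 0 := by rw [hf₃, QuadraticMap.map_smul, hf'', smul_zero]
  have hef₃ : pol (⇑Q) e f₃ = 1 := by
    rw [hf₃, QuadraticMap.polar_smul_right, smul_eq_mul, inv_mul_cancel₀ hef'']
  have hUf₃ : M.Ub f₃ = M.Ub f'' := M.Ub_smul f'' d⁻¹ (inv_ne_zero hef'') hf''
  have hu : pol (⇑Q) e (f₃ - f) = 0 := by
    rw [QuadraticMap.polar_sub_right, hef₃, hef, sub_self]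
  set k' := M.E e (f₃ - f) with hk'
  have hk'f : M.ρ k' f₃ = f := by
    rw [hk', M.E_apply e _ he hu]
    exact eich_trans_opp Q e f₃ f hQf₃ hf hef₃ hef
  have hk'e : M.ρ k' e = e := by
    rw [hk', M.E_apply e _ he hu]
    exact siegelLin_fix_left Q e _ he hu
  refine ⟨k' * k, ?_, ?_⟩
  · have e1 : MulAut.conj (prj Γ (k' * k)) * α = MulAut.conj (prj Γ k') * α₁ := by
      rw [hα₁, map_mul, map_mul, mul_assoc]
    rw [e1, ← map_mul_aut, hα₁e, M.Ub_conj k' e he, hk'e]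
  · have e1 : MulAut.conj (prj Γ (k' * k)) * α = MulAut.conj (prj Γ k') * α₁ := by
      rw [hα₁, map_mul, map_mul, mul_assoc]
    rw [e1, ← map_mul_aut, hα₁f, ← hUf₃, M.Ub_conj k' f₃ hQf₃, hk'f]

end main

end OModel

end

end Cfsg.Agent.Lib.Helper36.AutO
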