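import Mathlib
import Cfsg.Agent.Lib.Helper36.AutO.Normalize

set_option autoImplicit false
set_option linter.unusedSimpArgs false
set_option linter.unusedVariables false
set_option linter.unusedSectionVars false

/-!
# The additive map induced on `W = ⟨e,f⟩^⊥` by an automorphism preserving the image of `U e`
-/

namespace Cfsg.Agent.Lib.Helper36.AutO

open Cfsg.Agent.Lib.Helper13 hiding isoGroup mem_isoGroup
open Cfsg.Agent.Lib.Helper36 Cfsg.Agent.Lib.Helper44 Module

section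
variable {F V : Type*} [Field F] [AddCommGroup V] [Module F V]

local notation "pol" => QuadraticMap.polar

/-- membership in `W = ⟨e,f⟩^⊥` -/
def InW (Q : QuadraticForm F V) (e f w : V) : Prop := pol (⇑Q) e w = 0 ∧ pol (⇑Q) f w = 0

theorem InW.add {Q : QuadraticForm F V} {e f w w' : V} (h : InW Q e f w) (h' : InW Q e f w') :
    InW Q e f (w + w') :=
  ⟨by rw [QuadraticMap.polar_add_right, h.1, h'.1, add_zero],
    by rw [QuadraticMap.polar_add_right, h.2, h'.2, add_zero]⟩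

theorem InW.smul {Q : QuadraticForm F V} {e f w : V} (h : InW Q e f w) (c : F) :
    InW Q e f (c • w) :=
  ⟨by rw [QuadraticMap.polar_smul_right, h.1, smul_zero],
    by rw [QuadraticMap.polar_smul_right, h.2, smul_zero]⟩

theorem InW.zero {Q : QuadraticForm F V} {e f : V} : InW Q e f 0 :=
  ⟨by rw [QuadraticMap.polar_zero_right], by rw [QuadraticMap.polar_zero_right]⟩

theorem InW.swap {Q : QuadraticForm F V} {e f w : V} (h : InW Q e f w) : InW Q f e w := ⟨h.2, h.1⟩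

/-- projecting a vector of `e^⊥` to `W` -/
theorem InW.proj {Q : QuadraticForm F V} {e f u : V} (he : Q e = 0) (hfe : pol (⇑Q) f e = 1)
    (hu : pol (⇑Q) e u = 0) : InW Q e f (u + (-pol (⇑Q) f u) • e) := by
  constructor
  · rw [QuadraticMap.polar_add_right, QuadraticMap.polar_smul_right, hu,
      pol_self_of_sing Q e he, smul_zero, add_zero]
  · rw [QuadraticMap.polar_add_right, QuadraticMap.polar_smul_right, hfe]
    simp

variable {Q : QuadraticForm F V} {Γ : Type*} [Group Γ] (M : OModel Q Γ)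

namespace OModel

section main
variable [Finite F] [FiniteDimensional F V]
  (hQ : (QuadraticMap.polarBilin Q).Nondegenerate) (h7 : 7 ≤ finrank F V)
  (ch : ℕ) [hch : Fact ch.Prime] [hchar : CharP F ch]

include M hQ h7 ch hch hchar

/-- a root group whose image lies in the image of `U r` belongs to a line through `r` -/
theorem mem_span_of_Xb_le_Ub {k₁ k₂ r : V} (hk : IsLine Q k₁ k₂) (hr : Q r = 0)
    (hle : M.Xb k₁ k₂ ≤ M.Ub r) : r ∈ Submodule.span F {k₁, k₂} := by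
  have hx : M.E k₁ ((1 : F) • k₂) ∈ M.X k₁ k₂ := M.E_mem_X k₁ k₂ 1
  obtain ⟨y, hy, hyx⟩ := hle ⟨_, hx, rfl⟩
  have hxy : y = M.E k₁ ((1 : F) • k₂) :=
    M.eq_of_mk_eq hQ (by omega) ch _ _ 1 1 (M.U_pow_char hr ch y hy) (M.X_pow_char hk ch _ hx) hyx
  obtain ⟨u, hu, hyu⟩ := (M.mem_U_iff r hr y).1 hy
  have hsub : Submodule.span F {k₁, k₂} ≤ Submodule.span F {r, u} := by
    apply M.span_le_of_root_mem hQ hk 1 one_ne_zero
    intro z
    rw [← hxy, hyu, M.E_apply r u hr hu, siegelLin_apply]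
    have e1 : z + (pol (⇑Q) u z - Q u * pol (⇑Q) r z) • r - pol (⇑Q) r z • u - z =
        (pol (⇑Q) u z - Q u * pol (⇑Q) r z) • r - pol (⇑Q) r z • u := by abel
    rw [e1]
    exact Submodule.sub_mem _ (Submodule.smul_mem _ _ (Submodule.subset_span (by simp)))
      (Submodule.smul_mem _ _ (Submodule.subset_span (by simp)))
  have hfr : finrank F (Submodule.span F {r, u}) ≤ 2 := by
    have h1 := finrank_range_le_card (R := F) ![r, u]
    rw [Fintype.card_fin] at h1
    have hr' : Set.range ![r, u] = {r, u} := by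
      ext v; simp [eq_comm, or_comm]
    rw [hr'] at h1
    exact h1
  have heq := Submodule.eq_of_le_of_finrank_le hsub (by rw [hk.finrank_span]; exact hfr)
  rw [heq]
  exact Submodule.subset_span (by simp)

theorem InW_unique (e f : V) (he : Q e = 0) (he0 : e ≠ 0) (hfe : pol (⇑Q) f e = 1) (u₁ u₂ : V)
    (h1 : InW Q e f u₁) (h2 : InW Q e f u₂)
    (h : prj Γ (M.E e u₁) = prj Γ (M.E e u₂)) : u₁ = u₂ := by
  have h3 := M.prj_U_inj hQ h7 ch he he _ _ (M.E_mem_U e u₁ h1.1) (M.E_mem_U e u₂ h2.1) h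
  obtain ⟨c, hc⟩ := (M.E_eq_iff hQ e u₁ u₂ he0 he h1.1 h2.1).1 h3
  have h4 : pol (⇑Q) f u₁ = pol (⇑Q) f u₂ + c := by
    rw [hc, QuadraticMap.polar_add_right, QuadraticMap.polar_smul_right, hfe, smul_eq_mul, mul_one]
  rw [h1.2, h2.2, zero_add] at h4
  rw [hc, ← h4, zero_smul, add_zero]

/-- elements of the image of `U e` are images of `E e u` with `u ∈ W` -/
theorem exists_InW_of_mem_Ub (e f : V) (he : Q e = 0) (hfe : pol (⇑Q) f e = 1)
    (y : Γ ⧸ Subgroup.center Γ) (hy : y ∈ M.Ub e) : ∃ u, InW Q e f u ∧ y = prj Γ (M.E e u) := by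
  obtain ⟨x, hx, rfl⟩ := hy
  obtain ⟨u', hu', rfl⟩ := (M.mem_U_iff e he x).1 hx
  refine ⟨u' + (-pol (⇑Q) f u') • e, InW.proj he hfe hu', ?_⟩
  rw [M.E_add_smul e u' _ he hu']

/-- **The induced map on `W`.** -/
theorem exists_phi [Finite Γ] (β : MulAut (Γ ⧸ Subgroup.center Γ)) (e f : V)
    (he : Q e = 0) (hf : Q f = 0) (hef : pol (⇑Q) e f = 1)
    (hβe : (M.Ub e).map β.toMonoidHom = M.Ub e) :
    ∃ φ : V → V,
      (∀ w, InW Q e f w → InW Q e f (φ w)) ∧
      (∀ w, InW Q e f w → β (prj Γ (M.E e w)) = prj Γ (M.E e (φ w))) ∧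
      (∀ w w', InW Q e f w → InW Q e f w' → φ (w + w') = φ w + φ w') ∧
      (∀ w, InW Q e f w → φ w = 0 → w = 0) ∧
      (∀ w', InW Q e f w' → ∃ w, InW Q e f w ∧ φ w = w') ∧
      (∀ w, InW Q e f w → Q w = 0 → Q (φ w) = 0 ∧ (∀ t : F, ∃ s : F, φ (t • w) = s • φ w) ∧
        (∀ s : F, ∃ t : F, φ (t • w) = s • φ w)) := by
  classical
  have hfe : pol (⇑Q) f e = 1 := by rw [QuadraticMap.polar_comm]; exact hef
  have he0 : e ≠ 0 := by
    intro h0
    rw [h0, QuadraticMap.polar_zero_left] at hef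
    exact zero_ne_one hef
  have hex : ∀ w, InW Q e f w → ∃ u, InW Q e f u ∧ β (prj Γ (M.E e w)) = prj Γ (M.E e u) := by
    intro w hw
    apply M.exists_InW_of_mem_Ub hQ h7 ch e f he hfe
    rw [← hβe]
    exact ⟨_, ⟨_, M.E_mem_U e w hw.1, rfl⟩, rfl⟩
  let φ : V → V := fun w => if h : InW Q e f w then (hex w h).choose else 0
  have hφ1 : ∀ w, InW Q e f w → InW Q e f (φ w) := by
    intro w hw
    simp only [φ, dif_pos hw]
    exact (hex w hw).choose_spec.1
  have hφ2 : ∀ w, InW Q e f w → β (prj Γ (M.E e w)) = prj Γ (M.E e (φ w)) := by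
    intro w hw
    simp only [φ, dif_pos hw]
    exact (hex w hw).choose_spec.2
  have huniq := M.InW_unique hQ h7 ch e f he he0 hfe
  have hφ3 : ∀ w w', InW Q e f w → InW Q e f w' → φ (w + w') = φ w + φ w' := by
    intro w w' hw hw'
    apply huniq _ _ (hφ1 _ (hw.add hw')) ((hφ1 w hw).add (hφ1 w' hw'))
    rw [← hφ2 _ (hw.add hw'), M.E_add e w w' he hw.1 hw'.1, map_mul, map_mul, hφ2 w hw,
      hφ2 w' hw', ← map_mul, ← M.E_add e _ _ he (hφ1 w hw).1 (hφ1 w' hw').1]
  have hφ0 : φ 0 = 0 := by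
    have := hφ3 0 0 InW.zero InW.zero
    rw [add_zero] at this
    exact left_eq_add.mp this
  have hφ4 : ∀ w, InW Q e f w → φ w = 0 → w = 0 := by
    intro w hw h0
    have h1 := hφ2 w hw
    rw [h0, M.E_zero e he, map_one] at h1
    have h2 : prj Γ (M.E e w) = 1 := by
      have := β.injective (h1.trans (map_one β).symm)
      exact this
    apply huniq w 0 hw InW.zero
    rw [h2, M.E_zero e he, map_one]
  have hφ5 : ∀ w', InW Q e f w' → ∃ w, InW Q e f w ∧ φ w = w' := by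
    intro w' hw'
    have hmem : prj Γ (M.E e w') ∈ (M.Ub e).map β.toMonoidHom := by
      rw [hβe]
      exact ⟨_, M.E_mem_U e w' hw'.1, rfl⟩
    obtain ⟨y, hy, hyw⟩ := hmem
    obtain ⟨u, hu, rfl⟩ := M.exists_InW_of_mem_Ub hQ h7 ch e f he hfe y hy
    refine ⟨u, hu, ?_⟩
    apply huniq _ _ (hφ1 u hu) hw'
    rw [← hφ2 u hu]
    exact hyw
  refine ⟨φ, hφ1, hφ2, hφ3, hφ4, hφ5, ?_⟩
  intro w hw hQw
  by_cases hw0 : w = 0
  · rw [hw0, hφ0]
    refine ⟨by simp, fun t => ⟨0, by rw [smul_zero, hφ0, smul_zero]⟩,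
      fun s => ⟨0, by rw [smul_zero, hφ0, smul_zero]⟩⟩
  have hlw : IsLine Q e w := by
    refine ⟨he0, ?_, he, hQw, hw.1⟩
    intro c hc
    have : pol (⇑Q) f w = c := by
      rw [hc, QuadraticMap.polar_smul_right, hfe, smul_eq_mul, mul_one]
    rw [hw.2] at this
    rw [← this, zero_smul] at hc
    exact hw0 hc
  have hroot : GP.IsRoot ch (M.Xb e w) := (M.isRoot_iff hQ h7 ch _).2 ⟨e, w, hlw, rfl⟩
  obtain ⟨k₁, k₂, hk, hkβ⟩ := (M.isRoot_iff hQ h7 ch _).1 (hroot.map ch β)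
  have hle : M.Xb k₁ k₂ ≤ M.Ub e := by
    rw [← hkβ, ← hβe]
    apply Subgroup.map_mono
    exact Subgroup.map_mono (M.X_le_U e w hw.1)
  have heK := M.mem_span_of_Xb_le_Ub hQ h7 ch hk he hle
  obtain ⟨w₁, hl₁, hs₁⟩ := hk.rebase e heK he0
  set w' := w₁ + (-pol (⇑Q) f w₁) • e with hw'
  have hw'W : InW Q e f w' := InW.proj he hfe hl₁.hpw
  have hl' : IsLine Q e w' := by
    refine ⟨he0, ?_, he, ?_, hw'W.1⟩
    · intro c hc
      apply hl₁.hind (c + pol (⇑Q) f w₁)
      have : w₁ = w' + (pol (⇑Q) f w₁) • e := by rw [hw']; module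
      rw [add_smul, ← hc]
      exact this
    · rw [hw', Q_add', hl₁.hw, QuadraticMap.map_smul, he, QuadraticMap.polar_smul_right,
        hl₁.hwp]
      simp
  have hs' : Submodule.span F {e, w'} = Submodule.span F {k₁, k₂} := by
    rw [← hs₁]
    apply le_antisymm
    · rw [Submodule.span_le]
      intro x hx
      rcases hx with rfl | rfl
      · exact Submodule.subset_span (by simp)
      · exact Submodule.add_mem _ (Submodule.subset_span (by simp))
          (Submodule.smul_mem _ _ (Submodule.subset_span (by simp)))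
    · rw [Submodule.span_le]
      intro x hx
      rcases hx with rfl | rfl
      · exact Submodule.subset_span (by simp)
      · have : x = w' + (pol (⇑Q) f x) • e := by rw [hw']; module
        rw [this]
        exact Submodule.add_mem _ (Submodule.subset_span (by simp))
          (Submodule.smul_mem _ _ (Submodule.subset_span (by simp)))
  have hXb : (M.Xb e w).map β.toMonoidHom = M.Xb e w' := by
    rw [hkβ]
    exact (M.Xb_congr k₁ k₂ e w' hk hl' hs').symm
  -- images of multiples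
  have hmult : ∀ t : F, ∃ s : F, φ (t • w) = s • w' := by
    intro t
    have hmem : β (prj Γ (M.E e (t • w))) ∈ M.Xb e w' := by
      rw [← hXb]
      exact ⟨_, ⟨_, M.E_mem_X e w t, rfl⟩, rfl⟩
    obtain ⟨x, hx, hxe⟩ := hmem
    obtain ⟨s, rfl⟩ := (M.mem_X_iff e w' he hw'W.1 x).1 hx
    refine ⟨s, ?_⟩
    apply huniq _ _ (hφ1 _ (hw.smul t)) (hw'W.smul s)
    rw [← hφ2 _ (hw.smul t)]
    exact hxe.symm
  obtain ⟨s₁, hs₁'⟩ := hmult 1
  rw [one_smul] at hs₁'
  have hs₁0 : s₁ ≠ 0 := by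
    intro h0
    rw [h0, zero_smul] at hs₁'
    exact hw0 (hφ4 w hw hs₁')
  have hw'eq : w' = s₁⁻¹ • φ w := by rw [hs₁', smul_smul, inv_mul_cancel₀ hs₁0, one_smul]
  refine ⟨?_, ?_, ?_⟩
  · rw [hs₁', QuadraticMap.map_smul, hl'.hw, smul_zero]
  · intro t
    obtain ⟨s, hs⟩ := hmult t
    exact ⟨s * s₁⁻¹, by rw [hs, hw'eq, smul_smul]⟩
  · intro s
    have hmem : prj Γ (M.E e ((s * s₁) • w')) ∈ (M.Xb e w).map β.toMonoidHom := by
      rw [hXb]
      exact ⟨_, M.E_mem_X e w' _, rfl⟩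
    obtain ⟨y, ⟨x, hx, rfl⟩, hyx⟩ := hmem
    obtain ⟨t, rfl⟩ := (M.mem_X_iff e w he hw.1 x).1 hx
    refine ⟨t, ?_⟩
    have h1 : InW Q e f (s • φ w) := (hφ1 w hw).smul s
    apply huniq _ _ (hφ1 _ (hw.smul t)) h1
    rw [← hφ2 _ (hw.smul t)]
    have h2 : s • φ w = (s * s₁) • w' := by rw [hs₁', smul_smul]
    rw [h2]
    exact hyx

end main

end OModel

end

end Cfsg.Agent.Lib.Helper36.AutO
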