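import Mathlib
import Cfsg.Agent.Lib.Helper36.AutO.PhiMap

set_option autoImplicit false
set_option linter.unusedSimpArgs false
set_option linter.unusedVariables false
set_option linter.unusedSectionVars false

/-!
# Additive maps of `W = ⟨e,f⟩^⊥` preserving singular lines are semilinear
-/

namespace Cfsg.Agent.Lib.Helper36.AutO

open Cfsg.Agent.Lib.Helper13 hiding isoGroup mem_isoGroup
open Cfsg.Agent.Lib.Helper36 Cfsg.Agent.Lib.Helper44 Module

section
variable {F V : Type*} [Field F] [AddCommGroup V] [Module F V]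

local notation "pol" => QuadraticMap.polar

variable {Q : QuadraticForm F V}

/-- `W` as a submodule -/
def Wsub (Q : QuadraticForm F V) (e f : V) : Submodule F V :=
  LinearMap.ker ((QuadraticMap.polarBilin Q e).prod (QuadraticMap.polarBilin Q f))

theorem mem_Wsub (e f w : V) : w ∈ Wsub Q e f ↔ InW Q e f w := by
  unfold Wsub
  rw [LinearMap.mem_ker]
  constructor
  · intro h
    exact ⟨(Prod.ext_iff.1 h).1, (Prod.ext_iff.1 h).2⟩
  · intro h
    exact Prod.ext h.1 h.2

section geo
variable [Finite F] [FiniteDimensional F V]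
  (hQ : (QuadraticMap.polarBilin Q).Nondegenerate) (h7 : 7 ≤ finrank F V)
  (e f : V) (he : Q e = 0) (hf : Q f = 0) (hef : pol (⇑Q) e f = 1)

include hQ h7 he hf hef

/-- two non-orthogonal singular vectors of `W` have a common orthogonal singular vector in `W` -/
theorem exists_common_perp (w w' : V) :
    ∃ u, InW Q e f u ∧ u ≠ 0 ∧ Q u = 0 ∧ pol (⇑Q) w u = 0 ∧ pol (⇑Q) w' u = 0 := by
  set φ : V →ₗ[F] (F × F) × (F × F) :=
    ((QuadraticMap.polarBilin Q e).prod (QuadraticMap.polarBilin Q f)).prod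
      ((QuadraticMap.polarBilin Q w).prod (QuadraticMap.polarBilin Q w')) with hφ
  have hker : 3 ≤ finrank F (LinearMap.ker φ) := by
    have h1 := LinearMap.finrank_range_add_finrank_ker φ
    have h2 : finrank F (LinearMap.range φ) ≤ 4 := by
      have := Submodule.finrank_le (LinearMap.range φ)
      rw [Module.finrank_prod, Module.finrank_prod, Module.finrank_self] at this
      exact this
    omega
  obtain ⟨u0, hu0, hQu0⟩ := exists_isotropic (Q.comp (LinearMap.ker φ).subtype) hker
  have hmem : φ (u0 : V) = 0 := LinearMap.mem_ker.1 u0.2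
  refine ⟨(u0 : V), ⟨(Prod.ext_iff.1 (Prod.ext_iff.1 hmem).1).1,
    (Prod.ext_iff.1 (Prod.ext_iff.1 hmem).1).2⟩, ?_, hQu0,
    (Prod.ext_iff.1 (Prod.ext_iff.1 hmem).2).1, (Prod.ext_iff.1 (Prod.ext_iff.1 hmem).2).2⟩
  intro h
  exact hu0 (Subtype.ext h)

/-- a singular vector of `W` has a singular partner in `W` -/
theorem exists_partner_in_W (w : V) (hw : InW Q e f w) (hw0 : w ≠ 0) (hQw : Q w = 0) :
    ∃ w'', InW Q e f w'' ∧ Q w'' = 0 ∧ pol (⇑Q) w w'' = 1 := by
  obtain ⟨y, hy⟩ := Cfsg.Agent.S0795.exists_dual Q hQ w hw0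
  set y' := y - pol (⇑Q) f y • e - pol (⇑Q) e y • f with hy'
  obtain ⟨h1, h2⟩ := hyp_decomp e f y he hf hef
  rw [← hy'] at h1 h2
  have hwe : pol (⇑Q) w e = 0 := by rw [QuadraticMap.polar_comm]; exact hw.1
  have hwf : pol (⇑Q) w f = 0 := by rw [QuadraticMap.polar_comm]; exact hw.2
  have hwy' : pol (⇑Q) w y' = 1 := by
    rw [hy', QuadraticMap.polar_sub_right, QuadraticMap.polar_sub_right,
      QuadraticMap.polar_smul_right, QuadraticMap.polar_smul_right, hwe, hwf, hy]
    simp
  refine ⟨y' - Q y' • w, ?_, Q_sub_smul_one Q y' w hQw hwy', ?_⟩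
  · constructor
    · rw [QuadraticMap.polar_sub_right, QuadraticMap.polar_smul_right, h1, hw.1]
      simp
    · rw [QuadraticMap.polar_sub_right, QuadraticMap.polar_smul_right, h2, hw.2]
      simp
  · rw [QuadraticMap.polar_sub_right, QuadraticMap.polar_smul_right, pol_self_of_sing Q w hQw,
      hwy']
    simp

/-- a function on the non-zero singular vectors of `W` which agrees on orthogonal independent pairs
is constant -/
theorem const_of_perp_indep {A : Type*} (g : V → A)
    (hg : ∀ w w', InW Q e f w → InW Q e f w' → w ≠ 0 → Q w = 0 → Q w' = 0 →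
      pol (⇑Q) w w' = 0 → (∀ c : F, w' ≠ c • w) → g w = g w')
    (w w' : V) (hw : InW Q e f w) (hw' : InW Q e f w') (hw0 : w ≠ 0) (hw'0 : w' ≠ 0)
    (hQw : Q w = 0) (hQw' : Q w' = 0) : g w = g w' := by
  -- non-orthogonal case
  have hnp : ∀ w w', InW Q e f w → InW Q e f w' → w ≠ 0 → w' ≠ 0 → Q w = 0 → Q w' = 0 →
      pol (⇑Q) w w' ≠ 0 → g w = g w' := by
    intro w w' hw hw' hw0 hw'0 hQw hQw' hne
    obtain ⟨u, huW, hu0, hQu, hwu, hw'u⟩ := exists_common_perp hQ h7 e f he hf hef w w'
    have hne' : pol (⇑Q) w' w ≠ 0 := by rw [QuadraticMap.polar_comm]; exact hne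
    have h1 : ∀ c : F, u ≠ c • w := by
      intro c hc
      have : pol (⇑Q) w' u = c * pol (⇑Q) w' w := by
        rw [hc, QuadraticMap.polar_smul_right, smul_eq_mul]
      rw [hw'u] at this
      rcases mul_eq_zero.1 this.symm with h | h
      · rw [h, zero_smul] at hc
        exact hu0 hc
      · exact hne' h
    have h2 : ∀ c : F, u ≠ c • w' := by
      intro c hc
      have : pol (⇑Q) w u = c * pol (⇑Q) w w' := by
        rw [hc, QuadraticMap.polar_smul_right, smul_eq_mul]
      rw [hwu] at this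
      rcases mul_eq_zero.1 this.symm with h | h
      · rw [h, zero_smul] at hc
        exact hu0 hc
      · exact hne h
    rw [hg w u hw huW hw0 hQw hQu hwu h1, hg w' u hw' huW hw'0 hQw' hQu hw'u h2]
  by_cases hind : ∃ c : F, w' = c • w
  · obtain ⟨c, hc⟩ := hind
    obtain ⟨w'', hw''W, hQw'', hww''⟩ := exists_partner_in_W hQ h7 e f he hf hef w hw hw0 hQw
    have hw''0 : w'' ≠ 0 := by
      intro h0
      rw [h0, QuadraticMap.polar_zero_right] at hww''
      exact zero_ne_one hww''
    have hc0 : c ≠ 0 := by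
      intro h0
      rw [h0, zero_smul] at hc
      exact hw'0 hc
    have h1 : pol (⇑Q) w w'' ≠ 0 := by rw [hww'']; exact one_ne_zero
    have h2 : pol (⇑Q) w' w'' ≠ 0 := by
      rw [hc, QuadraticMap.polar_smul_left, hww'', smul_eq_mul, mul_one]
      exact hc0
    rw [hnp w w'' hw hw''W hw0 hw''0 hQw hQw'' h1, hnp w' w'' hw' hw''W hw'0 hw''0 hQw' hQw'' h2]
  · push Not at hind
    by_cases hperp : pol (⇑Q) w w' = 0
    · exact hg w w' hw hw' hw0 hQw hQw' hperp hind
    · exact hnp w w' hw hw' hw0 hw'0 hQw hQw' hperp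

end geo

end

end Cfsg.Agent.Lib.Helper36.AutO
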