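import Mathlib
import Cfsg.Agent.Lib.Helper36.AutO.SemiLin
import Cfsg.Agent.Lib.Helper36.AutO.Geom

set_option autoImplicit false
set_option linter.unusedSimpArgs false
set_option linter.unusedVariables false
set_option linter.unusedSectionVars false

/-!
# Additive maps of `W = ⟨e,f⟩^⊥` preserving singular lines are semilinear (II)
-/

namespace Cfsg.Agent.Lib.Helper36.AutO

open Cfsg.Agent.Lib.Helper13 hiding isoGroup mem_isoGroup
open Cfsg.Agent.Lib.Helper36 Cfsg.Agent.Lib.Helper44 Module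

section
variable {F V : Type*} [Field F] [AddCommGroup V] [Module F V]

local notation "pol" => QuadraticMap.polar

variable {Q : QuadraticForm F V}

section geo
variable [Finite F] [FiniteDimensional F V]
  (hQ : (QuadraticMap.polarBilin Q).Nondegenerate) (h7 : 7 ≤ finrank F V)
  (e f : V) (he : Q e = 0) (hf : Q f = 0) (hef : pol (⇑Q) e f = 1)

include hQ h7 he hf hef

/-- **Semilinearity.** An additive bijection of `W` which maps singular points onto singular
points is semilinear. -/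
theorem exists_sigma (φ : V → V)
    (h1 : ∀ w, InW Q e f w → InW Q e f (φ w))
    (h3 : ∀ w w', InW Q e f w → InW Q e f w' → φ (w + w') = φ w + φ w')
    (h4 : ∀ w, InW Q e f w → φ w = 0 → w = 0)
    (h6 : ∀ w, InW Q e f w → Q w = 0 → Q (φ w) = 0 ∧ (∀ t : F, ∃ s : F, φ (t • w) = s • φ w) ∧
        (∀ s : F, ∃ t : F, φ (t • w) = s • φ w)) :
    ∃ σ : F →+* F, ∀ (c : F) (w : V), InW Q e f w → φ (c • w) = σ c • φ w := by
  classical
  have hφ0 : φ 0 = 0 := by
    have := h3 0 0 InW.zero InW.zero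
    rw [add_zero] at this
    exact left_eq_add.mp this
  have hφneg : ∀ w, InW Q e f w → φ (-w) = -φ w := by
    intro w hw
    have hnw : InW Q e f (-w) := by
      have := hw.smul (-1 : F)
      rwa [neg_one_smul] at this
    have := h3 w (-w) hw hnw
    rw [add_neg_cancel, hφ0] at this
    exact (neg_eq_of_add_eq_zero_right this.symm).symm
  have hinj : ∀ w w', InW Q e f w → InW Q e f w' → φ w = φ w' → w = w' := by
    intro w w' hw hw' h
    have hnw : InW Q e f (-w') := by
      have := hw'.smul (-1 : F)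
      rwa [neg_one_smul] at this
    have h5 : φ (w + -w') = 0 := by
      rw [h3 w (-w') hw hnw, hφneg w' hw', h, add_neg_cancel]
    have := h4 _ (hw.add hnw) h5
    exact add_neg_eq_zero.1 this
  let sg : V → F → F := fun w c => if h : ∃ s, φ (c • w) = s • φ w then h.choose else 0
  have hsg : ∀ w, InW Q e f w → Q w = 0 → ∀ c, φ (c • w) = sg w c • φ w := by
    intro w hw hQw c
    have hex := (h6 w hw hQw).2.1 c
    simp only [sg, dif_pos hex]
    exact hex.choose_spec
  have hsg_uniq : ∀ w, InW Q e f w → Q w = 0 → w ≠ 0 → ∀ c s, φ (c • w) = s • φ w →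
      sg w c = s := by
    intro w hw hQw hw0 c s hs
    have h := hsg w hw hQw c
    rw [hs] at h
    have hne : φ w ≠ 0 := fun h0 => hw0 (h4 w hw h0)
    have : (s - sg w c) • φ w = 0 := by rw [sub_smul, h, sub_self]
    rcases smul_eq_zero.1 this with h' | h'
    · exact (sub_eq_zero.1 h').symm
    · exact absurd h' hne
  -- independence
  have hIND : ∀ w w', InW Q e f w → InW Q e f w' → w ≠ 0 → Q w = 0 → Q w' = 0 →
      pol (⇑Q) w w' = 0 → (∀ c : F, w' ≠ c • w) → sg w = sg w' := by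
    intro w w' hw hw' hw0 hQw hQw' hperp hind
    have hw'0 : w' ≠ 0 := by
      intro h0
      apply hind 0
      rw [h0, zero_smul]
    have hsumW : InW Q e f (w + w') := hw.add hw'
    have hQsum : Q (w + w') = 0 := by rw [Q_add', hQw, hQw', hperp]; simp
    have hli : ∀ a b : F, a • φ w + b • φ w' = 0 → a = 0 ∧ b = 0 := by
      intro a b hab
      have hne : φ w ≠ 0 := fun h0 => hw0 (h4 w hw h0)
      by_cases hb : b = 0
      · rw [hb, zero_smul, add_zero] at hab
        rcases smul_eq_zero.1 hab with h' | h'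
        · exact ⟨h', hb⟩
        · exact absurd h' hne
      · exfalso
        have h5 : φ w' = (-(b⁻¹ * a)) • φ w := by
          have : b • φ w' = -(a • φ w) := eq_neg_of_add_eq_zero_right hab
          calc φ w' = b⁻¹ • (b • φ w') := by rw [smul_smul, inv_mul_cancel₀ hb, one_smul]
            _ = (-(b⁻¹ * a)) • φ w := by rw [this, smul_neg, smul_smul, neg_smul]
        obtain ⟨t, ht⟩ := (h6 w hw hQw).2.2 (-(b⁻¹ * a))
        rw [← h5] at ht
        exact hind t (hinj _ _ (hw.smul t) hw' ht).symm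
    funext c
    have e1 : φ (c • (w + w')) = sg (w + w') c • (φ w + φ w') := by
      rw [hsg _ hsumW hQsum c, h3 w w' hw hw']
    have e2 : φ (c • (w + w')) = sg w c • φ w + sg w' c • φ w' := by
      rw [smul_add, h3 _ _ (hw.smul c) (hw'.smul c), hsg w hw hQw c, hsg w' hw' hQw' c]
    have e3 : (sg (w + w') c - sg w c) • φ w + (sg (w + w') c - sg w' c) • φ w' = 0 := by
      have := e1.symm.trans e2
      rw [sub_smul, sub_smul]
      rw [smul_add] at this
      have h' : sg (w + w') c • φ w + sg (w + w') c • φ w' - (sg w c • φ w + sg w' c • φ w') = 0 :=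
        sub_eq_zero.2 this
      rw [← h']; abel
    obtain ⟨ha, hb⟩ := hli _ _ e3
    rw [← sub_eq_zero.1 ha, ← sub_eq_zero.1 hb]
  have hconst := const_of_perp_indep hQ h7 e f he hf hef sg hIND
  obtain ⟨w₀, hw₀W, hw₀0, hQw₀, -, -⟩ := exists_common_perp hQ h7 e f he hf hef 0 0
  have hall : ∀ w, InW Q e f w → w ≠ 0 → Q w = 0 → sg w = sg w₀ := by
    intro w hw hw0 hQw
    exact hconst w w₀ hw hw₀W hw0 hw₀0 hQw hQw₀
  have hne₀ : φ w₀ ≠ 0 := fun h0 => hw₀0 (h4 w₀ hw₀W h0)
  have hone : sg w₀ 1 = 1 := by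
    apply hsg_uniq w₀ hw₀W hQw₀ hw₀0
    rw [one_smul, one_smul]
  have hzero : sg w₀ 0 = 0 := by
    apply hsg_uniq w₀ hw₀W hQw₀ hw₀0
    rw [zero_smul, zero_smul, hφ0]
  have hadd : ∀ c d, sg w₀ (c + d) = sg w₀ c + sg w₀ d := by
    intro c d
    apply hsg_uniq w₀ hw₀W hQw₀ hw₀0
    rw [add_smul, h3 _ _ (hw₀W.smul c) (hw₀W.smul d), hsg w₀ hw₀W hQw₀ c, hsg w₀ hw₀W hQw₀ d,
      add_smul]
  have hmul : ∀ c d, sg w₀ (c * d) = sg w₀ c * sg w₀ d := by
    intro c d
    by_cases hd : d = 0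
    · rw [hd, mul_zero, hzero, mul_zero]
    · apply hsg_uniq w₀ hw₀W hQw₀ hw₀0
      have hdW : InW Q e f (d • w₀) := hw₀W.smul d
      have hd0 : d • w₀ ≠ 0 := smul_ne_zero hd hw₀0
      have hQd : Q (d • w₀) = 0 := by rw [QuadraticMap.map_smul, hQw₀, smul_zero]
      rw [mul_smul, hsg _ hdW hQd c, hall _ hdW hd0 hQd, hsg w₀ hw₀W hQw₀ d, smul_smul]
  let σ : F →+* F :=
    { toFun := sg w₀
      map_one' := hone
      map_mul' := hmul
      map_zero' := hzero
      map_add' := hadd }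
  refine ⟨σ, ?_⟩
  have hsing : ∀ w, InW Q e f w → Q w = 0 → ∀ c, φ (c • w) = σ c • φ w := by
    intro w hw hQw c
    by_cases hw0 : w = 0
    · rw [hw0, smul_zero, hφ0, smul_zero]
    · rw [hsg w hw hQw c, hall w hw hw0 hQw]
      rfl
  obtain ⟨a, b, hQa, hQb, hab, hea, hfa, heb, hfb⟩ :=
    exists_hyp_perp_hyp Q hQ (by omega) e f he hf hef
  intro c w hw
  have hmem := mem_span_sing_of_hyp Q (Wsub Q e f) a b ((mem_Wsub e f a).2 ⟨hea, hfa⟩)
    ((mem_Wsub e f b).2 ⟨heb, hfb⟩) hQa hQb hab w ((mem_Wsub e f w).2 hw)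
  have key : InW Q e f w ∧ ∀ c, φ (c • w) = σ c • φ w := by
    refine Submodule.span_induction (p := fun y _ => InW Q e f y ∧ ∀ c, φ (c • y) = σ c • φ y)
      ?_ ?_ ?_ ?_ hmem
    · rintro x ⟨hxW, hQx⟩
      exact ⟨(mem_Wsub e f x).1 hxW, hsing x ((mem_Wsub e f x).1 hxW) hQx⟩
    · exact ⟨InW.zero, fun c => by rw [smul_zero, hφ0, smul_zero]⟩
    · rintro x y _ _ ⟨hx, hx'⟩ ⟨hy, hy'⟩
      refine ⟨hx.add hy, fun c => ?_⟩
      rw [smul_add, h3 _ _ (hx.smul c) (hy.smul c), hx' c, hy' c, h3 x y hx hy, smul_add]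
    · rintro d x _ ⟨hx, hx'⟩
      refine ⟨hx.smul d, fun c => ?_⟩
      rw [smul_smul, hx' (c * d), hx' d, map_mul, smul_smul]
  exact key.2 c

end geo

end

end Cfsg.Agent.Lib.Helper36.AutO
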