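import Mathlib
import Cfsg.Agent.Lib.Helper36.AutO.SemiLin2

set_option autoImplicit false
set_option linter.unusedSimpArgs false
set_option linter.unusedVariables false
set_option linter.unusedSectionVars false

/-!
# Comparing the maps induced on `W` through `U e` and through `U f`
-/

namespace Cfsg.Agent.Lib.Helper36.AutO

open Cfsg.Agent.Lib.Helper13 hiding isoGroup mem_isoGroup
open Cfsg.Agent.Lib.Helper36 Cfsg.Agent.Lib.Helper44 Module

section
variable {F V : Type*} [Field F] [AddCommGroup V] [Module F V]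

local notation "pol" => QuadraticMap.polar

variable {Q : QuadraticForm F V}

/-- a non-zero singular vector of `W` spans a totally singular line with `e` -/
theorem isLine_of_InW (e f w : V) (he : Q e = 0) (hfe : pol (⇑Q) f e = 1) (hw : InW Q e f w)
    (hw0 : w ≠ 0) (hQw : Q w = 0) : IsLine Q e w := by
  have he0 : e ≠ 0 := by
    intro h0
    rw [h0, QuadraticMap.polar_zero_right] at hfe
    exact zero_ne_one hfe
  refine ⟨he0, ?_, he, hQw, hw.1⟩
  intro c hc
  have : pol (⇑Q) f w = c := by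
    rw [hc, QuadraticMap.polar_smul_right, hfe, smul_eq_mul, mul_one]
  rw [hw.2] at this
  rw [← this, zero_smul] at hc
  exact hw0 hc

variable {Γ : Type*} [Group Γ] (M : OModel Q Γ)

namespace OModel

/-- the image of `e` under `E e a * E f b`, for `a, b ∈ W` -/
theorem mul_E_apply_e (e f a b : V) (he : Q e = 0) (hf : Q f = 0) (hef : pol (⇑Q) e f = 1)
    (ha : InW Q e f a) (hb : InW Q e f b) :
    M.ρ (M.E e a * M.E f b) e =
      (1 + Q a * Q b - pol (⇑Q) a b) • e - Q b • f + (Q b • a - b) := by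
  have hfe : pol (⇑Q) f e = 1 := by rw [QuadraticMap.polar_comm]; exact hef
  have hae : pol (⇑Q) a e = 0 := by rw [QuadraticMap.polar_comm]; exact ha.1
  have haf : pol (⇑Q) a f = 0 := by rw [QuadraticMap.polar_comm]; exact ha.2
  have hbe : pol (⇑Q) b e = 0 := by rw [QuadraticMap.polar_comm]; exact hb.1
  rw [M.mul_apply, M.E_apply f b hf hb.2, siegelLin_apply, hbe, hfe, one_smul, map_sub, map_add,
    map_smul, M.E_apply e a he ha.1, M.E_apply e a he ha.1, M.E_apply e a he ha.1, siegelLin_apply,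
    siegelLin_apply, siegelLin_apply, hae, haf, hef, pol_self_of_sing Q e he, hb.1]
  module

/-- elements of `U r` fix `r` -/
theorem U_fix (r : V) (hr : Q r = 0) (y : Γ) (hy : y ∈ M.U r) : M.ρ y r = r := by
  obtain ⟨u, hu, rfl⟩ := (M.mem_U_iff r hr y).1 hy
  have hur : pol (⇑Q) u r = 0 := by rw [QuadraticMap.polar_comm]; exact hu
  rw [M.E_apply r u hr hu, siegelLin_apply, pol_self_of_sing Q r hr, hur]
  simp

section main
variable [Finite F] [FiniteDimensional F V]
  (hQ : (QuadraticMap.polarBilin Q).Nondegenerate) (h7 : 7 ≤ finrank F V)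
  (ch : ℕ) [hch : Fact ch.Prime] [hchar : CharP F ch]

include M hQ h7 ch hch hchar

/-- if the image of `U r` lies in the image of `U f` then `r` is a multiple of `f` -/
theorem smul_of_Ub_le (r f : V) (hr0 : r ≠ 0) (hf0 : f ≠ 0) (hr : Q r = 0) (hf : Q f = 0)
    (hle : M.Ub r ≤ M.Ub f) : ∃ k : F, r = k • f := by
  have hU : M.U r ≤ M.U f := by
    intro y hy
    obtain ⟨x, hx, hxy⟩ := hle ⟨y, hy, rfl⟩
    have := M.prj_U_inj hQ h7 ch hf hr x y hx hy hxy
    rw [← this]; exact hx
  obtain ⟨c, hc⟩ := M.fixed_of_U hQ (by omega) r hr0 hr f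
    (fun y hy => M.U_fix f hf y (hU hy))
  have hc0 : c ≠ 0 := by
    intro h0
    rw [h0, zero_smul] at hc
    exact hf0 hc
  exact ⟨c⁻¹, by rw [hc, smul_smul, inv_mul_cancel₀ hc0, one_smul]⟩

/-- the images of `E e w` and `E f w` commute, hence so do their images under `β`: the vectors
`w₊`, `w₋` are proportional -/
theorem exists_mu_of_comm (β : MulAut (Γ ⧸ Subgroup.center Γ)) (e f : V)
    (he : Q e = 0) (hf : Q f = 0) (hef : pol (⇑Q) e f = 1) (w wp wm : V)
    (hw : InW Q e f w) (hw0 : w ≠ 0) (hQw : Q w = 0)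
    (hwp : InW Q e f wp) (hwp0 : wp ≠ 0) (hQwp : Q wp = 0)
    (hwm : InW Q e f wm) (hwm0 : wm ≠ 0) (hQwm : Q wm = 0)
    (hp : β (prj Γ (M.E e w)) = prj Γ (M.E e wp))
    (hm : β (prj Γ (M.E f w)) = prj Γ (M.E f wm)) : ∃ μ : F, μ ≠ 0 ∧ wm = μ • wp := by
  have hfe : pol (⇑Q) f e = 1 := by rw [QuadraticMap.polar_comm]; exact hef
  have hl1 : IsLine Q e w := isLine_of_InW e f w he hfe hw hw0 hQw
  have hl2 : IsLine Q f w := isLine_of_InW f e w hf hef hw.swap hw0 hQw
  have hl1' : IsLine Q e wp := isLine_of_InW e f wp he hfe hwp hwp0 hQwp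
  have hl2' : IsLine Q f wm := isLine_of_InW f e wm hf hef hwm.swap hwm0 hQwm
  have hmeet : LMeet (Submodule.span F {e, w}) (Submodule.span F {f, w}) :=
    ⟨w, hw0, Submodule.subset_span (by simp), Submodule.subset_span (by simp)⟩
  have hc := M.comm_of_meet hl1 hl2 hmeet _ _ (M.E_mem_X e w 1) (M.E_mem_X f w 1)
  rw [one_smul] at hc
  have hc' : prj Γ (M.E e wp) * prj Γ (M.E f wm) = prj Γ (M.E f wm) * prj Γ (M.E e wp) := by
    rw [← hp, ← hm, ← map_mul, ← map_mul, ← map_mul, ← map_mul, hc]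
  have hc'' := M.commute_of_mk_commute hQ (by omega) ch (M.E e wp) (M.E f wm) 1
    (by rw [pow_one]; exact M.E_pow_char f wm hf hwm.2 ch) hc'
  have hc3 : M.E e ((1 : F) • wp) * M.E f ((1 : F) • wm) =
      M.E f ((1 : F) • wm) * M.E e ((1 : F) • wp) := by
    rw [one_smul, one_smul]; exact hc''
  rcases M.perp_or_meet_of_comm hQ hl1' hl2' hc3 with hperp | hmeet'
  · exfalso
    obtain ⟨h1, -, -, -⟩ := (lperp_span_iff Q e wp f wm).1 hperp
    rw [hef] at h1
    exact one_ne_zero h1
  · obtain ⟨r, hr0, hr1, hr2⟩ := hmeet'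
    obtain ⟨a, b, hab⟩ := Submodule.mem_span_pair.1 hr1
    obtain ⟨c, d, hcd⟩ := Submodule.mem_span_pair.1 hr2
    have ha : a = 0 := by
      have h1 : pol (⇑Q) f r = a := by
        rw [← hab, QuadraticMap.polar_add_right, QuadraticMap.polar_smul_right,
          QuadraticMap.polar_smul_right, hfe, hwp.2]
        simp
      have h2 : pol (⇑Q) f r = 0 := by
        rw [← hcd, QuadraticMap.polar_add_right, QuadraticMap.polar_smul_right,
          QuadraticMap.polar_smul_right, pol_self_of_sing Q f hf, hwm.2]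
        simp
      rw [← h1, h2]
    have hc0 : c = 0 := by
      have h1 : pol (⇑Q) e r = c := by
        rw [← hcd, QuadraticMap.polar_add_right, QuadraticMap.polar_smul_right,
          QuadraticMap.polar_smul_right, hef, hwm.1]
        simp
      have h2 : pol (⇑Q) e r = 0 := by
        rw [← hab, QuadraticMap.polar_add_right, QuadraticMap.polar_smul_right,
          QuadraticMap.polar_smul_right, pol_self_of_sing Q e he, hwp.1]
        simp
      rw [← h1, h2]
    rw [ha, zero_smul, zero_add] at hab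
    rw [hc0, zero_smul, zero_add] at hcd
    have hb0 : b ≠ 0 := by
      intro h0
      rw [h0, zero_smul] at hab
      exact hr0 hab.symm
    have hd0 : d ≠ 0 := by
      intro h0
      rw [h0, zero_smul] at hcd
      exact hr0 hcd.symm
    refine ⟨d⁻¹ * b, mul_ne_zero (inv_ne_zero hd0) hb0, ?_⟩
    rw [mul_smul, hab, ← hcd, smul_smul, inv_mul_cancel₀ hd0, one_smul]

end main

end OModel

end

end Cfsg.Agent.Lib.Helper36.AutO
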