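import Mathlib
import Cfsg.Agent.Lib.Helper36.AutO.Swap

set_option autoImplicit false
set_option linter.unusedSimpArgs false
set_option linter.unusedVariables false
set_option linter.unusedSectionVars false

/-!
# The two induced maps on `W` are proportional; the multiplier of the induced map
-/

namespace Cfsg.Agent.Lib.Helper36.AutO

open Cfsg.Agent.Lib.Helper13 hiding isoGroup mem_isoGroup
open Cfsg.Agent.Lib.Helper36 Cfsg.Agent.Lib.Helper44 Module

section
variable {F V : Type*} [Field F] [AddCommGroup V] [Module F V]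

local notation "pol" => QuadraticMap.polar

variable {Q : QuadraticForm F V}

section geo
variable [Finite F] [FiniteDimensional F V]
  (hQ : (QuadraticMap.polarBilin Q).Nondegenerate) (h7 : 7 ≤ finrank F V)
  (e f : V) (he : Q e = 0) (hf : Q f = 0) (hef : pol (⇑Q) e f = 1)

include hQ h7 he hf hef

/-- two additive maps on `W`, one of them semilinear and injective, which are proportional on
each singular vector, are proportional -/
theorem exists_mu (φp φm : V → V) (σ : F →+* F)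
    (hp3 : ∀ w w', InW Q e f w → InW Q e f w' → φp (w + w') = φp w + φp w')
    (hp4 : ∀ w, InW Q e f w → φp w = 0 → w = 0)
    (hpσ : ∀ (c : F) (w : V), InW Q e f w → φp (c • w) = σ c • φp w)
    (hm3 : ∀ w w', InW Q e f w → InW Q e f w' → φm (w + w') = φm w + φm w')
    (hprop : ∀ w, InW Q e f w → w ≠ 0 → Q w = 0 → ∃ μ : F, μ ≠ 0 ∧ φm w = μ • φp w) :
    ∃ μ : F, μ ≠ 0 ∧ ∀ w, InW Q e f w → φm w = μ • φp w := by
  classical
  have hσsurj : Function.Surjective σ := Finite.injective_iff_surjective.1 σ.injective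
  have hφ0 : ∀ φ : V → V, (∀ w w', InW Q e f w → InW Q e f w' → φ (w + w') = φ w + φ w') →
      φ 0 = 0 := by
    intro φ h3
    have := h3 0 0 InW.zero InW.zero
    rw [add_zero] at this
    exact left_eq_add.mp this
  let mu : V → F := fun w => if h : ∃ μ : F, φm w = μ • φp w then h.choose else 0
  have hmu : ∀ w, InW Q e f w → w ≠ 0 → Q w = 0 → φm w = mu w • φp w := by
    intro w hw hw0 hQw
    obtain ⟨μ, -, hμ⟩ := hprop w hw hw0 hQw
    have hex : ∃ μ : F, φm w = μ • φp w := ⟨μ, hμ⟩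
    simp only [mu, dif_pos hex]
    exact hex.choose_spec
  have hmu_uniq : ∀ w, InW Q e f w → w ≠ 0 → Q w = 0 → ∀ μ, φm w = μ • φp w → mu w = μ := by
    intro w hw hw0 hQw μ hμ
    have h := hmu w hw hw0 hQw
    rw [hμ] at h
    have hne : φp w ≠ 0 := fun h0 => hw0 (hp4 w hw h0)
    have : (μ - mu w) • φp w = 0 := by rw [sub_smul, h, sub_self]
    rcases smul_eq_zero.1 this with h' | h'
    · exact (sub_eq_zero.1 h').symm
    · exact absurd h' hne
  have hIND : ∀ w w', InW Q e f w → InW Q e f w' → w ≠ 0 → Q w = 0 → Q w' = 0 →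
      pol (⇑Q) w w' = 0 → (∀ c : F, w' ≠ c • w) → mu w = mu w' := by
    intro w w' hw hw' hw0 hQw hQw' hperp hind
    have hw'0 : w' ≠ 0 := by
      intro h0
      apply hind 0
      rw [h0, zero_smul]
    have hsumW : InW Q e f (w + w') := hw.add hw'
    have hQsum : Q (w + w') = 0 := by rw [Q_add', hQw, hQw', hperp]; simp
    have hsum0 : w + w' ≠ 0 := by
      intro h0
      apply hind (-1)
      rw [neg_one_smul]
      exact eq_neg_of_add_eq_zero_right h0
    have hli : ∀ a b : F, a • φp w + b • φp w' = 0 → a = 0 ∧ b = 0 := by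
      intro a b hab
      obtain ⟨a', rfl⟩ := hσsurj a
      obtain ⟨b', rfl⟩ := hσsurj b
      rw [← hpσ a' w hw, ← hpσ b' w' hw', ← hp3 _ _ (hw.smul a') (hw'.smul b')] at hab
      have h0 := hp4 _ ((hw.smul a').add (hw'.smul b')) hab
      have hb' : b' = 0 := by
        by_contra hb
        apply hind (-(b'⁻¹ * a'))
        have : b' • w' = -(a' • w) := eq_neg_of_add_eq_zero_right h0
        calc w' = b'⁻¹ • (b' • w') := by rw [smul_smul, inv_mul_cancel₀ hb, one_smul]
          _ = (-(b'⁻¹ * a')) • w := by rw [this, smul_neg, smul_smul, neg_smul]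
      rw [hb', zero_smul, add_zero] at h0
      rcases smul_eq_zero.1 h0 with h' | h'
      · rw [h', hb', map_zero]; exact ⟨rfl, rfl⟩
      · exact absurd h' hw0
    have e1 : φm (w + w') = mu (w + w') • (φp w + φp w') := by
      rw [hmu _ hsumW hsum0 hQsum, hp3 w w' hw hw']
    have e2 : φm (w + w') = mu w • φp w + mu w' • φp w' := by
      rw [hm3 w w' hw hw', hmu w hw hw0 hQw, hmu w' hw' hw'0 hQw']
    have e3 : (mu (w + w') - mu w) • φp w + (mu (w + w') - mu w') • φp w' = 0 := by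
      have := e1.symm.trans e2
      rw [sub_smul, sub_smul]
      rw [smul_add] at this
      have h' : mu (w + w') • φp w + mu (w + w') • φp w' - (mu w • φp w + mu w' • φp w') = 0 :=
        sub_eq_zero.2 this
      rw [← h']; abel
    obtain ⟨ha, hb⟩ := hli _ _ e3
    rw [← sub_eq_zero.1 ha, ← sub_eq_zero.1 hb]
  have hconst := const_of_perp_indep hQ h7 e f he hf hef mu hIND
  obtain ⟨w₀, hw₀W, hw₀0, hQw₀, -, -⟩ := exists_common_perp hQ h7 e f he hf hef 0 0
  have hall : ∀ w, InW Q e f w → w ≠ 0 → Q w = 0 → mu w = mu w₀ := by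
    intro w hw hw0 hQw
    exact hconst w w₀ hw hw₀W hw0 hw₀0 hQw hQw₀
  have hmu0 : mu w₀ ≠ 0 := by
    obtain ⟨μ, hμ0, hμ⟩ := hprop w₀ hw₀W hw₀0 hQw₀
    rw [hmu_uniq w₀ hw₀W hw₀0 hQw₀ μ hμ]
    exact hμ0
  refine ⟨mu w₀, hmu0, ?_⟩
  have hsing : ∀ w, InW Q e f w → Q w = 0 → φm w = mu w₀ • φp w := by
    intro w hw hQw
    by_cases hw0 : w = 0
    · rw [hw0, hφ0 φm hm3, hφ0 φp hp3, smul_zero]
    · rw [hmu w hw hw0 hQw, hall w hw hw0 hQw]
  obtain ⟨a, b, hQa, hQb, hab, hea, hfa, heb, hfb⟩ :=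
    exists_hyp_perp_hyp Q hQ (by omega) e f he hf hef
  intro w hw
  have hmem := mem_span_sing_of_hyp Q (Wsub Q e f) a b ((mem_Wsub e f a).2 ⟨hea, hfa⟩)
    ((mem_Wsub e f b).2 ⟨heb, hfb⟩) hQa hQb hab w ((mem_Wsub e f w).2 hw)
  have key : InW Q e f w ∧ ∀ c : F, φm (c • w) = mu w₀ • φp (c • w) := by
    refine Submodule.span_induction
      (p := fun y _ => InW Q e f y ∧ ∀ c : F, φm (c • y) = mu w₀ • φp (c • y)) ?_ ?_ ?_ ?_ hmem
    · rintro x ⟨hxW, hQx⟩
      have hx := (mem_Wsub e f x).1 hxW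
      exact ⟨hx, fun c => hsing _ (hx.smul c) (by rw [QuadraticMap.map_smul, hQx, smul_zero])⟩
    · exact ⟨InW.zero, fun c => by rw [smul_zero, hφ0 φm hm3, hφ0 φp hp3, smul_zero]⟩
    · rintro x y _ _ ⟨hx, hx'⟩ ⟨hy, hy'⟩
      refine ⟨hx.add hy, fun c => ?_⟩
      rw [smul_add, hm3 _ _ (hx.smul c) (hy.smul c), hx' c, hy' c, hp3 _ _ (hx.smul c) (hy.smul c),
        smul_add]
    · rintro d x _ ⟨hx, hx'⟩
      refine ⟨hx.smul d, fun c => ?_⟩
      rw [smul_smul]
      exact hx' (c * d)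
  have := key.2 1
  rwa [one_smul] at this

end geo

end

end Cfsg.Agent.Lib.Helper36.AutO
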