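import Mathlib
import Cfsg.Agent.Lib.Helper36.AutO.Swap2

set_option autoImplicit false
set_option linter.unusedSimpArgs false
set_option linter.unusedVariables false
set_option linter.unusedSectionVars false

/-!
# The multiplier of the induced map on `W`
-/

namespace Cfsg.Agent.Lib.Helper36.AutO

open Cfsg.Agent.Lib.Helper13 hiding isoGroup mem_isoGroup
open Cfsg.Agent.Lib.Helper36 Cfsg.Agent.Lib.Helper44 Module

section
variable {F V : Type*} [Field F] [AddCommGroup V] [Module F V]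

local notation "pol" => QuadraticMap.polar

variable {Q : QuadraticForm F V} {Γ : Type*} [Group Γ] (M : OModel Q Γ)

namespace OModel

section main
variable [Finite F] [FiniteDimensional F V]
  (hQ : (QuadraticMap.polarBilin Q).Nondegenerate) (h7 : 7 ≤ finrank F V)
  (ch : ℕ) [hch : Fact ch.Prime] [hchar : CharP F ch]

include M hQ h7 ch hch hchar

/-- **The multiplier.** The induced map on `W` multiplies `Q` by `μ⁻¹` after applying `σ`. -/
theorem Q_phi (β : MulAut (Γ ⧸ Subgroup.center Γ)) (e f : V)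
    (he : Q e = 0) (hf : Q f = 0) (hef : pol (⇑Q) e f = 1)
    (hβe : (M.Ub e).map β.toMonoidHom = M.Ub e) (hβf : (M.Ub f).map β.toMonoidHom = M.Ub f)
    (φ : V → V) (σ : F →+* F) (μ : F) (hμ : μ ≠ 0)
    (h1 : ∀ w, InW Q e f w → InW Q e f (φ w))
    (h4 : ∀ w, InW Q e f w → φ w = 0 → w = 0)
    (hσ : ∀ (c : F) (w : V), InW Q e f w → φ (c • w) = σ c • φ w)
    (h6 : ∀ w, InW Q e f w → Q w = 0 → Q (φ w) = 0)
    (hβ1 : ∀ w, InW Q e f w → β (prj Γ (M.E e w)) = prj Γ (M.E e (φ w)))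
    (hβ2 : ∀ w, InW Q e f w → β (prj Γ (M.E f w)) = prj Γ (M.E f (μ • φ w)))
    (a : V) (ha : InW Q e f a) : Q (φ a) = μ⁻¹ * σ (Q a) := by
  have hfe : pol (⇑Q) f e = 1 := by rw [QuadraticMap.polar_comm]; exact hef
  have he0 : e ≠ 0 := by
    intro h0
    rw [h0, QuadraticMap.polar_zero_left] at hef
    exact zero_ne_one hef
  have hf0 : f ≠ 0 := by
    intro h0
    rw [h0, QuadraticMap.polar_zero_right] at hef
    exact zero_ne_one hef
  by_cases hQa : Q a = 0
  · rw [h6 a ha hQa, hQa, map_zero, mul_zero]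
  have ha0 : a ≠ 0 := by
    intro h0
    rw [h0, map_zero] at hQa
    exact hQa rfl
  set t := (Q a)⁻¹ with ht
  have ht0 : t ≠ 0 := inv_ne_zero hQa
  have hb : InW Q e f (t • a) := ha.smul t
  set n := M.E e a * M.E f (t • a) with hn
  -- Step 1
  have hne : M.ρ n e = (-t) • f := by
    rw [hn, M.mul_E_apply_e e f a (t • a) he hf hef ha hb, QuadraticMap.map_smul,
      QuadraticMap.polar_smul_right, QuadraticMap.polar_self]
    have e1 : (1 + Q a * ((t * t) • Q a) - t • (2 • Q a)) = 0 := by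
      rw [smul_eq_mul, smul_eq_mul, nsmul_eq_mul, ht]
      field_simp
      ring
    have e2 : ((t * t) • Q a) = t := by
      rw [smul_eq_mul, ht]
      field_simp
    rw [e1, e2]
    module
  -- Step 2
  have hconj : (M.Ub e).map (MulAut.conj (prj Γ n)).toMonoidHom = M.Ub f := by
    rw [M.Ub_conj n e he, hne, M.Ub_smul f (-t) (neg_ne_zero.2 ht0) hf]
  -- Step 3
  set a' := φ a with ha'
  set s := μ * σ t with hs
  have hs0 : s ≠ 0 := mul_ne_zero hμ (by
    intro h0
    exact ht0 (σ.injective (h0.trans (map_zero σ).symm)))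
  have ha'W : InW Q e f a' := h1 a ha
  have ha'0 : a' ≠ 0 := fun h0 => ha0 (h4 a ha h0)
  have hb'W : InW Q e f (s • a') := ha'W.smul s
  set n' := M.E e a' * M.E f (s • a') with hn'
  have hβn : β (prj Γ n) = prj Γ n' := by
    rw [hn, hn', map_mul, map_mul, map_mul, hβ1 a ha, hβ2 _ hb, hσ t a ha, smul_smul]
  -- Step 4
  have hle : M.Ub (M.ρ n' e) ≤ M.Ub f := by
    rw [← M.Ub_conj n' e he]
    rintro y ⟨y₁, hy₁, rfl⟩
    rw [← hβe] at hy₁
    obtain ⟨y₀, hy₀, rfl⟩ := hy₁
    have h2 : (MulAut.conj (prj Γ n)).toMonoidHom y₀ ∈ M.Ub f := by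
      rw [← hconj]
      exact ⟨y₀, hy₀, rfl⟩
    have h3 : (MulAut.conj (prj Γ n')).toMonoidHom (β.toMonoidHom y₀) =
        β.toMonoidHom ((MulAut.conj (prj Γ n)).toMonoidHom y₀) := by
      simp only [MulEquiv.coe_toMonoidHom, MulAut.conj_apply, map_mul, map_inv, hβn]
    rw [h3, ← hβf]
    exact ⟨_, h2, rfl⟩
  have hr0 : M.ρ n' e ≠ 0 := by
    intro h0
    exact he0 ((M.ρ n').injective (h0.trans (map_zero _).symm))
  obtain ⟨k, hk⟩ := M.smul_of_Ub_le hQ h7 ch (M.ρ n' e) f hr0 hf0 (by rw [M.isom, he]) hf hle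
  -- Step 6
  rw [hn', M.mul_E_apply_e e f a' (s • a') he hf hef ha'W hb'W] at hk
  have hW : InW Q e f (Q (s • a') • a' - s • a') := by
    have := (ha'W.smul (Q (s • a'))).add (hb'W.smul (-1 : F))
    rw [neg_one_smul, ← sub_eq_add_neg] at this
    exact this
  obtain ⟨c₁, hc₁⟩ : ∃ c₁ : F, c₁ = 1 + Q a' * Q (s • a') - pol (⇑Q) a' (s • a') := ⟨_, rfl⟩
  rw [← hc₁] at hk
  have hk1 := congrArg (fun v => pol (⇑Q) e v) hk
  simp only [QuadraticMap.polar_add_right, QuadraticMap.polar_sub_right,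
    QuadraticMap.polar_smul_right, pol_self_of_sing Q e he, hef, ha'W.1, smul_eq_mul, mul_zero,
    mul_one, sub_zero, zero_sub, add_zero] at hk1
  have hk2 := congrArg (fun v => pol (⇑Q) f v) hk
  simp only [QuadraticMap.polar_add_right, QuadraticMap.polar_sub_right,
    QuadraticMap.polar_smul_right, pol_self_of_sing Q f hf, hfe, ha'W.2, smul_eq_mul, mul_zero,
    mul_one, sub_zero, zero_sub, add_zero] at hk2
  rw [hk2, ← hk1, zero_smul, zero_sub, neg_add_eq_iff_eq_add] at hk
  have hk3 : (Q (s • a') - s) • a' = 0 := by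
    rw [sub_smul]
    have := hk
    rw [neg_smul, add_neg_cancel] at this
    exact this
  rcases smul_eq_zero.1 hk3 with h' | h'
  · rw [QuadraticMap.map_smul, smul_eq_mul, sub_eq_zero] at h'
    have h5 : s * Q a' = 1 := by
      have : s * (s * Q a') = s * 1 := by rw [mul_one, ← mul_assoc]; exact h'
      exact mul_left_cancel₀ hs0 this
    have h6 : Q a' = s⁻¹ := eq_inv_of_mul_eq_one_right h5
    rw [h6, hs, mul_inv, ht, map_inv₀, inv_inv]
  · exact absurd h' ha'0

end main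

end OModel

end

end Cfsg.Agent.Lib.Helper36.AutO
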