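import Mathlib
import Cfsg.Agent.Lib.Helper36.AutO.Swap3

set_option autoImplicit false
set_option linter.unusedSimpArgs false
set_option linter.unusedVariables false
set_option linter.unusedSectionVars false

/-!
# The semilinear extension of the induced map on `W`
-/

namespace Cfsg.Agent.Lib.Helper36.AutO

open Cfsg.Agent.Lib.Helper13 hiding isoGroup mem_isoGroup
open Cfsg.Agent.Lib.Helper36 Cfsg.Agent.Lib.Helper44 Module

section
variable {F V : Type*} [Field F] [AddCommGroup V] [Module F V]

local notation "pol" => QuadraticMap.polar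

/-- the projection to `W = ⟨e,f⟩^⊥` -/
def projW (Q : QuadraticForm F V) (e f x : V) : V := x - pol (⇑Q) f x • e - pol (⇑Q) e x • f

/-- the semilinear extension -/
def gHat (Q : QuadraticForm F V) (e f : V) (φ : V → V) (σ : F →+* F) (c : F) (x : V) : V :=
  σ (pol (⇑Q) f x) • (c • e) + σ (pol (⇑Q) e x) • f + φ (projW Q e f x)

variable {Q : QuadraticForm F V}

theorem projW_add (e f x y : V) : projW Q e f (x + y) = projW Q e f x + projW Q e f y := by
  unfold projW
  rw [QuadraticMap.polar_add_right, QuadraticMap.polar_add_right]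
  module

theorem projW_smul (e f : V) (k : F) (x : V) : projW Q e f (k • x) = k • projW Q e f x := by
  unfold projW
  rw [QuadraticMap.polar_smul_right, QuadraticMap.polar_smul_right]
  simp only [smul_eq_mul]
  module

theorem projW_mem (e f x : V) (he : Q e = 0) (hf : Q f = 0) (hef : pol (⇑Q) e f = 1) :
    InW Q e f (projW Q e f x) := hyp_decomp e f x he hf hef

theorem projW_of_mem (e f w : V) (hw : InW Q e f w) : projW Q e f w = w := by
  unfold projW
  rw [hw.1, hw.2]
  simp

theorem Q_hyp_add (e f w : V) (a b : F) (he : Q e = 0) (hf : Q f = 0) (hef : pol (⇑Q) e f = 1)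
    (hw : InW Q e f w) : Q (a • e + b • f + w) = a * b + Q w := by
  rw [Q_add', Q_add', QuadraticMap.map_smul, QuadraticMap.map_smul, he, hf,
    QuadraticMap.polar_smul_left, QuadraticMap.polar_smul_right, hef, QuadraticMap.polar_add_left,
    QuadraticMap.polar_smul_left, QuadraticMap.polar_smul_left, hw.1, hw.2]
  simp only [smul_eq_mul, mul_zero, zero_add, mul_one, add_zero]

theorem decomp_eq (e f x : V) :
    x = pol (⇑Q) f x • e + pol (⇑Q) e x • f + projW Q e f x := by
  unfold projW
  module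

section ghat
variable (e f : V) (he : Q e = 0) (hf : Q f = 0) (hef : pol (⇑Q) e f = 1)
  (φ : V → V) (σ : F →+* F) (c : F)
  (h1 : ∀ w, InW Q e f w → InW Q e f (φ w))
  (h3 : ∀ w w', InW Q e f w → InW Q e f w' → φ (w + w') = φ w + φ w')
  (hσ : ∀ (k : F) (w : V), InW Q e f w → φ (k • w) = σ k • φ w)
  (hQφ : ∀ w, InW Q e f w → Q (φ w) = c * σ (Q w))

include he hf hef

theorem gHat_e : gHat Q e f φ σ c e = c • e + φ 0 := by
  have hfe : pol (⇑Q) f e = 1 := by rw [QuadraticMap.polar_comm]; exact hef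
  unfold gHat projW
  rw [hfe, pol_self_of_sing Q e he]
  simp

theorem gHat_f : gHat Q e f φ σ c f = f + φ 0 := by
  unfold gHat projW
  rw [hef, pol_self_of_sing Q f hf]
  simp

omit he hf hef in
theorem gHat_W (w : V) (hw : InW Q e f w) : gHat Q e f φ σ c w = φ w := by
  unfold gHat
  rw [projW_of_mem e f w hw, hw.1, hw.2]
  simp

include h3 in
theorem gHat_add (x y : V) :
    gHat Q e f φ σ c (x + y) = gHat Q e f φ σ c x + gHat Q e f φ σ c y := by
  unfold gHat
  rw [projW_add, h3 _ _ (projW_mem e f x he hf hef) (projW_mem e f y he hf hef),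
    QuadraticMap.polar_add_right, QuadraticMap.polar_add_right, map_add, map_add]
  module

include hσ in
theorem gHat_smul (k : F) (x : V) :
    gHat Q e f φ σ c (k • x) = σ k • gHat Q e f φ σ c x := by
  unfold gHat
  rw [projW_smul, hσ _ _ (projW_mem e f x he hf hef),
    QuadraticMap.polar_smul_right, QuadraticMap.polar_smul_right, smul_eq_mul, smul_eq_mul,
    map_mul, map_mul]
  module

include h1 hQφ in
theorem Q_gHat (x : V) : Q (gHat Q e f φ σ c x) = c * σ (Q x) := by
  have hx := projW_mem e f x he hf hef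
  have e1 : Q x = pol (⇑Q) f x * pol (⇑Q) e x + Q (projW Q e f x) := by
    conv_lhs => rw [decomp_eq (Q := Q) e f x]
    exact Q_hyp_add e f _ _ _ he hf hef hx
  unfold gHat
  rw [smul_smul, Q_hyp_add e f _ _ _ he hf hef (h1 _ hx), hQφ _ hx, e1, map_add, map_mul]
  ring

include h1 h3 hQφ in
theorem pol_gHat (x y : V) :
    pol (⇑Q) (gHat Q e f φ σ c x) (gHat Q e f φ σ c y) = c * σ (pol (⇑Q) x y) := by
  unfold QuadraticMap.polar
  rw [← gHat_add e f he hf hef φ σ c h3, Q_gHat e f he hf hef φ σ c h1 hQφ,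
    Q_gHat e f he hf hef φ σ c h1 hQφ, Q_gHat e f he hf hef φ σ c h1 hQφ, map_sub, map_sub]
  ring

include h1 h3 hσ hQφ in
theorem gHat_siegel (hc : c ≠ 0) (p w z : V) :
    gHat Q e f φ σ c (siegelLin Q p w z) =
      siegelLin Q (gHat Q e f φ σ c p) (c⁻¹ • gHat Q e f φ σ c w) (gHat Q e f φ σ c z) := by
  have hadd := gHat_add e f he hf hef φ σ c h3
  have hsm := gHat_smul e f he hf hef φ σ c hσ
  have hQ' := Q_gHat e f he hf hef φ σ c h1 hQφ
  have hpol := pol_gHat e f he hf hef φ σ c h1 h3 hQφ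
  rw [siegelLin_apply, siegelLin_apply, sub_eq_add_neg, ← neg_smul, hadd, hadd, hsm, hsm,
    QuadraticMap.polar_smul_left, QuadraticMap.map_smul, hpol, hpol, hQ', map_sub, map_mul,
    map_neg]
  simp only [smul_eq_mul]
  have e1 : c⁻¹ * (c * σ (pol (⇑Q) w z)) - c⁻¹ * c⁻¹ * (c * σ (Q w)) * (c * σ (pol (⇑Q) p z)) =
      σ (pol (⇑Q) w z) - σ (Q w) * σ (pol (⇑Q) p z) := by
    field_simp
  rw [e1, smul_smul]
  have e2 : c * σ (pol (⇑Q) p z) * c⁻¹ = σ (pol (⇑Q) p z) := by
    field_simp
  rw [e2]
  module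

include h1 h3 hσ hQφ in
theorem gHat_injective (hQ : (QuadraticMap.polarBilin Q).Nondegenerate) (hc : c ≠ 0) :
    Function.Injective (gHat Q e f φ σ c) := by
  have hadd := gHat_add e f he hf hef φ σ c h3
  have hsm := gHat_smul e f he hf hef φ σ c hσ
  have hpol := pol_gHat e f he hf hef φ σ c h1 h3 hQφ
  have hker : ∀ x, gHat Q e f φ σ c x = 0 → x = 0 := by
    intro x hx
    apply hQ.1 x
    intro y
    have h := hpol x y
    rw [hx, QuadraticMap.polar_zero_left] at h
    rcases mul_eq_zero.1 h.symm with h' | h'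
    · exact absurd h' hc
    · exact σ.injective (h'.trans (map_zero σ).symm)
  intro x y hxy
  have hneg : gHat Q e f φ σ c (-y) = -gHat Q e f φ σ c y := by
    have := hsm (-1) y
    rwa [neg_one_smul, map_neg, map_one, neg_one_smul] at this
  have : gHat Q e f φ σ c (x + -y) = 0 := by rw [hadd, hneg, hxy, add_neg_cancel]
  exact add_neg_eq_zero.1 (hker _ this)

end ghat

end

end Cfsg.Agent.Lib.Helper36.AutO
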