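import Mathlib
import Cfsg.Agent.Lib.Helper36.AutO.GHat

set_option autoImplicit false
set_option linter.unusedSimpArgs false
set_option linter.unusedVariables false
set_option linter.unusedSectionVars false

/-!
# Automorphisms of `Γ ⧸ Z(Γ)` are induced by semisimilarities (abstract form)
-/

namespace Cfsg.Agent.Lib.Helper36.AutO

open Cfsg.Agent.Lib.Helper13 hiding isoGroup mem_isoGroup
open Cfsg.Agent.Lib.Helper36 Cfsg.Agent.Lib.Helper44 Module

section
variable {F V : Type*} [Field F] [AddCommGroup V] [Module F V]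

local notation "pol" => QuadraticMap.polar

variable {Q : QuadraticForm F V} {Γ : Type*} [Group Γ] (M : OModel Q Γ)

namespace OModel

/-- the elements of `Γ` whose image under `β` is given by intertwining with `g` -/
def interSub (β : MulAut (Γ ⧸ Subgroup.center Γ)) (g : V → V) : Subgroup Γ where
  carrier := {s | ∃ s' : Γ, (∀ x, M.ρ s' (g x) = g (M.ρ s x)) ∧ β (prj Γ s) = prj Γ s'}
  one_mem' := ⟨1, fun x => by rw [M.one_apply, M.one_apply], by rw [map_one, map_one]⟩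
  mul_mem' := by
    rintro s₁ s₂ ⟨s₁', h1, h1'⟩ ⟨s₂', h2, h2'⟩
    refine ⟨s₁' * s₂', fun x => ?_, ?_⟩
    · rw [M.mul_apply, M.mul_apply, h2, h1]
    · rw [map_mul, map_mul, map_mul, h1', h2']
  inv_mem' := by
    rintro s ⟨s', h1, h1'⟩
    refine ⟨s'⁻¹, fun x => ?_, ?_⟩
    · have := h1 (M.ρ s⁻¹ x)
      rw [M.inv_apply] at this
      rw [← this, M.inv_apply']
    · rw [map_inv, map_inv, map_inv, h1']

theorem mem_interSub (β : MulAut (Γ ⧸ Subgroup.center Γ)) (g : V → V) (s : Γ) :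
    s ∈ M.interSub β g ↔
      ∃ s' : Γ, (∀ x, M.ρ s' (g x) = g (M.ρ s x)) ∧ β (prj Γ s) = prj Γ s' := Iff.rfl

section main
variable [Finite F] [FiniteDimensional F V]
  (hQ : (QuadraticMap.polarBilin Q).Nondegenerate) (h7 : 7 ≤ finrank F V)
  (ch : ℕ) [hch : Fact ch.Prime] [hchar : CharP F ch]

include M hQ h7 ch hch hchar

/-- the normalised case -/
theorem main_normalized [Finite Γ] (β : MulAut (Γ ⧸ Subgroup.center Γ)) (e f : V)
    (he : Q e = 0) (hf : Q f = 0) (hef : pol (⇑Q) e f = 1)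
    (hβe : (M.Ub e).map β.toMonoidHom = M.Ub e) (hβf : (M.Ub f).map β.toMonoidHom = M.Ub f) :
    ∃ (σ : F →+* F) (g : V → V) (c : F), c ≠ 0 ∧ (∀ x y, g (x + y) = g x + g y) ∧
      (∀ (k : F) (x : V), g (k • x) = σ k • g x) ∧ Function.Injective g ∧
      (∀ x, Q (g x) = c * σ (Q x)) ∧
      ∀ s : Γ, ∃ s' : Γ, (∀ x, M.ρ s' (g x) = g (M.ρ s x)) ∧ β (prj Γ s) = prj Γ s' := by
  have hfe : pol (⇑Q) f e = 1 := by rw [QuadraticMap.polar_comm]; exact hef
  obtain ⟨φp, p1, p2, p3, p4, p5, p6⟩ := M.exists_phi hQ h7 ch β e f he hf hef hβe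
  obtain ⟨φm, m1, m2, m3, m4, m5, m6⟩ := M.exists_phi hQ h7 ch β f e hf he hfe hβf
  obtain ⟨σ, hσ⟩ := exists_sigma hQ h7 e f he hf hef φp p1 p3 p4 p6
  have hprop : ∀ w, InW Q e f w → w ≠ 0 → Q w = 0 → ∃ μ : F, μ ≠ 0 ∧ φm w = μ • φp w := by
    intro w hw hw0 hQw
    exact M.exists_mu_of_comm hQ h7 ch β e f he hf hef w (φp w) (φm w) hw hw0 hQw (p1 w hw)
      (fun h0 => hw0 (p4 w hw h0)) (p6 w hw hQw).1 (m1 w hw.swap).swap
      (fun h0 => hw0 (m4 w hw.swap h0)) (m6 w hw.swap hQw).1 (p2 w hw) (m2 w hw.swap)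
  obtain ⟨μ, hμ0, hμ⟩ := exists_mu hQ h7 e f he hf hef φp φm σ p3 p4 hσ
    (fun w w' hw hw' => m3 w w' hw.swap hw'.swap) hprop
  have hQφ : ∀ a, InW Q e f a → Q (φp a) = μ⁻¹ * σ (Q a) :=
    M.Q_phi hQ h7 ch β e f he hf hef hβe hβf φp σ μ hμ0 p1 p4 hσ
      (fun w hw hQw => (p6 w hw hQw).1) p2 (fun w hw => by rw [m2 w hw.swap, hμ w hw])
  have hc : μ⁻¹ ≠ 0 := inv_ne_zero hμ0
  have hφ0 : φp 0 = 0 := by
    have := p3 0 0 InW.zero InW.zero
    rw [add_zero] at this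
    exact left_eq_add.mp this
  set g := gHat Q e f φp σ μ⁻¹ with hg
  have hadd : ∀ x y, g (x + y) = g x + g y := gHat_add e f he hf hef φp σ μ⁻¹ p3
  have hsm : ∀ (k : F) (x : V), g (k • x) = σ k • g x := gHat_smul e f he hf hef φp σ μ⁻¹ hσ
  have hQg : ∀ x, Q (g x) = μ⁻¹ * σ (Q x) := Q_gHat e f he hf hef φp σ μ⁻¹ p1 hQφ
  have hsieg : ∀ p w z : V, g (siegelLin Q p w z) = siegelLin Q (g p) (μ⁻¹⁻¹ • g w) (g z) :=
    gHat_siegel e f he hf hef φp σ μ⁻¹ p1 p3 hσ hQφ hc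
  have hinj : Function.Injective g := gHat_injective e f he hf hef φp σ μ⁻¹ p1 p3 hσ hQφ hQ hc
  have hge : g e = μ⁻¹ • e := by rw [hg, gHat_e e f he hf hef, hφ0, add_zero]
  have hgf : g f = f := by rw [hg, gHat_f e f he hf hef, hφ0, add_zero]
  have hgW : ∀ w, InW Q e f w → g w = φp w := fun w hw => gHat_W e f φp σ μ⁻¹ w hw
  refine ⟨σ, g, μ⁻¹, hc, hadd, hsm, hinj, hQg, ?_⟩
  have htop : M.interSub β g = ⊤ := by
    rw [eq_top_iff, ← M.closure_U_U hQ e f he hf hef, Subgroup.closure_le]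
    rintro x (hx | hx)
    · obtain ⟨u, hu, rfl⟩ := (M.mem_U_iff e he x).1 hx
      have hwW : InW Q e f (u + (-pol (⇑Q) f u) • e) := InW.proj he hfe hu
      set w := u + (-pol (⇑Q) f u) • e with hw
      have hEw : M.E e w = M.E e u := M.E_add_smul e u _ he hu
      rw [← hEw]
      refine ⟨M.E e (φp w), fun x => ?_, p2 w hwW⟩
      rw [M.E_apply e _ he (p1 w hwW).1, M.E_apply e w he hwW.1, hsieg, hge, hgW w hwW,
        siegelLin_smul_left, smul_smul, inv_inv, inv_mul_cancel₀ hμ0, one_smul]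
    · obtain ⟨u, hu, rfl⟩ := (M.mem_U_iff f hf x).1 hx
      have hwW : InW Q e f (u + (-pol (⇑Q) e u) • f) := (InW.proj hf hef hu).swap
      set w := u + (-pol (⇑Q) e u) • f with hw
      have hEw : M.E f w = M.E f u := M.E_add_smul f u _ hf hu
      rw [← hEw]
      have hm : β (prj Γ (M.E f w)) = prj Γ (M.E f (μ • φp w)) := by
        rw [m2 w hwW.swap, hμ w hwW]
      refine ⟨M.E f (μ • φp w), fun x => ?_, hm⟩
      rw [M.E_apply f _ hf ((p1 w hwW).smul μ).2, M.E_apply f w hf hwW.2, hsieg, hgf, hgW w hwW,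
        inv_inv]
  intro s
  have : s ∈ M.interSub β g := by rw [htop]; exact Subgroup.mem_top s
  exact this

end main

end OModel

end

end Cfsg.Agent.Lib.Helper36.AutO
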