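import Mathlib
import Cfsg.Agent.Lib.Helper36.AutO.Final

set_option autoImplicit false
set_option linter.unusedSimpArgs false
set_option linter.unusedVariables false
set_option linter.unusedSectionVars false

/-!
# Automorphisms of `Γ ⧸ Z(Γ)` are induced by semisimilarities: the abstract main theorem
-/

namespace Cfsg.Agent.Lib.Helper36.AutO

open Cfsg.Agent.Lib.Helper13 hiding isoGroup mem_isoGroup
open Cfsg.Agent.Lib.Helper36 Cfsg.Agent.Lib.Helper44 Module

section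
variable {F V : Type*} [Field F] [AddCommGroup V] [Module F V]

local notation "pol" => QuadraticMap.polar

variable {Q : QuadraticForm F V} {Γ : Type*} [Group Γ] (M : OModel Q Γ)

namespace OModel

section main
variable [Finite F] [FiniteDimensional F V]
  (hQ : (QuadraticMap.polarBilin Q).Nondegenerate) (h7 : 7 ≤ finrank F V)
  (ch : ℕ) [hch : Fact ch.Prime] [hchar : CharP F ch] (N : ℕ) (hreg : Regime Q N)

include M hQ h7 ch hch hchar hreg

/-- **Main theorem (abstract form).** Every automorphism of `Γ ⧸ Z(Γ)` is induced by a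
semisimilarity of `Q`. -/
theorem main [Finite Γ] (α : MulAut (Γ ⧸ Subgroup.center Γ)) :
    ∃ (σ : F →+* F) (g : V → V) (c : F), c ≠ 0 ∧ (∀ x y, g (x + y) = g x + g y) ∧
      (∀ (k : F) (x : V), g (k • x) = σ k • g x) ∧ Function.Bijective g ∧
      (∀ x, Q (g x) = c * σ (Q x)) ∧
      ∀ s s' : Γ, (∀ x, M.ρ s' (g x) = g (M.ρ s x)) → α (prj Γ s) = prj Γ s' := by
  obtain ⟨e, f, -, he, hf, hef, -, -, -⟩ := peel Q hQ (by omega)
  obtain ⟨g₀, h1, h2⟩ := M.exists_normalize hQ h7 ch N hreg α e f he hf hef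
  obtain ⟨σ, g, c, hc, hadd, hsm, hinj, hQg, hall⟩ :=
    M.main_normalized hQ h7 ch (MulAut.conj (prj Γ g₀) * α) e f he hf hef h1 h2
  have hfin : Finite V := Module.finite_of_finite F
  have hinj' : Function.Injective (fun x => M.ρ g₀⁻¹ (g x)) :=
    (M.ρ g₀⁻¹).injective.comp hinj
  have hbij : Function.Bijective (fun x => M.ρ g₀⁻¹ (g x)) :=
    ⟨hinj', Finite.injective_iff_surjective.1 hinj'⟩
  refine ⟨σ, fun x => M.ρ g₀⁻¹ (g x), c, hc, ?_, ?_, hbij, ?_, ?_⟩
  · intro x y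
    show M.ρ g₀⁻¹ (g (x + y)) = M.ρ g₀⁻¹ (g x) + M.ρ g₀⁻¹ (g y)
    rw [hadd, map_add]
  · intro k x
    show M.ρ g₀⁻¹ (g (k • x)) = σ k • M.ρ g₀⁻¹ (g x)
    rw [hsm, map_smul]
  · intro x
    show Q (M.ρ g₀⁻¹ (g x)) = c * σ (Q x)
    rw [M.isom, hQg]
  · intro s s' h
    obtain ⟨s'', hs'', hβ⟩ := hall s
    have hs' : s' = g₀⁻¹ * s'' * g₀ := by
      apply M.ext_apply
      intro z
      obtain ⟨x, rfl⟩ := hbij.2 z
      show M.ρ s' (M.ρ g₀⁻¹ (g x)) = M.ρ (g₀⁻¹ * s'' * g₀) (M.ρ g₀⁻¹ (g x))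
      rw [h x, M.mul_apply, M.mul_apply, M.inv_apply, hs'']
    have h3 : α (prj Γ s) = (prj Γ g₀)⁻¹ * prj Γ s'' * prj Γ g₀ := by
      rw [← hβ]
      simp only [MulAut.mul_apply, MulAut.conj_apply]
      group
    rw [h3, hs', map_mul, map_mul, map_inv]

end main

end OModel

end

end Cfsg.Agent.Lib.Helper36.AutO
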