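import Mathlib
import Cfsg.Agent.Lib.Helper36.AutO.Main
import Cfsg.Agent.Lib.Helper36.SemiPair
import Cfsg.Agent.Lib.Helper44.POmegaSimple

set_option autoImplicit false
set_option linter.unusedSimpArgs false
set_option linter.unusedVariables false
set_option linter.unusedSectionVars false

/-!
# Transfer of the abstract main theorem to the matrix group `Ω(Q)`
-/

namespace Cfsg.Agent.Lib.Helper36.AutO

open Cfsg.Agent.Lib.Helper13 hiding isoGroup mem_isoGroup
open Cfsg.Agent.Lib.Helper36 Cfsg.Agent.Lib.Helper44 Module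

section abs
variable {F V : Type*} [Field F] [AddCommGroup V] [Module F V]

local notation "pol" => QuadraticMap.polar

/-- the model `KE Q` -/
noncomputable def keModel (Q : QuadraticForm F V) : OModel Q ↥(KE Q) where
  ρ := (isoGroup Q).subtype.comp (KE Q).subtype
  inj := by
    intro x y h
    exact Subtype.ext (Subtype.ext h)
  isom := fun x z => isoG_Q x.1 z
  eich_mem := fun p w hp hpw => ⟨⟨eichG Q p w hp hpw, eichG_mem_KE Q p w hp hpw⟩, fun z => rfl⟩
  gen := by
    have h := Subgroup.closure_closure_coe_preimage (k := EichSet Q)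
    exact h

/-- transport of a model along an isomorphism -/
def OModel.comap {Q : QuadraticForm F V} {Γ Γ' : Type*} [Group Γ] [Group Γ'] (M : OModel Q Γ)
    (e : Γ' ≃* Γ) : OModel Q Γ' where
  ρ := M.ρ.comp e.toMonoidHom
  inj := M.inj.comp e.injective
  isom := fun x z => M.isom (e x) z
  eich_mem := fun p w hp hpw => by
    obtain ⟨x, hx⟩ := M.eich_mem p w hp hpw
    refine ⟨e.symm x, fun z => ?_⟩
    show M.ρ (e (e.symm x)) z = _
    rw [e.apply_symm_apply]
    exact hx z
  gen := by
    have h := congrArg (Subgroup.map e.symm.toMonoidHom) M.gen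
    rw [MonoidHom.map_closure, Subgroup.map_top_of_surjective _ e.symm.surjective] at h
    rw [← h]
    congr 1
    ext x'
    constructor
    · rintro ⟨p, w, hp, hpw, hx⟩
      exact ⟨e x', ⟨p, w, hp, hpw, hx⟩, e.symm_apply_apply x'⟩
    · rintro ⟨x, ⟨p, w, hp, hpw, hx⟩, rfl⟩
      refine ⟨p, w, hp, hpw, fun z => ?_⟩
      show M.ρ (e (e.symm x)) z = _
      rw [e.apply_symm_apply]
      exact hx z

theorem OModel.comap_apply {Q : QuadraticForm F V} {Γ Γ' : Type*} [Group Γ] [Group Γ']
    (M : OModel Q Γ) (e : Γ' ≃* Γ) (x : Γ') (z : V) : (M.comap e).ρ x z = M.ρ (e x) z := rfl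

end abs

section mat
variable {ι : Type} [Fintype ι] [DecidableEq ι] {F : Type*} [Field F]

/-- the model `Ω(Q)` (matrix group) -/
noncomputable def omegaModel [Finite F] (Q : QuadraticForm F (ι → F))
    (hQ : (QuadraticMap.polarBilin Q).Nondegenerate) (h7 : 7 ≤ finrank F (ι → F)) :
    OModel Q ↥(Cfsg.Omega F (⇑Q)) :=
  (keModel Q).comap ((omegaEquivAbs Q).trans (MulEquiv.subgroupCongr (commutator_eq_KE Q hQ h7)))

theorem omegaModel_apply [Finite F] (Q : QuadraticForm F (ι → F))
    (hQ : (QuadraticMap.polarBilin Q).Nondegenerate) (h7 : 7 ≤ finrank F (ι → F))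
    (x : ↥(Cfsg.Omega F (⇑Q))) (v : ι → F) :
    (omegaModel Q hQ h7).ρ x v =
      (((x : ↥(Cfsg.isometryGroup F (⇑Q))) : GL ι F) : Matrix ι ι F).mulVec v := rfl

end mat

end Cfsg.Agent.Lib.Helper36.AutO
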