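import Mathlib
import Cfsg.Agent.Lib.Helper36.AutO.Transfer

set_option autoImplicit false
set_option linter.unusedSimpArgs false
set_option linter.unusedVariables false
set_option linter.unusedSectionVars false

/-!
# `Aut PΩ(Q) = PΓO(Q)`: the matrix form of the main theorem
-/

namespace Cfsg.Agent.Lib.Helper36.AutO

open Cfsg.Agent.Lib.Helper13 hiding isoGroup mem_isoGroup
open Cfsg.Agent.Lib.Helper36 Cfsg.Agent.Lib.Helper44 Module

section mat
variable {ι : Type} [Fintype ι] [DecidableEq ι] {F : Type*} [Field F]

/-- **`Aut PΩ(Q)` is the image of the semisimilarity group** (in one of the two regimes). -/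
theorem gammaPOmega_eq_top [Fintype F] (Q : QuadraticForm F (ι → F))
    (hQ : (QuadraticMap.polarBilin Q).Nondegenerate) (h7 : 7 ≤ Fintype.card ι) (N : ℕ)
    (hreg : Regime Q N) : Cfsg.gammaPOmega F (⇑Q) = ⊤ := by
  rw [eq_top_iff]
  intro β _
  rw [mem_gammaPOmega_iff]
  have h7' : 7 ≤ finrank F (ι → F) := by
    rw [Module.finrank_fintype_fun_eq_card]; exact h7
  obtain ⟨ch, hch⟩ := CharP.exists F
  have := hch
  have hp : ch.Prime := CharP.char_is_prime F ch
  have : Fact ch.Prime := ⟨hp⟩
  obtain ⟨σ, g, c, hc, hadd, hsm, hbij, hQg, hind⟩ :=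
    (omegaModel Q hQ h7').main hQ h7' ch N hreg β
  set σ' : F ≃+* F :=
    RingEquiv.ofBijective σ ⟨σ.injective, Finite.injective_iff_surjective.1 σ.injective⟩ with hσ'
  have hσσ : ∀ a, σ' a = σ a := fun a => rfl
  let L : (ι → F) →ₗ[F] (ι → F) :=
    { toFun := fun v => g (fun i => σ'.symm (v i))
      map_add' := by
        intro v w
        rw [← hadd]
        congr 1
        funext i
        exact map_add σ'.symm (v i) (w i)
      map_smul' := by
        intro k v
        have : (fun i => σ'.symm ((k • v) i)) = σ'.symm k • (fun i => σ'.symm (v i)) := by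
          funext i
          exact map_mul σ'.symm k (v i)
        rw [this, hsm, ← hσσ, σ'.apply_symm_apply]
        rfl }
  have hLapp : ∀ v, L v = g (fun i => σ'.symm (v i)) := fun v => rfl
  have hLbij : Function.Bijective L := by
    have h2 : Function.Bijective (fun v : ι → F => (fun i => σ'.symm (v i))) := by
      constructor
      · intro v w h
        funext i
        exact σ'.symm.injective (congrFun h i)
      · intro w
        exact ⟨fun i => σ' (w i), by funext i; exact σ'.symm_apply_apply (w i)⟩
    exact hbij.comp h2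
  set G : GL ι F := (glLinEquiv ι F).symm (LinearEquiv.ofBijective L hLbij) with hG
  have hGapp : ∀ w : ι → F, (G : Matrix ι ι F).mulVec w = g (fun i => σ'.symm (w i)) := by
    intro w
    rw [← glLinEquiv_apply, hG, MulEquiv.apply_symm_apply]
    rfl
  have hGσ : ∀ v : ι → F, (G : Matrix ι ι F).mulVec (fun i => σ' (v i)) = g v := by
    intro v
    rw [hGapp]
    congr 1
    funext i
    exact σ'.symm_apply_apply (v i)
  refine ⟨G, σ', ⟨Units.mk0 c hc, fun v => ?_⟩, ?_⟩
  · rw [hGσ, hQg]
    rfl
  · intro s s' hss'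
    apply hind s s'
    intro x
    rw [omegaModel_apply, omegaModel_apply, ← hGσ x, ← hGσ, Matrix.mulVec_mulVec, hss',
      Matrix.mul_assoc _ ((G⁻¹ : GL ι F) : Matrix ι ι F) (G : Matrix ι ι F), ← Units.val_mul,
      inv_mul_cancel, Units.val_one, Matrix.mul_one, ← Matrix.mulVec_mulVec]
    congr 1
    exact map_mulVec_vmap σ' _ x

end mat

end Cfsg.Agent.Lib.Helper36.AutO
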