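import Mathlib
import Cfsg.Agent.Lib.Helper36.AutO.Transfer2
import Cfsg.Agent.Lib.Helper36.MaxTS

set_option autoImplicit false
set_option linter.unusedSimpArgs false
set_option linter.unusedVariables false
set_option linter.unusedSectionVars false

/-!
# The two regimes: Witt index at most 3, or dimension at least 9
-/

namespace Cfsg.Agent.Lib.Helper36.AutO

open Cfsg.Agent.Lib.Helper13 hiding isoGroup mem_isoGroup
open Cfsg.Agent.Lib.Helper36 Cfsg.Agent.Lib.Helper44 Module

section
variable {F V : Type*} [Field F] [AddCommGroup V] [Module F V]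

local notation "pol" => QuadraticMap.polar

/-- a totally singular subspace has at most half the dimension -/
theorem two_mul_finrank_le_of_ts [FiniteDimensional F V] {Q : QuadraticForm F V}
    (hQ : (QuadraticMap.polarBilin Q).Nondegenerate) {S : Submodule F V} (hS : IsTS Q S) :
    2 * finrank F S ≤ finrank F V := by
  have h1 := Submodule.finrank_mono hS.le_perp
  rw [finrank_perp hQ] at h1
  have h2 := Submodule.finrank_le S
  omega

/-- if no totally singular subspace has dimension 4, orthogonal totally singular lines meet -/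
theorem regime_zero_of_ts_le [FiniteDimensional F V] {Q : QuadraticForm F V}
    (h : ∀ S : Submodule F V, IsTS Q S → finrank F S ≤ 3) : Regime Q 0 := by
  refine Or.inl ⟨rfl, fun p w p' w' hl hl' hperp => ?_⟩
  by_contra hmeet
  set L := Submodule.span F {p, w} with hL
  set L' := Submodule.span F {p', w'} with hL'
  have hbot : L ⊓ L' = ⊥ := by
    rw [Submodule.eq_bot_iff]
    intro x hx
    by_contra hx0
    exact hmeet ⟨x, hx0, hx.1, hx.2⟩
  have hts : IsTS Q (L ⊔ L') := by
    intro x hx
    obtain ⟨y, hy, z, hz, rfl⟩ := Submodule.mem_sup.1 hx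
    rw [Q_add', hl.Q_span hy, hl'.Q_span hz, hperp y hy z hz]
    simp
  have h1 := Submodule.finrank_sup_add_finrank_inf_eq L L'
  rw [hbot, finrank_bot, hl.finrank_span, hl'.finrank_span] at h1
  have h2 := h _ hts
  omega

theorem regime_of_nine [FiniteDimensional F V] {Q : QuadraticForm F V}
    (h9 : 9 ≤ finrank F V) : Regime Q ((Nat.card F) ^ 4) := Or.inr ⟨rfl, h9⟩

end

end Cfsg.Agent.Lib.Helper36.AutO
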