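import Mathlib
import Cfsg.Agent.Lib.Helper36.AutO.Main

set_option autoImplicit false
set_option linter.unusedSimpArgs false
set_option linter.unusedVariables false
set_option linter.unusedSectionVars false

/-!
# A semisimilarity acting trivially on `Γ ⧸ Z(Γ)` is a scalar (abstract form)
-/

namespace Cfsg.Agent.Lib.Helper36.AutO

open Cfsg.Agent.Lib.Helper13 hiding isoGroup mem_isoGroup
open Cfsg.Agent.Lib.Helper36 Cfsg.Agent.Lib.Helper44 Module

section
variable {F V : Type*} [Field F] [AddCommGroup V] [Module F V]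

local notation "pol" => QuadraticMap.polar

variable {Q : QuadraticForm F V}

section semi
variable (g : V → V) (σ : F →+* F) (c : F)
  (hadd : ∀ x y, g (x + y) = g x + g y) (hsm : ∀ (k : F) (x : V), g (k • x) = σ k • g x)
  (hQg : ∀ x, Q (g x) = c * σ (Q x))

include hadd hQg in
theorem semi_pol (x y : V) : pol (⇑Q) (g x) (g y) = c * σ (pol (⇑Q) x y) := by
  unfold QuadraticMap.polar
  rw [← hadd, hQg, hQg, hQg, map_sub, map_sub]
  ring

include hadd hsm hQg in
theorem semi_siegel (hc : c ≠ 0) (p w z : V) :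
    g (siegelLin Q p w z) = siegelLin Q (g p) (c⁻¹ • g w) (g z) := by
  have hpol := semi_pol g σ c hadd hQg
  rw [siegelLin_apply, siegelLin_apply, sub_eq_add_neg, ← neg_smul, hadd, hadd, hsm, hsm,
    QuadraticMap.polar_smul_left, QuadraticMap.map_smul, hpol, hpol, hQg, map_sub, map_mul,
    map_neg]
  simp only [smul_eq_mul]
  have e1 : c⁻¹ * (c * σ (pol (⇑Q) w z)) - c⁻¹ * c⁻¹ * (c * σ (Q w)) * (c * σ (pol (⇑Q) p z)) =
      σ (pol (⇑Q) w z) - σ (Q w) * σ (pol (⇑Q) p z) := by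
    field_simp
  rw [e1, smul_smul]
  have e2 : c * σ (pol (⇑Q) p z) * c⁻¹ = σ (pol (⇑Q) p z) := by
    field_simp
  rw [e2]
  module

include hsm in
theorem semi_zero : g 0 = 0 := by
  have := hsm 0 0
  rwa [zero_smul, map_zero, zero_smul] at this

end semi

variable {Γ : Type*} [Group Γ] (M : OModel Q Γ)

namespace OModel

section main
variable [Finite F] [FiniteDimensional F V]
  (hQ : (QuadraticMap.polarBilin Q).Nondegenerate) (h7 : 7 ≤ finrank F V)
  (ch : ℕ) [hch : Fact ch.Prime] [hchar : CharP F ch]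

include M hQ h7 ch hch hchar

/-- **Faithfulness.** A semisimilarity inducing the identity on `Γ ⧸ Z(Γ)` is a scalar. -/
theorem faithful (g : V → V) (σ : F →+* F) (c : F) (hc : c ≠ 0)
    (hadd : ∀ x y, g (x + y) = g x + g y) (hsm : ∀ (k : F) (x : V), g (k • x) = σ k • g x)
    (hbij : Function.Bijective g) (hQg : ∀ x, Q (g x) = c * σ (Q x))
    (hind : ∀ s s' : Γ, (∀ x, M.ρ s' (g x) = g (M.ρ s x)) → prj Γ s' = prj Γ s) :
    (∀ k : F, σ k = k) ∧ ∃ l : F, l ≠ 0 ∧ ∀ x, g x = l • x := by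
  have hpol := semi_pol g σ c hadd hQg
  have hsieg := semi_siegel g σ c hadd hsm hQg hc
  have hg0 : g 0 = 0 := semi_zero g σ hsm
  have hgne : ∀ x, x ≠ 0 → g x ≠ 0 := by
    intro x hx h0
    exact hx (hbij.1 (h0.trans hg0.symm))
  have hQsing : ∀ p, Q p = 0 → Q (g p) = 0 := by
    intro p hp
    rw [hQg, hp, map_zero, mul_zero]
  have hperp : ∀ p w, pol (⇑Q) p w = 0 → pol (⇑Q) (g p) (c⁻¹ • g w) = 0 := by
    intro p w hpw
    rw [QuadraticMap.polar_smul_right, hpol, hpw, map_zero, mul_zero, smul_zero]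
  -- Step 1
  have hE : ∀ p w, Q p = 0 → pol (⇑Q) p w = 0 → M.E (g p) (c⁻¹ • g w) = M.E p w := by
    intro p w hp hpw
    have h1 : prj Γ (M.E (g p) (c⁻¹ • g w)) = prj Γ (M.E p w) := by
      apply hind
      intro x
      rw [M.E_apply _ _ (hQsing p hp) (hperp p w hpw), M.E_apply p w hp hpw, hsieg]
    exact M.eq_of_mk_eq hQ (by omega) ch _ _ 1 1
      (by rw [pow_one]; exact M.E_pow_char _ _ (hQsing p hp) (hperp p w hpw) ch)
      (by rw [pow_one]; exact M.E_pow_char p w hp hpw ch) h1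
  -- Step 3
  have hpt : ∀ p, p ≠ 0 → Q p = 0 → ∃ a : F, g p = a • p := by
    intro p hp0 hp
    apply M.fixed_of_U hQ (by omega) p hp0 hp (g p)
    intro y hy
    obtain ⟨w, hw, rfl⟩ := (M.mem_U_iff p hp y).1 hy
    rw [← hE p w hp hw]
    exact M.U_fix (g p) (hQsing p hp) _ (M.E_mem_U _ _ (hperp p w hw))
  -- Step 4
  obtain ⟨e, f, -, he, hf, hef, -, -, -⟩ := peel Q hQ (by omega)
  have hfe : pol (⇑Q) f e = 1 := by rw [QuadraticMap.polar_comm]; exact hef
  have he0 : e ≠ 0 := by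
    intro h0
    rw [h0, QuadraticMap.polar_zero_left] at hef
    exact zero_ne_one hef
  have hf0 : f ≠ 0 := by
    intro h0
    rw [h0, QuadraticMap.polar_zero_right] at hef
    exact zero_ne_one hef
  obtain ⟨a, ha⟩ := hpt e he0 he
  obtain ⟨b, hb⟩ := hpt f hf0 hf
  have ha0 : a ≠ 0 := by
    intro h0
    rw [h0, zero_smul] at ha
    exact hgne e he0 ha
  have hb0 : b ≠ 0 := by
    intro h0
    rw [h0, zero_smul] at hb
    exact hgne f hf0 hb
  -- action on `W` through `e`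
  have hWe : ∀ (e f : V) (a : F), Q e = 0 → e ≠ 0 → pol (⇑Q) f e = 1 → g e = a • e → a ≠ 0 →
      (∃ b : F, b ≠ 0 ∧ g f = b • f) →
      ∀ w, InW Q e f w → g w = (c * a⁻¹) • w := by
    intro e f a he he0 hfe ha ha0 hbf w hw
    obtain ⟨b, hb0, hb⟩ := hbf
    have h1 := hE e w he hw.1
    have hpe : pol (⇑Q) e (c⁻¹ • g w) = 0 := by
      have := hperp e w hw.1
      rw [ha, QuadraticMap.polar_smul_left, smul_eq_mul] at this
      rcases mul_eq_zero.1 this with h | h
      · exact absurd h ha0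
      · exact h
    rw [ha, M.E_smul_left e _ a he hpe] at h1
    obtain ⟨k, hk⟩ := (M.E_eq_iff hQ e _ w he0 he
      (by rw [QuadraticMap.polar_smul_right, hpe, smul_zero]) hw.1).1 h1
    -- `pol f (g w) = 0`
    have h2 : pol (⇑Q) f (g w) = 0 := by
      have := hpol f w
      rw [hw.2, map_zero, mul_zero, hb, QuadraticMap.polar_smul_left, smul_eq_mul] at this
      rcases mul_eq_zero.1 this with h | h
      · exact absurd h hb0
      · exact h
    have h3 := congrArg (fun v => pol (⇑Q) f v) hk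
    simp only [QuadraticMap.polar_smul_right, QuadraticMap.polar_add_right, h2, hw.2, hfe,
      smul_eq_mul, mul_zero, zero_add, mul_one] at h3
    rw [← h3, zero_smul, add_zero, smul_smul] at hk
    have h4 : a * c⁻¹ ≠ 0 := mul_ne_zero ha0 (inv_ne_zero hc)
    calc g w = (a * c⁻¹)⁻¹ • ((a * c⁻¹) • g w) := by
          rw [smul_smul, inv_mul_cancel₀ h4, one_smul]
      _ = (c * a⁻¹) • w := by
          rw [hk, mul_inv, inv_inv, mul_comm]
  have hW1 := hWe e f a he he0 hfe ha ha0 ⟨b, hb0, hb⟩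
  have hW2 : ∀ w, InW Q e f w → g w = (c * b⁻¹) • w := fun w hw =>
    hWe f e b hf hf0 hef hb hb0 ⟨a, ha0, ha⟩ w hw.swap
  obtain ⟨w₀, hw₀W, hw₀0, -, -, -⟩ := exists_common_perp hQ h7 e f he hf hef 0 0
  have hab : a = b := by
    have h1 := hW1 w₀ hw₀W
    rw [hW2 w₀ hw₀W] at h1
    have h2 : (c * b⁻¹ - c * a⁻¹) • w₀ = 0 := by rw [sub_smul, h1, sub_self]
    rcases smul_eq_zero.1 h2 with h | h
    · have h3 : c * b⁻¹ = c * a⁻¹ := sub_eq_zero.1 h
      have h4 := mul_left_cancel₀ hc h3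
      exact (inv_inj.1 h4).symm
    · exact absurd h hw₀0
  have hμ0 : c * a⁻¹ ≠ 0 := mul_ne_zero hc (inv_ne_zero ha0)
  have hσ : ∀ k : F, σ k = k := by
    intro k
    have h1 := hW1 (k • w₀) (hw₀W.smul k)
    rw [hsm, hW1 w₀ hw₀W, smul_smul, smul_smul] at h1
    have h2 : (σ k * (c * a⁻¹) - c * a⁻¹ * k) • w₀ = 0 := by rw [sub_smul, h1, sub_self]
    rcases smul_eq_zero.1 h2 with h | h
    · have h3 : σ k * (c * a⁻¹) = k * (c * a⁻¹) := by
        rw [sub_eq_zero.1 h, mul_comm]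
      exact mul_right_cancel₀ hμ0 h3
    · exact absurd h hw₀0
  have hca : c = a * a := by
    have h1 := hQg (e + f)
    rw [hadd, ha, hb, ← hab, ← smul_add, QuadraticMap.map_smul, Q_add', he, hf, hef, hσ] at h1
    simp only [zero_add, smul_eq_mul, mul_one] at h1
    exact h1.symm
  have hμ : c * a⁻¹ = a := by
    rw [hca, mul_assoc, mul_inv_cancel₀ ha0, mul_one]
  refine ⟨hσ, a, ha0, fun x => ?_⟩
  have hx := decomp_eq (Q := Q) e f x
  conv_lhs => rw [hx]
  rw [hadd, hadd, hsm, hsm, hσ, hσ, ha, hb, ← hab, hW1 _ (projW_mem e f x he hf hef), hμ]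
  conv_rhs => rw [hx]
  module

end main

end OModel

end

end Cfsg.Agent.Lib.Helper36.AutO
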