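import Mathlib
import Cfsg.Agent.Lib.Helper36.AutO.Faithful
import Cfsg.Agent.Lib.Helper36.AutO.Transfer2
import Cfsg.Agent.Lib.Helper36.ReflMatrix

set_option autoImplicit false
set_option linter.unusedSimpArgs false
set_option linter.unusedVariables false
set_option linter.unusedSectionVars false

/-!
# The field part of an automorphism of `PΩ(Q)`
-/

namespace Cfsg.Agent.Lib.Helper36.AutO

open Cfsg.Agent.Lib.Helper13 hiding isoGroup mem_isoGroup
open Cfsg.Agent.Lib.Helper36 Cfsg.Agent.Lib.Helper44 Module Matrix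

section mat
variable {ι : Type} [Fintype ι] [DecidableEq ι] {F : Type*} [Field F]

/-- the inverse pair of a semisimilarity pair -/
theorem isSemisimilarityPair_inv (Q : (ι → F) → F) (g : GL ι F) (σ : F ≃+* F)
    (hp : Cfsg.IsSemisimilarityPair Q g σ) :
    Cfsg.IsSemisimilarityPair Q (glMap σ.symm g⁻¹) σ.symm := by
  obtain ⟨c, hc⟩ := hp
  have hc' : ∀ w : ι → F, Q ((g : Matrix ι ι F) *ᵥ vmap σ w) = (c : F) * σ (Q w) := hc
  refine ⟨Units.map (σ.symm : F →* F) c⁻¹, fun v => ?_⟩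
  change Q (((glMap σ.symm g⁻¹ : GL ι F) : Matrix ι ι F) *ᵥ vmap σ.symm v) = _
  rw [glMap_coe, map_mulVec_vmap]
  set w := vmap σ.symm (((g⁻¹ : GL ι F) : Matrix ι ι F) *ᵥ v) with hw
  have h1 := hc' w
  rw [hw, vmap_symm_vmap, gl_inv_mulVec_mulVec] at h1
  rw [h1, map_mul, RingEquiv.symm_apply_apply, ← mul_assoc]
  have : ((Units.map (σ.symm : F →* F) c⁻¹ : Fˣ) : F) * σ.symm (c : F) = 1 := by
    have h2 : ((Units.map (σ.symm : F →* F) c⁻¹ : Fˣ) : F) = σ.symm ((c⁻¹ : Fˣ) : F) := rfl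
    rw [h2, ← map_mul, ← Units.val_mul, inv_mul_cancel, Units.val_one, map_one]
  rw [this, one_mul]

/-- the inverse pair induces the inverse automorphism -/
theorem isInduced_inv (Q : (ι → F) → F) (g : GL ι F) (σ : F ≃+* F)
    (β : MulAut (Cfsg.POmega F Q))
    (hi : Cfsg.IsInducedBySemilinearPOmega Q g σ β) :
    Cfsg.IsInducedBySemilinearPOmega Q (glMap σ.symm g⁻¹) σ.symm β⁻¹ := by
  intro s s' h
  have h1 : β (QuotientGroup.mk s') = QuotientGroup.mk s := by
    apply hi s' s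
    rw [h, glMap_coe, ← map_inv, glMap_coe, Matrix.map_mul, Matrix.map_mul, Matrix.map_map,
      Matrix.map_map, Matrix.map_map]
    have e1 : ∀ N : Matrix ι ι F, N.map (⇑σ ∘ ⇑σ.symm) = N := by
      intro N
      ext i j
      simp
    rw [e1, e1, e1, inv_inv]
    have e2 : (g : Matrix ι ι F) * (((g⁻¹ : GL ι F) : Matrix ι ι F) *
        (((s : ↥(Cfsg.isometryGroup F Q)) : GL ι F) : Matrix ι ι F) * (g : Matrix ι ι F)) *
        ((g⁻¹ : GL ι F) : Matrix ι ι F) =
        ((g : Matrix ι ι F) * ((g⁻¹ : GL ι F) : Matrix ι ι F)) *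
        (((s : ↥(Cfsg.isometryGroup F Q)) : GL ι F) : Matrix ι ι F) *
        ((g : Matrix ι ι F) * ((g⁻¹ : GL ι F) : Matrix ι ι F)) := by
      simp only [Matrix.mul_assoc]
    rw [e2, ← Units.val_mul, mul_inv_cancel, Units.val_one, Matrix.one_mul, Matrix.mul_one]
  rw [← h1, MulAut.inv_apply_self]

/-- **Faithfulness (matrix form).** A semisimilarity pair inducing the identity of `PΩ(Q)` has
trivial field automorphism and scalar matrix. -/
theorem pair_faithful [Fintype F] (Q : QuadraticForm F (ι → F))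
    (hQ : (QuadraticMap.polarBilin Q).Nondegenerate) (h7 : 7 ≤ Fintype.card ι)
    (g : GL ι F) (σ : F ≃+* F) (hp : Cfsg.IsSemisimilarityPair (⇑Q) g σ)
    (hi : Cfsg.IsInducedBySemilinearPOmega (⇑Q) g σ (1 : MulAut (Cfsg.POmega F (⇑Q)))) :
    σ = RingEquiv.refl F ∧ ∃ l : F, l ≠ 0 ∧ ∀ v : ι → F, (g : Matrix ι ι F) *ᵥ v = l • v := by
  have h7' : 7 ≤ finrank F (ι → F) := by
    rw [Module.finrank_fintype_fun_eq_card]; exact h7
  obtain ⟨ch, hch⟩ := CharP.exists F
  have := hch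
  have hpr : ch.Prime := CharP.char_is_prime F ch
  have : Fact ch.Prime := ⟨hpr⟩
  obtain ⟨c, hc⟩ := hp
  have hc' : ∀ w : ι → F, (⇑Q) ((g : Matrix ι ι F) *ᵥ vmap σ w) = (c : F) * σ ((⇑Q) w) := hc
  set gh : (ι → F) → (ι → F) := fun v => (g : Matrix ι ι F) *ᵥ vmap σ v with hgh
  have hadd : ∀ x y, gh (x + y) = gh x + gh y := by
    intro x y
    simp only [hgh]
    rw [← Matrix.mulVec_add]
    congr 1
    funext i
    exact map_add σ (x i) (y i)
  have hsm : ∀ (k : F) (x : ι → F), gh (k • x) = (σ : F →+* F) k • gh x := by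
    intro k x
    simp only [hgh]
    rw [← Matrix.mulVec_smul]
    congr 1
    funext i
    exact map_mul σ k (x i)
  have hbij : Function.Bijective gh := by
    have h1 : Function.Bijective (fun v : ι → F => (g : Matrix ι ι F) *ᵥ v) := by
      have := (glLinEquiv ι F g).bijective
      exact this
    have h2 : Function.Bijective (vmap σ : (ι → F) → (ι → F)) := by
      constructor
      · intro v w h
        funext i
        exact σ.injective (congrFun h i)
      · intro w
        exact ⟨vmap σ.symm w, vmap_symm_vmap σ w⟩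
    exact h1.comp h2
  have hres := (omegaModel Q hQ h7').faithful hQ h7' ch gh (σ : F →+* F) (c : F) c.ne_zero hadd hsm
    hbij hc' (by
      intro s s' hss'
      have hmat : ((((s' : ↥(Cfsg.isometryGroup F (⇑Q))) : GL ι F) : Matrix ι ι F)) =
          (g : Matrix ι ι F) *
            ((((s : ↥(Cfsg.isometryGroup F (⇑Q))) : GL ι F) : Matrix ι ι F)).map σ *
            ((g⁻¹ : GL ι F) : Matrix ι ι F) := by
        have h1 : ((((s' : ↥(Cfsg.isometryGroup F (⇑Q))) : GL ι F) : Matrix ι ι F)) *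
            (g : Matrix ι ι F) = (g : Matrix ι ι F) *
            ((((s : ↥(Cfsg.isometryGroup F (⇑Q))) : GL ι F) : Matrix ι ι F)).map σ := by
          apply matrix_eq_of_mulVec
          intro y
          have h2 := hss' (vmap σ.symm y)
          rw [omegaModel_apply, omegaModel_apply] at h2
          simp only [hgh] at h2
          rw [vmap_symm_vmap, ← map_mulVec_vmap, vmap_symm_vmap, Matrix.mulVec_mulVec,
            Matrix.mulVec_mulVec] at h2
          exact h2
        rw [← h1, Matrix.mul_assoc, ← Units.val_mul, mul_inv_cancel, Units.val_one,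
          Matrix.mul_one]
      have h3 := hi s s' hmat
      rw [MulAut.one_apply] at h3
      exact h3.symm)
  obtain ⟨hσ, l, hl0, hl⟩ := hres
  refine ⟨RingEquiv.ext hσ, l, hl0, fun v => ?_⟩
  have h4 := hl v
  simp only [hgh] at h4
  have h5 : vmap σ v = v := by
    funext i
    exact hσ (v i)
  rw [h5] at h4
  exact h4

/-- the field automorphism of a pair inducing `β` is determined by `β` -/
theorem pair_sigma_unique [Fintype F] (Q : QuadraticForm F (ι → F))
    (hQ : (QuadraticMap.polarBilin Q).Nondegenerate) (h7 : 7 ≤ Fintype.card ι)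
    (g₁ g₂ : GL ι F) (σ₁ σ₂ : F ≃+* F) (β : MulAut (Cfsg.POmega F (⇑Q)))
    (hp₁ : Cfsg.IsSemisimilarityPair (⇑Q) g₁ σ₁) (hp₂ : Cfsg.IsSemisimilarityPair (⇑Q) g₂ σ₂)
    (hi₁ : Cfsg.IsInducedBySemilinearPOmega (⇑Q) g₁ σ₁ β)
    (hi₂ : Cfsg.IsInducedBySemilinearPOmega (⇑Q) g₂ σ₂ β) : σ₁ = σ₂ := by
  have hp₂' := isSemisimilarityPair_inv (⇑Q) g₂ σ₂ hp₂
  have hi₂' := isInduced_inv (⇑Q) g₂ σ₂ β hi₂
  have hp := isSemisimilarityPair_mul (⇑Q) _ g₁ _ σ₁ hp₂' hp₁
  have hi := isInduced_mul (⇑Q) _ g₁ _ σ₁ _ _ hp₁ hi₂' hi₁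
  rw [inv_mul_cancel] at hi
  obtain ⟨hσ, -⟩ := pair_faithful Q hQ h7 _ _ hp hi
  apply RingEquiv.ext
  intro x
  have := congrArg (fun τ : F ≃+* F => σ₂ (τ x)) hσ
  simp only [RingEquiv.trans_apply, RingEquiv.apply_symm_apply, RingEquiv.refl_apply] at this
  exact this

end mat

end Cfsg.Agent.Lib.Helper36.AutO
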