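import Mathlib
import Cfsg.Agent.Lib.Helper36.AutO.FieldPart
import Cfsg.Agent.Lib.Helper36.AutImage
import Cfsg.Agent.Lib.Helper36.POmegaAut

set_option autoImplicit false
set_option linter.unusedSimpArgs false
set_option linter.unusedVariables false
set_option linter.unusedSectionVars false

/-!
# The automorphism of `PΩ(Q)` attached to a semisimilarity pair; the field-part homomorphism
-/

namespace Cfsg.Agent.Lib.Helper36.AutO

open Cfsg.Agent.Lib.Helper13 hiding isoGroup mem_isoGroup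
open Cfsg.Agent.Lib.Helper36 Cfsg.Agent.Lib.Helper44 Module Matrix

section mat
variable {ι : Type} [Fintype ι] [DecidableEq ι] {F : Type*} [Field F]

theorem glMap_injective (σ : F ≃+* F) : Function.Injective (glMap σ : GL ι F → GL ι F) := by
  intro a b h
  apply Units.ext
  have h1 : (a : Matrix ι ι F).map σ = (b : Matrix ι ι F).map σ := by
    rw [← glMap_coe, ← glMap_coe, h]
  ext i j
  have := congrFun (congrFun h1 i) j
  exact σ.injective this

theorem semiConjHom_injective (g : GL ι F) (σ : F ≃+* F) :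
    Function.Injective (semiConjHom g σ : GL ι F → GL ι F) := by
  intro a b h
  rw [semiConjHom_apply, semiConjHom_apply] at h
  apply glMap_injective σ
  exact mul_left_cancel (mul_right_cancel h)

variable [Fintype F]

/-- `s ↦ g σ(s) g⁻¹` as an automorphism of the isometry group -/
noncomputable def semiConjEquiv (Q : (ι → F) → F) (g : GL ι F) (σ : F ≃+* F)
    (hp : Cfsg.IsSemisimilarityPair Q g σ) : MulAut ↥(Cfsg.isometryGroup F Q) :=
  MulEquiv.ofBijective (semiConjIso Q g σ hp) (by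
    have hinj : Function.Injective (semiConjIso Q g σ hp) := by
      intro a b h
      apply Subtype.ext
      apply semiConjHom_injective g σ
      exact congrArg Subtype.val h
    exact ⟨hinj, Finite.injective_iff_surjective.1 hinj⟩)

theorem semiConjEquiv_coe (Q : (ι → F) → F) (g : GL ι F) (σ : F ≃+* F)
    (hp : Cfsg.IsSemisimilarityPair Q g σ) (s : ↥(Cfsg.isometryGroup F Q)) :
    (((semiConjEquiv Q g σ hp s : ↥(Cfsg.isometryGroup F Q)) : GL ι F) : Matrix ι ι F) =
      (g : Matrix ι ι F) * ((s : GL ι F) : Matrix ι ι F).map σ *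
        ((g⁻¹ : GL ι F) : Matrix ι ι F) :=
  semiConjHom_coe g σ _

/-- the automorphism of `PΩ(Q)` attached to a semisimilarity pair -/
noncomputable def pairAut (Q : (ι → F) → F) (g : GL ι F) (σ : F ≃+* F)
    (hp : Cfsg.IsSemisimilarityPair Q g σ) : MulAut (Cfsg.POmega F Q) :=
  autQuotCenter (MulAut.characteristic (commutator ↥(Cfsg.isometryGroup F Q))
    (semiConjEquiv Q g σ hp))

theorem isInduced_pairAut (Q : (ι → F) → F) (g : GL ι F) (σ : F ≃+* F)
    (hp : Cfsg.IsSemisimilarityPair Q g σ) :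
    Cfsg.IsInducedBySemilinearPOmega Q g σ (pairAut Q g σ hp) := by
  intro s s' h
  unfold pairAut
  rw [autQuotCenter_mk]
  congr 1
  apply Subtype.ext
  apply Subtype.ext
  apply Units.ext
  rw [h]
  exact semiConjEquiv_coe Q g σ hp _

/-- an automorphism induced by a pair is determined by the pair -/
theorem induced_unique (Q : (ι → F) → F) (g : GL ι F) (σ : F ≃+* F)
    (hp : Cfsg.IsSemisimilarityPair Q g σ) (β β' : MulAut (Cfsg.POmega F Q))
    (hi : Cfsg.IsInducedBySemilinearPOmega Q g σ β)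
    (hi' : Cfsg.IsInducedBySemilinearPOmega Q g σ β') : β = β' := by
  apply MulEquiv.ext
  intro x
  induction x using QuotientGroup.induction_on with
  | H s =>
    obtain ⟨s', hs'⟩ := exists_semiconj_Omega Q g σ hp s
    rw [hi s s' hs', hi' s s' hs']

section fp
variable (Q : QuadraticForm F (ι → F)) (hQ : (QuadraticMap.polarBilin Q).Nondegenerate)
  (h7 : 7 ≤ Fintype.card ι) (htop : Cfsg.gammaPOmega F (⇑Q) = ⊤)

include htop in
theorem exists_pair (β : MulAut (Cfsg.POmega F (⇑Q))) :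
    ∃ (g : GL ι F) (σ : F ≃+* F), Cfsg.IsSemisimilarityPair (⇑Q) g σ ∧
      Cfsg.IsInducedBySemilinearPOmega (⇑Q) g σ β := by
  rw [← mem_gammaPOmega_iff, htop]
  exact Subgroup.mem_top β

/-- the field part (as a function) -/
noncomputable def fieldPartFun (β : MulAut (Cfsg.POmega F (⇑Q))) : RingAut F :=
  (exists_pair Q htop β).choose_spec.choose

include hQ h7 in
theorem fieldPartFun_eq (β : MulAut (Cfsg.POmega F (⇑Q))) (g : GL ι F) (σ : F ≃+* F)
    (hp : Cfsg.IsSemisimilarityPair (⇑Q) g σ)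
    (hi : Cfsg.IsInducedBySemilinearPOmega (⇑Q) g σ β) : fieldPartFun Q htop β = σ := by
  obtain ⟨hp', hi'⟩ := (exists_pair Q htop β).choose_spec.choose_spec
  exact pair_sigma_unique Q hQ h7 _ g _ σ β hp' hp hi' hi

theorem fieldPartFun_spec (β : MulAut (Cfsg.POmega F (⇑Q))) :
    ∃ g : GL ι F, Cfsg.IsSemisimilarityPair (⇑Q) g (fieldPartFun Q htop β) ∧
      Cfsg.IsInducedBySemilinearPOmega (⇑Q) g (fieldPartFun Q htop β) β :=
  ⟨(exists_pair Q htop β).choose, (exists_pair Q htop β).choose_spec.choose_spec⟩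

/-- **The field part** of an automorphism of `PΩ(Q)`. -/
noncomputable def fieldPart : MulAut (Cfsg.POmega F (⇑Q)) →* RingAut F where
  toFun := fieldPartFun Q htop
  map_one' := fieldPartFun_eq Q hQ h7 htop 1 1 (RingEquiv.refl F) (isSemisimilarityPair_one _)
    (isInduced_one _)
  map_mul' := by
    intro β₁ β₂
    obtain ⟨g₁, hp₁, hi₁⟩ := fieldPartFun_spec Q htop β₁
    obtain ⟨g₂, hp₂, hi₂⟩ := fieldPartFun_spec Q htop β₂
    exact fieldPartFun_eq Q hQ h7 htop (β₁ * β₂) _ _
      (isSemisimilarityPair_mul (⇑Q) g₁ g₂ _ _ hp₁ hp₂)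
      (isInduced_mul (⇑Q) g₁ g₂ _ _ β₁ β₂ hp₂ hi₁ hi₂)

theorem fieldPart_eq (β : MulAut (Cfsg.POmega F (⇑Q))) (g : GL ι F) (σ : F ≃+* F)
    (hp : Cfsg.IsSemisimilarityPair (⇑Q) g σ)
    (hi : Cfsg.IsInducedBySemilinearPOmega (⇑Q) g σ β) : fieldPart Q hQ h7 htop β = σ :=
  fieldPartFun_eq Q hQ h7 htop β g σ hp hi

theorem fieldPart_pairAut (g : GL ι F) (σ : F ≃+* F)
    (hp : Cfsg.IsSemisimilarityPair (⇑Q) g σ) :
    fieldPart Q hQ h7 htop (pairAut (⇑Q) g σ hp) = σ :=
  fieldPart_eq Q hQ h7 htop _ g σ hp (isInduced_pairAut (⇑Q) g σ hp)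

/-- the kernel of the field part is the image of the similarity group -/
theorem ker_fieldPart : (fieldPart Q hQ h7 htop).ker = Cfsg.pgoAut F (⇑Q) := by
  ext β
  rw [MonoidHom.mem_ker, pgoAut_eq]
  constructor
  · intro h
    obtain ⟨g, hp, hi⟩ := fieldPartFun_spec Q htop β
    have h1 : fieldPartFun Q htop β = RingEquiv.refl F := h
    rw [h1] at hp hi
    have hg : g ∈ Cfsg.Geo.quadSimilarityGroup (⇑Q) := by
      obtain ⟨c, hc⟩ := hp
      exact ⟨c, fun v => hc v⟩
    exact ⟨⟨g, hg⟩, ((isInduced_iff (⇑Q) ⟨g, hg⟩ β).mp hi).symm⟩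
  · rintro ⟨g, rfl⟩
    apply fieldPart_eq Q hQ h7 htop _ (g : GL ι F) (RingEquiv.refl F)
    · obtain ⟨c, hc⟩ := g.2
      exact ⟨c, fun v => hc v⟩
    · exact (isInduced_iff (⇑Q) g _).mpr rfl

/-- `|Aut PΩ(Q)| = |range of the field part| · |PGO(Q)|` -/
theorem card_aut_eq :
    Nat.card (MulAut (Cfsg.POmega F (⇑Q))) =
      Nat.card ↥(fieldPart Q hQ h7 htop).range * Nat.card ↥(Cfsg.pgoAut F (⇑Q)) := by
  rw [← ker_fieldPart Q hQ h7 htop,
    ← Nat.card_congr (QuotientGroup.quotientKerEquivRange (fieldPart Q hQ h7 htop)).toEquiv]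
  exact Subgroup.card_eq_card_quotient_mul_card_subgroup _

end fp

end mat

end Cfsg.Agent.Lib.Helper36.AutO
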