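import Mathlib
import Cfsg.Agent.Lib.Helper36.AutO.FieldPart2

set_option autoImplicit false
set_option linter.unusedSimpArgs false
set_option linter.unusedVariables false
set_option linter.unusedSectionVars false

/-!
# Counting `Aut PΩ(Q)`: centre of `PΩ(Q)`, surjectivity of the field part
-/

namespace Cfsg.Agent.Lib.Helper36.AutO

open Cfsg.Agent.Lib.Helper13 hiding isoGroup mem_isoGroup
open Cfsg.Agent.Lib.Helper36 Cfsg.Agent.Lib.Helper44 Module Matrix

section abs
variable {F V : Type*} [Field F] [AddCommGroup V] [Module F V]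

local notation "pol" => QuadraticMap.polar

variable {Q : QuadraticForm F V} {Γ : Type*} [Group Γ] (M : OModel Q Γ)

namespace OModel

include M in
/-- the centre of `Γ ⧸ Z(Γ)` is trivial -/
theorem center_quot_eq_bot [Finite F] [FiniteDimensional F V]
    (hQ : (QuadraticMap.polarBilin Q).Nondegenerate) (h7 : 7 ≤ finrank F V)
    (ch : ℕ) [hch : Fact ch.Prime] [hchar : CharP F ch] :
    Subgroup.center (Γ ⧸ Subgroup.center Γ) = ⊥ := by
  rw [Subgroup.eq_bot_iff_forall]
  intro y hy
  obtain ⟨x, rfl⟩ := prj_surj Γ y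
  have hx : x ∈ Subgroup.center Γ := by
    have hcen : (⊤ : Subgroup Γ) ≤ Subgroup.centralizer {x} := by
      rw [← M.gen, Subgroup.closure_le]
      rintro u ⟨p, w, hp, hpw, hu⟩
      have huE : u = M.E p w := M.eq_E_of_isE hu hp hpw
      rw [SetLike.mem_coe, Subgroup.mem_centralizer_iff]
      intro t ht
      rw [Set.mem_singleton_iff] at ht
      subst ht
      have hcomm : prj Γ t * prj Γ u = prj Γ u * prj Γ t :=
        (Subgroup.mem_center_iff.1 hy (prj Γ u)).symm
      exact M.commute_of_mk_commute hQ (by omega) ch t u 1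
        (by rw [pow_one, huE]; exact M.E_pow_char p w hp hpw ch) hcomm
    rw [Subgroup.mem_center_iff]
    intro t
    have := Subgroup.mem_centralizer_iff.1 (hcen (Subgroup.mem_top t)) x (Set.mem_singleton x)
    exact this.symm
  exact (QuotientGroup.eq_one_iff x).2 hx

end OModel

end abs

section mat
variable {ι : Type} [Fintype ι] [DecidableEq ι] {F : Type*} [Field F] [Fintype F]

/-- the centre of `PΩ(Q)` is trivial -/
theorem center_POmega_eq_bot (Q : QuadraticForm F (ι → F))
    (hQ : (QuadraticMap.polarBilin Q).Nondegenerate) (h7 : 7 ≤ Fintype.card ι) :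
    Subgroup.center (Cfsg.POmega F (⇑Q)) = ⊥ := by
  have h7' : 7 ≤ finrank F (ι → F) := by
    rw [Module.finrank_fintype_fun_eq_card]; exact h7
  obtain ⟨ch, hch⟩ := CharP.exists F
  have := hch
  have hpr : ch.Prime := CharP.char_is_prime F ch
  have : Fact ch.Prime := ⟨hpr⟩
  exact (omegaModel Q hQ h7').center_quot_eq_bot hQ h7' ch

/-- `|Inn PΩ(Q)| = |PΩ(Q)|` -/
theorem card_Inn_POmega (Q : QuadraticForm F (ι → F))
    (hQ : (QuadraticMap.polarBilin Q).Nondegenerate) (h7 : 7 ≤ Fintype.card ι) :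
    Nat.card ↥(Cfsg.Inn (Cfsg.POmega F (⇑Q))) = Nat.card (Cfsg.POmega F (⇑Q)) := by
  have hinj : Function.Injective (MulAut.conj : Cfsg.POmega F (⇑Q) →* MulAut (Cfsg.POmega F (⇑Q))) := by
    rw [← MonoidHom.ker_eq_bot_iff]
    rw [Subgroup.eq_bot_iff_forall]
    intro x hx
    have hc : x ∈ Subgroup.center (Cfsg.POmega F (⇑Q)) := by
      rw [Subgroup.mem_center_iff]
      intro t
      have h1 : MulAut.conj x t = t := by
        rw [(MonoidHom.mem_ker).1 hx]
        rfl
      rw [MulAut.conj_apply] at h1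
      have h2 := congrArg (fun y => y * x) h1
      simp only [inv_mul_cancel_right] at h2
      exact h2.symm
    rw [center_POmega_eq_bot Q hQ h7] at hc
    exact (Subgroup.mem_bot).1 hc
  exact (Nat.card_congr (MonoidHom.ofInjective hinj).toEquiv).symm

section fp
variable (Q : QuadraticForm F (ι → F)) (hQ : (QuadraticMap.polarBilin Q).Nondegenerate)
  (h7 : 7 ≤ Fintype.card ι) (htop : Cfsg.gammaPOmega F (⇑Q) = ⊤)

/-- if every field automorphism occurs in a semisimilarity pair, the field part is onto -/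
theorem fieldPart_surjective (hσ : ∀ σ : F ≃+* F, ∃ g : GL ι F, Cfsg.IsSemisimilarityPair (⇑Q) g σ) :
    Function.Surjective (fieldPart Q hQ h7 htop) := by
  intro σ
  obtain ⟨g, hp⟩ := hσ σ
  exact ⟨pairAut (⇑Q) g σ hp, fieldPart_pairAut Q hQ h7 htop g σ hp⟩

include hQ h7 htop in
/-- `|Aut PΩ(Q)| = |Aut F| · |PGO(Q)|` when every field automorphism occurs -/
theorem card_aut_eq_of_surj
    (hσ : ∀ σ : F ≃+* F, ∃ g : GL ι F, Cfsg.IsSemisimilarityPair (⇑Q) g σ) :
    Nat.card (MulAut (Cfsg.POmega F (⇑Q))) =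
      Nat.card (RingAut F) * Nat.card ↥(Cfsg.pgoAut F (⇑Q)) := by
  rw [card_aut_eq Q hQ h7 htop, MonoidHom.range_eq_top.2 (fieldPart_surjective Q hQ h7 htop hσ)]
  congr 1
  exact Nat.card_congr Subgroup.topEquiv.toEquiv

/-- the section of the field part given by the field automorphisms acting on coordinates, when the
form is invariant under them -/
noncomputable def fieldSection (hσ : ∀ σ : F ≃+* F, Cfsg.IsSemisimilarityPair (⇑Q) (1 : GL ι F) σ) :
    RingAut F →* MulAut (Cfsg.POmega F (⇑Q)) where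
  toFun σ := pairAut (⇑Q) 1 σ (hσ σ)
  map_one' := induced_unique (⇑Q) 1 (RingEquiv.refl F) (hσ _) _ _
    (isInduced_pairAut (⇑Q) 1 _ (hσ _)) (isInduced_one _)
  map_mul' := by
    intro σ τ
    have h1 := isInduced_mul (⇑Q) 1 1 σ τ _ _ (hσ τ) (isInduced_pairAut (⇑Q) 1 σ (hσ σ))
      (isInduced_pairAut (⇑Q) 1 τ (hσ τ))
    rw [map_one, mul_one] at h1
    exact induced_unique (⇑Q) 1 (τ.trans σ) (hσ _) _ _ (isInduced_pairAut (⇑Q) 1 _ (hσ _)) h1

theorem fieldPart_fieldSection
    (hσ : ∀ σ : F ≃+* F, Cfsg.IsSemisimilarityPair (⇑Q) (1 : GL ι F) σ) (σ : RingAut F) :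
    fieldPart Q hQ h7 htop (fieldSection Q hσ σ) = σ :=
  fieldPart_pairAut Q hQ h7 htop 1 σ (hσ σ)

end fp

end mat

end Cfsg.Agent.Lib.Helper36.AutO
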