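import Mathlib

set_option autoImplicit false
set_option linter.unusedSimpArgs false
set_option linter.unusedVariables false
set_option linter.unusedSectionVars false

/-!
# The automorphism group of a finite field of order `p ^ f` is cyclic of order `f`
-/

namespace Cfsg.Agent.Lib.Helper36.AutO

variable {F : Type*} [Field F] [Fintype F]

theorem charP_of_card_pow {p f : ℕ} [Fact p.Prime] (hf : 1 ≤ f)
    (hF : Fintype.card F = p ^ f) : CharP F p := by
  have hp := (Fact.out : p.Prime)
  have h1 := ringChar.charP F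
  obtain ⟨n, hr, hn⟩ := FiniteField.card F (ringChar F)
  have h2 : p ∣ ringChar F ^ (n : ℕ) := by
    rw [← hn, hF]
    exact dvd_pow_self p (by omega)
  have h3 := (Nat.prime_dvd_prime_iff_eq hp hr).mp (hp.dvd_of_dvd_pow h2)
  rw [h3]
  exact h1

/-- the automorphism group of a finite field of order `p ^ f` is cyclic of order `f` -/
theorem ringAut_equiv_zmod {p f : ℕ} [Fact p.Prime] (hf : 1 ≤ f)
    (hF : Fintype.card F = p ^ f) :
    Nonempty (RingAut F ≃* Multiplicative (ZMod f)) := by
  have : CharP F p := charP_of_card_pow hf hF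
  let _ : Algebra (ZMod p) F := ZMod.algebra F p
  have hcomm : ∀ (σ : RingAut F) (r : ZMod p),
      σ (algebraMap (ZMod p) F r) = algebraMap (ZMod p) F r := by
    intro σ r
    rw [← ZMod.natCast_zmod_val r, map_natCast, map_natCast]
  let e₁ : RingAut F ≃* (F ≃ₐ[ZMod p] F) :=
    { toFun := fun σ => AlgEquiv.ofRingEquiv (f := σ) (hcomm σ)
      invFun := fun τ => τ.toRingEquiv
      left_inv := fun σ => by ext x; rfl
      right_inv := fun τ => by ext x; rfl
      map_mul' := fun σ τ => by ext x; rfl }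
  have hcyc : IsCyclic (F ≃ₐ[ZMod p] F) := inferInstance
  have hcard : Nat.card (F ≃ₐ[ZMod p] F) = f := by
    rw [IsGalois.card_aut_eq_finrank]
    have h1 := Module.card_eq_pow_finrank (K := ZMod p) (V := F)
    rw [hF, ZMod.card] at h1
    exact (Nat.pow_right_injective (Fact.out : p.Prime).two_le h1).symm
  have e₂ := (zmodCyclicMulEquiv hcyc).symm
  rw [hcard] at e₂
  exact ⟨e₁.trans e₂⟩

theorem card_ringAut_eq {p f : ℕ} [Fact p.Prime] (hf : 1 ≤ f)
    (hF : Fintype.card F = p ^ f) : Nat.card (RingAut F) = f := by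
  obtain ⟨e₁⟩ := ringAut_equiv_zmod (F := F) hf hF
  rw [Nat.card_congr e₁.toEquiv]
  have : NeZero f := ⟨by omega⟩
  show Nat.card (ZMod f) = f
  rw [Nat.card_eq_fintype_card, ZMod.card]

end Cfsg.Agent.Lib.Helper36.AutO
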