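import Mathlib
import Cfsg.Agent.Lib.Helper36.AutO.RingAutCard

set_option autoImplicit false

namespace Cfsg.Agent.Lib.Helper36.AutO

variable {F : Type*} [Field F] [Fintype F]

/-- every automorphism of a finite field of characteristic `p` is a power of the Frobenius -/
theorem ringAut_eq_frob_pow (p : ℕ) [Fact p.Prime] [CharP F p] (σ : F ≃+* F) :
    ∃ n : ℕ, ∀ x : F, σ x = x ^ (p ^ n) := by
  let _ : Algebra (ZMod p) F := ZMod.algebra F p
  have hcomm : ∀ (r : ZMod p), σ (algebraMap (ZMod p) F r) = algebraMap (ZMod p) F r := by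
    intro r
    rw [← ZMod.natCast_zmod_val r, map_natCast, map_natCast]
  obtain ⟨n, hn⟩ := (FiniteField.bijective_frobeniusAlgEquivOfAlgebraic_pow (ZMod p) F).2
    (AlgEquiv.ofRingEquiv (f := σ) hcomm)
  refine ⟨n.1, fun x => ?_⟩
  have h1 := congrArg (fun τ : F ≃ₐ[ZMod p] F => τ x) hn
  simp only at h1
  rw [AlgEquiv.coe_pow, FiniteField.coe_frobeniusAlgEquivOfAlgebraic_iterate, ZMod.card] at h1
  exact h1.symm

/-- the Frobenius automorphism -/
noncomputable def frobE (F : Type*) [Field F] [Fintype F] (p : ℕ) [Fact p.Prime] [CharP F p] : F ≃+* F :=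
  frobeniusEquiv F p

theorem frobE_apply (p : ℕ) [Fact p.Prime] [CharP F p] (x : F) : frobE F p x = x ^ p :=
  frobeniusEquiv_apply F p x

theorem frobE_pow_apply (p : ℕ) [Fact p.Prime] [CharP F p] (n : ℕ) (x : F) :
    ((frobE F p : RingAut F) ^ n) x = x ^ (p ^ n) := by
  induction n generalizing x with
  | zero => simp
  | succ n ih =>
    rw [pow_succ, RingAut.mul_apply, frobE_apply, ih, ← pow_mul, pow_succ, mul_comm]

theorem ringAut_eq_frobE_pow (p : ℕ) [Fact p.Prime] [CharP F p] (σ : RingAut F) :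
    ∃ n : ℕ, σ = (frobE F p : RingAut F) ^ n := by
  obtain ⟨n, hn⟩ := ringAut_eq_frob_pow p (σ : F ≃+* F)
  refine ⟨n, RingEquiv.ext fun x => ?_⟩
  rw [frobE_pow_apply]
  exact hn x

end Cfsg.Agent.Lib.Helper36.AutO
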