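import Mathlib
import Cfsg.Agent.Lib.Helper36.SemiPair
import Cfsg.Agent.Lib.Helper36.AutO.FieldPart2

set_option autoImplicit false
set_option linter.unusedSimpArgs false
set_option linter.unusedVariables false
set_option linter.unusedSectionVars false

/-!
# Block matrices `1 ⊕ M` acting on the minus-type form, and upper triangular `2 × 2` blocks
-/

namespace Cfsg.Agent.Lib.Helper36.AutO

open Cfsg.Agent.Lib.Helper36 Matrix

section blk
variable {κ : Type} [Fintype κ] [DecidableEq κ] {F : Type*} [Field F]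

/-- `M ↦ 1 ⊕ M` -/
def blkHom : Matrix (Fin 2) (Fin 2) F →* Matrix (κ ⊕ Fin 2) (κ ⊕ Fin 2) F where
  toFun M := Matrix.fromBlocks 1 0 0 M
  map_one' := Matrix.fromBlocks_one
  map_mul' M N := by
    rw [Matrix.fromBlocks_multiply]
    simp

/-- `M ↦ 1 ⊕ M` on invertible matrices -/
def blkGL : GL (Fin 2) F →* GL (κ ⊕ Fin 2) F := Units.map blkHom

theorem blkGL_coe (M : GL (Fin 2) F) :
    ((blkGL M : GL (κ ⊕ Fin 2) F) : Matrix (κ ⊕ Fin 2) (κ ⊕ Fin 2) F) =
      Matrix.fromBlocks 1 0 0 (M : Matrix (Fin 2) (Fin 2) F) := rfl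

theorem blkGL_mulVec (M : GL (Fin 2) F) (v : κ ⊕ Fin 2 → F) :
    ((blkGL M : GL (κ ⊕ Fin 2) F) : Matrix (κ ⊕ Fin 2) (κ ⊕ Fin 2) F) *ᵥ v =
      Sum.elim (fun i => v (Sum.inl i))
        ((M : Matrix (Fin 2) (Fin 2) F) *ᵥ fun i => v (Sum.inr i)) := by
  have hv : v = Sum.elim (fun i => v (Sum.inl i)) (fun i => v (Sum.inr i)) := by
    funext j
    rcases j with j | j <;> rfl
  conv_lhs => rw [hv, blkGL_coe, Matrix.fromBlocks_mulVec]
  simp

theorem glMap_blkGL (σ : F ≃+* F) (M : GL (Fin 2) F) :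
    glMap σ (blkGL M : GL (κ ⊕ Fin 2) F) = blkGL (glMap σ M) := by
  apply Units.ext
  rw [glMap_coe, blkGL_coe, blkGL_coe, glMap_coe, Matrix.fromBlocks_map]
  congr 1
  · ext i j
    by_cases h : i = j
    · subst h; simp
    · simp [h]
  · ext i j; simp
  · ext i j; simp

theorem det_blkGL (M : GL (Fin 2) F) :
    ((blkGL M : GL (κ ⊕ Fin 2) F) : Matrix (κ ⊕ Fin 2) (κ ⊕ Fin 2) F).det =
      (M : Matrix (Fin 2) (Fin 2) F).det := by
  rw [blkGL_coe, Matrix.det_fromBlocks_zero₂₁, Matrix.det_one, one_mul]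

end blk

section ut
variable {F : Type*} [Field F]

/-- the upper triangular matrix `[[1, t], [0, s]]` -/
noncomputable def utGL (t : F) (s : Fˣ) : GL (Fin 2) F :=
  Matrix.GeneralLinearGroup.mkOfDetNeZero !![1, t; 0, (s : F)] (by
    rw [Matrix.det_fin_two_of]
    simp)

theorem utGL_coe (t : F) (s : Fˣ) :
    ((utGL t s : GL (Fin 2) F) : Matrix (Fin 2) (Fin 2) F) = !![1, t; 0, (s : F)] := rfl

theorem utGL_mul (t t' : F) (s s' : Fˣ) :
    utGL t s * utGL t' s' = utGL (t' + t * (s' : F)) (s * s') := by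
  apply Units.ext
  rw [Units.val_mul, utGL_coe, utGL_coe, utGL_coe, Units.val_mul]
  ext i j
  fin_cases i <;> fin_cases j <;> simp [Matrix.mul_apply, Fin.sum_univ_two]

theorem glMap_utGL (σ : F ≃+* F) (t : F) (s : Fˣ) :
    glMap σ (utGL t s) = utGL (σ t) (Units.map (σ : F →* F) s) := by
  apply Units.ext
  rw [glMap_coe, utGL_coe, utGL_coe]
  ext i j
  fin_cases i <;> fin_cases j <;> simp

theorem utGL_one : utGL (0 : F) 1 = 1 := by
  apply Units.ext
  rw [utGL_coe, Units.val_one, Units.val_one]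
  ext i j
  fin_cases i <;> fin_cases j <;> simp

theorem det_utGL (t : F) (s : Fˣ) :
    ((utGL t s : GL (Fin 2) F) : Matrix (Fin 2) (Fin 2) F).det = (s : F) := by
  rw [utGL_coe, Matrix.det_fin_two_of]
  simp

theorem utGL_mulVec (t : F) (s : Fˣ) (w : Fin 2 → F) :
    ((utGL t s : GL (Fin 2) F) : Matrix (Fin 2) (Fin 2) F) *ᵥ w =
      ![w 0 + t * w 1, (s : F) * w 1] := by
  rw [utGL_coe]
  funext i
  fin_cases i <;> simp [Matrix.mulVec, dotProduct, Fin.sum_univ_two]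

end ut

section minus
variable {F : Type*} [Field F]

/-- the binary form `z₁² + a z₁ z₂ + b z₂²` -/
def binF (a b : F) (w : Fin 2 → F) : F := w 0 ^ 2 + a * w 0 * w 1 + b * w 1 ^ 2

theorem quadFormMinus_blk (m : ℕ) (a b : F) (M : GL (Fin 2) F)
    (v : (Fin m ⊕ Fin m) ⊕ Fin 2 → F) :
    Cfsg.quadFormMinus m F a b
      (((blkGL M : GL ((Fin m ⊕ Fin m) ⊕ Fin 2) F) :
        Matrix ((Fin m ⊕ Fin m) ⊕ Fin 2) ((Fin m ⊕ Fin m) ⊕ Fin 2) F) *ᵥ v) =
      (∑ i : Fin m, v (Sum.inl (Sum.inl i)) * v (Sum.inl (Sum.inr i))) +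
        binF a b ((M : Matrix (Fin 2) (Fin 2) F) *ᵥ fun i => v (Sum.inr i)) := by
  rw [blkGL_mulVec]
  unfold Cfsg.quadFormMinus binF
  simp only [Sum.elim_inl, Sum.elim_inr]

theorem quadFormMinus_eq (m : ℕ) (a b : F) (v : (Fin m ⊕ Fin m) ⊕ Fin 2 → F) :
    Cfsg.quadFormMinus m F a b v =
      (∑ i : Fin m, v (Sum.inl (Sum.inl i)) * v (Sum.inl (Sum.inr i))) +
        binF a b (fun i => v (Sum.inr i)) := rfl

/-- a semisimilarity pair with multiplier one -/
def IsPairOne {ι : Type} [Fintype ι] [DecidableEq ι] (Q : (ι → F) → F) (g : GL ι F)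
    (σ : F ≃+* F) : Prop :=
  ∀ v : ι → F, Q ((g : Matrix ι ι F) *ᵥ vmap σ v) = σ (Q v)

theorem IsPairOne.isPair {ι : Type} [Fintype ι] [DecidableEq ι] {Q : (ι → F) → F} {g : GL ι F}
    {σ : F ≃+* F} (h : IsPairOne Q g σ) : Cfsg.IsSemisimilarityPair Q g σ := by
  refine ⟨1, fun v => ?_⟩
  rw [Units.val_one, one_mul]
  exact h v

theorem isPairOne_one {ι : Type} [Fintype ι] [DecidableEq ι] (Q : (ι → F) → F) :
    IsPairOne Q (1 : GL ι F) (RingEquiv.refl F) := by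
  intro v
  rw [Units.val_one, Matrix.one_mulVec]
  rfl

theorem isPairOne_mul {ι : Type} [Fintype ι] [DecidableEq ι] (Q : (ι → F) → F) (g₁ g₂ : GL ι F)
    (σ₁ σ₂ : F ≃+* F) (h₁ : IsPairOne Q g₁ σ₁) (h₂ : IsPairOne Q g₂ σ₂) :
    IsPairOne Q (g₁ * glMap σ₁ g₂) (σ₂.trans σ₁) := by
  intro v
  change Q (((g₁ * glMap σ₁ g₂ : GL ι F) : Matrix ι ι F) *ᵥ vmap σ₁ (vmap σ₂ v)) = _
  rw [Units.val_mul, glMap_coe, ← Matrix.mulVec_mulVec, map_mulVec_vmap, h₁, h₂]
  rfl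

/-- the block pair: a `2 × 2` matrix carrying the twisted binary form to the binary form -/
theorem isPairOne_blk (m : ℕ) (a b : F) (M : GL (Fin 2) F) (σ : F ≃+* F)
    (hM : ∀ w : Fin 2 → F, binF a b ((M : Matrix (Fin 2) (Fin 2) F) *ᵥ w) =
      binF (σ a) (σ b) w) :
    IsPairOne (Cfsg.quadFormMinus m F a b)
      (blkGL M : GL ((Fin m ⊕ Fin m) ⊕ Fin 2) F) σ := by
  intro v
  rw [quadFormMinus_blk, quadFormMinus_eq, map_add, map_sum, hM]
  congr 1
  · apply Finset.sum_congr rfl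
    intro i _
    rw [map_mul]
    rfl
  · unfold binF vmap
    simp only [map_add, map_mul, map_pow]

/-- the upper triangular block `[[1, t], [0, s]]` carries the `σ`-twisted binary form to the
binary form when `2 t + a s = σ a` and `t² + a s t + b s² = σ b` -/
theorem binF_utGL (a b : F) (σ : F ≃+* F) (t : F) (s : Fˣ)
    (h1 : 2 * t + a * (s : F) = σ a) (h2 : t ^ 2 + a * (s : F) * t + b * (s : F) ^ 2 = σ b)
    (w : Fin 2 → F) :
    binF a b (((utGL t s : GL (Fin 2) F) : Matrix (Fin 2) (Fin 2) F) *ᵥ w) =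
      binF (σ a) (σ b) w := by
  rw [utGL_mulVec]
  unfold binF
  simp only [Matrix.cons_val_zero, Matrix.cons_val_one]
  rw [← h1, ← h2]
  ring

end minus

end Cfsg.Agent.Lib.Helper36.AutO
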