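import Mathlib
import Cfsg.Agent.Lib.Helper36.AutO.MinusBlock
import Cfsg.Agent.Lib.Helper36.AutO.FrobGen

set_option autoImplicit false
set_option linter.unusedSimpArgs false
set_option linter.unusedVariables false
set_option linter.unusedSectionVars false

/-!
# Twisted powers of the upper triangular block pair on the minus-type form
-/

namespace Cfsg.Agent.Lib.Helper36.AutO

open Cfsg.Agent.Lib.Helper36 Matrix

section pow
variable {F : Type*} [Field F]

/-- the entries of the twisted powers of `[[1, t], [0, s]]` -/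
noncomputable def utPow (σ : F ≃+* F) (t : F) (s : Fˣ) : ℕ → F × Fˣ
  | 0 => (0, 1)
  | k + 1 => (σ (utPow σ t s k).1 + t * σ ((utPow σ t s k).2 : F),
      s * Units.map (σ : F →* F) (utPow σ t s k).2)

theorem utPow_zero (σ : F ≃+* F) (t : F) (s : Fˣ) : utPow σ t s 0 = (0, 1) := rfl

theorem utPow_succ (σ : F ≃+* F) (t : F) (s : Fˣ) (k : ℕ) :
    utPow σ t s (k + 1) = (σ (utPow σ t s k).1 + t * σ ((utPow σ t s k).2 : F),
      s * Units.map (σ : F →* F) (utPow σ t s k).2) := rfl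

variable [Fintype F] {κ : Type} [Fintype κ] [DecidableEq κ] (Q : (κ ⊕ Fin 2 → F) → F)

theorem pow_pair (σ : F ≃+* F) (t : F) (s : Fˣ)
    (hp : IsPairOne Q
      (blkGL (utGL t s) : GL (κ ⊕ Fin 2) F) σ) (k : ℕ) :
    IsPairOne Q
      (blkGL (utGL (utPow σ t s k).1 (utPow σ t s k).2) : GL (κ ⊕ Fin 2) F)
      ((σ : RingAut F) ^ k) ∧
    Cfsg.IsInducedBySemilinearPOmega Q
      (blkGL (utGL (utPow σ t s k).1 (utPow σ t s k).2) : GL (κ ⊕ Fin 2) F)
      ((σ : RingAut F) ^ k)
      ((pairAut Q (blkGL (utGL t s)) σ hp.isPair) ^ k) := by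
  induction k with
  | zero =>
    rw [utPow_zero, pow_zero, pow_zero]
    simp only
    rw [utGL_one, map_one]
    exact ⟨isPairOne_one _, isInduced_one _⟩
  | succ k ih =>
    obtain ⟨ih1, ih2⟩ := ih
    have hg : (blkGL (utGL t s) : GL (κ ⊕ Fin 2) F) *
        glMap σ (blkGL (utGL (utPow σ t s k).1 (utPow σ t s k).2)) =
        blkGL (utGL (utPow σ t s (k + 1)).1 (utPow σ t s (k + 1)).2) := by
      rw [glMap_blkGL, ← map_mul, glMap_utGL, utGL_mul, utPow_succ]
      rfl
    have hσ : ((σ : RingAut F) ^ k).trans σ = (σ : RingAut F) ^ (k + 1) := by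
      rw [pow_succ']
      rfl
    constructor
    · have := isPairOne_mul _ _ _ _ _ hp ih1
      rwa [hg, hσ] at this
    · have := isInduced_mul _ _ _ _ _ _ _ ih1.isPair
        (isInduced_pairAut Q (blkGL (utGL t s)) σ hp.isPair) ih2
      rwa [hg, hσ, ← pow_succ'] at this

/-- when `σ ^ f = 1`, the `f`-th power of the pair automorphism is induced by an isometry -/
theorem pow_eq_simAut (σ : F ≃+* F) (t : F) (s : Fˣ)
    (hp : IsPairOne Q
      (blkGL (utGL t s) : GL (κ ⊕ Fin 2) F) σ) (f : ℕ)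
    (hσf : (σ : RingAut F) ^ f = 1) :
    ∃ hiso : (blkGL (utGL (utPow σ t s f).1 (utPow σ t s f).2) :
        GL (κ ⊕ Fin 2) F) ∈ Cfsg.isometryGroup F Q,
      (pairAut Q (blkGL (utGL t s)) σ hp.isPair) ^ f =
        simAut Q
          ⟨_, isometryGroup_le_similarity Q hiso⟩ := by
  obtain ⟨h1, h2⟩ := pow_pair Q σ t s hp f
  rw [hσf] at h1 h2
  have hiso : (blkGL (utGL (utPow σ t s f).1 (utPow σ t s f).2) :
      GL (κ ⊕ Fin 2) F) ∈ Cfsg.isometryGroup F Q := by
    rw [mem_isometryGroup_iff']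
    intro v
    exact h1 v
  refine ⟨hiso, ?_⟩
  exact (isInduced_iff Q
    ⟨_, isometryGroup_le_similarity Q hiso⟩ _).1 h2

end pow

end Cfsg.Agent.Lib.Helper36.AutO
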