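import Mathlib
import Cfsg.Agent.Lib.Helper36.AutO.MinusFrob
import Cfsg.Agent.Lib.Helper36.AutO.AutCount
import Cfsg.Agent.Lib.Helper36.PgoPso
import Cfsg.Agent.Lib.Helper36.PgoInn

set_option autoImplicit false
set_option linter.unusedSimpArgs false
set_option linter.unusedVariables false
set_option linter.unusedSectionVars false

/-!
# The Frobenius pair of the minus-type form in odd characteristic; `PGO / PSO` is central in
`Aut / PSO`
-/

namespace Cfsg.Agent.Lib.Helper36.AutO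

open Cfsg.Agent.Lib.Helper13 hiding isoGroup mem_isoGroup
open Cfsg.Agent.Lib.Helper36 Cfsg.Agent.Lib.Helper44 Module Matrix

section odd
variable {F : Type*} [Field F] [Fintype F] (p : ℕ) [Fact p.Prime] [CharP F p]

theorem half_add_mul_half (p k : ℕ) (hp : Odd p) :
    (p - 1) / 2 + p * ((p ^ k - 1) / 2) = (p ^ (k + 1) - 1) / 2 := by
  obtain ⟨r, hr⟩ := hp
  obtain ⟨u, hu⟩ : Odd (p ^ k) := Odd.pow ⟨r, hr⟩
  have h1 : p ^ (k + 1) = 2 * (2 * r * u + r + u) + 1 := by
    rw [pow_succ, hu, hr]; ring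
  rw [h1, hu, hr]
  have e1 : (2 * r + 1 - 1) / 2 = r := by omega
  have e2 : (2 * u + 1 - 1) / 2 = u := by omega
  have e3 : (2 * (2 * r * u + r + u) + 1 - 1) / 2 = 2 * r * u + r + u := by omega
  rw [e1, e2, e3]
  ring

/-- the discriminant to the `p`-th power -/
theorem disc_pow_char (a b : F) : (a ^ 2 - 4 * b) ^ p = (a ^ p) ^ 2 - 4 * b ^ p := by
  rw [sub_pow_char, mul_pow, ← pow_mul, ← pow_mul, mul_comm 2 p]
  congr 2
  have := map_natCast (frobenius F p) 4
  rw [frobenius_def] at this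
  exact_mod_cast this

theorem two_ne_zero_of_char (hp2 : p ≠ 2) : (2 : F) ≠ 0 := by
  intro h
  have h' : ((2 : ℕ) : F) = 0 := by exact_mod_cast h
  rw [CharP.cast_eq_zero_iff F p] at h'
  have := (Nat.prime_dvd_prime_iff_eq (Fact.out : p.Prime) Nat.prime_two).1 h'
  exact hp2 this

variable (m : ℕ) (a b : F)

/-- the Frobenius pair for the minus-type form, odd characteristic -/
theorem frob_pair_odd (hp2 : p ≠ 2) (hd : a ^ 2 - 4 * b ≠ 0) :
    IsPairOne (Cfsg.quadFormMinus m F a b)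
      (blkGL (utGL ((a ^ p - a * (a ^ 2 - 4 * b) ^ ((p - 1) / 2)) / 2)
        (Units.mk0 ((a ^ 2 - 4 * b) ^ ((p - 1) / 2)) (pow_ne_zero _ hd))) :
        GL ((Fin m ⊕ Fin m) ⊕ Fin 2) F) (frobE F p) := by
  have hpodd : Odd p := (Fact.out : p.Prime).odd_of_ne_two hp2
  have h2 : (2 : F) ≠ 0 := two_ne_zero_of_char p hp2
  apply isPairOne_blk
  intro w
  apply binF_utGL
  · rw [Units.val_mk0, frobE_apply]
    field_simp
    ring
  · rw [Units.val_mk0, frobE_apply]
    set e := (a ^ 2 - 4 * b) ^ ((p - 1) / 2) with he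
    have hee : e ^ 2 * (a ^ 2 - 4 * b) = (a ^ p) ^ 2 - 4 * b ^ p := by
      rw [← disc_pow_char, he, ← pow_mul, ← pow_succ]
      congr 1
      obtain ⟨r, hr⟩ := hpodd
      omega
    field_simp
    linear_combination (-1 : F) * hee

theorem utPow_snd_odd (hp2 : p ≠ 2) (d : F) (hd : d ≠ 0) (t : F) (k : ℕ) :
    ((utPow (frobE F p) t (Units.mk0 (d ^ ((p - 1) / 2)) (pow_ne_zero _ hd)) k).2 : F) =
      d ^ ((p ^ k - 1) / 2) := by
  have hpodd : Odd p := (Fact.out : p.Prime).odd_of_ne_two hp2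
  induction k with
  | zero => simp [utPow_zero]
  | succ k ih =>
    rw [utPow_succ]
    simp only
    rw [Units.val_mul, Units.val_mk0, Units.coe_map, MonoidHom.coe_coe, ih]
    change _ * (frobE F p) _ = _
    rw [frobE_apply, ← pow_mul, ← pow_add, mul_comm _ p, half_add_mul_half p k hpodd]

/-- the determinant of the `f`-th twisted power is `-1` -/
theorem utPow_snd_eq_neg_one (hp2 : p ≠ 2) {f : ℕ} (hF : Fintype.card F = p ^ f) (d : F)
    (hd : d ≠ 0) (hns : ¬ IsSquare d) (t : F) :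
    ((utPow (frobE F p) t (Units.mk0 (d ^ ((p - 1) / 2)) (pow_ne_zero _ hd)) f).2 : F) = -1 := by
  have hchar : ringChar F ≠ 2 := by
    rw [ringChar.eq F p]; exact hp2
  rw [utPow_snd_odd p hp2 d hd t f, ← hF]
  have hq : (Fintype.card F - 1) / 2 = Fintype.card F / 2 := by
    have hodd : Fintype.card F % 2 = 1 := FiniteField.odd_card_of_char_ne_two hchar
    omega
  rw [hq]
  rcases FiniteField.pow_dichotomy hchar hd with h | h
  · exact absurd ((FiniteField.isSquare_iff hchar hd).2 h) hns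
  · exact h

theorem frobE_pow_card {f : ℕ} (hF : Fintype.card F = p ^ f) :
    (frobE F p : RingAut F) ^ f = 1 := by
  apply RingEquiv.ext
  intro x
  rw [frobE_pow_apply, ← hF, FiniteField.pow_card]
  rfl

end odd

section central
variable {ι : Type} [Fintype ι] [DecidableEq ι] {F : Type*} [Field F]

/-- conjugating a similarity by a semisimilarity pair gives a similarity whose multiplier is the
image under the field automorphism -/
theorem conj_similarity (Q : (ι → F) → F) (g : GL ι F) (σ : F ≃+* F) (c : F)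
    (hc : ∀ w : ι → F, Q ((g : Matrix ι ι F) *ᵥ vmap σ w) = c * σ (Q w))
    (h : GL ι F) (μ : F) (hμ : ∀ v, Q ((h : Matrix ι ι F) *ᵥ v) = μ * Q v) (v : ι → F) :
    Q (((g * glMap σ h * g⁻¹ : GL ι F) : Matrix ι ι F) *ᵥ v) = σ μ * Q v := by
  set w : ι → F := vmap σ.symm (((g⁻¹ : GL ι F) : Matrix ι ι F) *ᵥ v) with hw
  have hv : ((g⁻¹ : GL ι F) : Matrix ι ι F) *ᵥ v = vmap σ w := by
    rw [hw, vmap_symm_vmap]
  have hv' : v = (g : Matrix ι ι F) *ᵥ vmap σ w := by
    rw [← hv, gl_inv_mulVec_mulVec]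
  rw [Units.val_mul, Units.val_mul, glMap_coe, ← Matrix.mulVec_mulVec, ← Matrix.mulVec_mulVec, hv,
    map_mulVec_vmap, hc, hμ, map_mul]
  conv_rhs => rw [hv', hc]
  ring

theorem map_map_symm (σ : F ≃+* F) (N : Matrix ι ι F) : (N.map σ.symm).map σ = N := by
  ext i j
  simp

theorem glMap_glMap_symm (σ : F ≃+* F) (g : GL ι F) : glMap σ (glMap σ.symm g) = g := by
  apply Units.ext
  rw [glMap_coe, glMap_coe, map_map_symm]

variable [Fintype F]

/-- conjugation of a similarity-induced automorphism by a pair-induced automorphism -/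
theorem conj_simAut (Q : (ι → F) → F) (g : GL ι F) (σ : F ≃+* F)
    (hp : Cfsg.IsSemisimilarityPair Q g σ) (α : MulAut (Cfsg.POmega F Q))
    (hi : Cfsg.IsInducedBySemilinearPOmega Q g σ α)
    (h : ↥(Cfsg.Geo.quadSimilarityGroup Q))
    (h' : ↥(Cfsg.Geo.quadSimilarityGroup Q))
    (hh' : (h' : GL ι F) = g * glMap σ (h : GL ι F) * g⁻¹) :
    α * simAut Q h * α⁻¹ = simAut Q h' := by
  have hk : Cfsg.IsInducedBySemilinearPOmega Q (h : GL ι F) (RingEquiv.refl F) (simAut Q h) :=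
    (isInduced_iff Q h _).2 rfl
  have hph : Cfsg.IsSemisimilarityPair Q (h : GL ι F) (RingEquiv.refl F) := by
    obtain ⟨c, hc⟩ := h.2
    exact ⟨c, fun v => hc v⟩
  have h1 := isInduced_mul Q g (h : GL ι F) σ (RingEquiv.refl F) α (simAut Q h) hph hi hk
  have e1 : (RingEquiv.refl F).trans σ = σ := RingEquiv.ext fun _ => rfl
  rw [e1] at h1
  have h2 := isInduced_inv Q g σ α hi
  have h3 := isInduced_mul Q _ _ _ _ _ _ (isSemisimilarityPair_inv Q g σ hp) h1 h2
  have e2 : σ.symm.trans σ = RingEquiv.refl F := RingEquiv.ext fun x => σ.apply_symm_apply x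
  rw [glMap_glMap_symm, e2, ← hh'] at h3
  exact (isInduced_iff Q h' _).1 h3

end central

section psi
variable {ι : Type} [Fintype ι] [DecidableEq ι] {F : Type*} [Field F] [Fintype F] [DecidableEq F]

/-- if `simAut g` lies in the image of `SO`, then `psi g = 1` -/
theorem psi_eq_one_of_simAut_mem_psoAut (Q : QuadraticForm F (ι → F))
    (hQ : (QuadraticMap.polarBilin Q).Nondegenerate) (h2 : (2 : F) ≠ 0)
    (hdim : 5 ≤ Fintype.card ι) (m : ℕ) (hcard : Fintype.card ι = 2 * m)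
    (v₀ : ι → F) (hv₀ : Q v₀ ≠ 0)
    (g : ↥(Cfsg.Geo.quadSimilarityGroup (⇑Q))) (hmem : simAut (⇑Q) g ∈ Cfsg.psoAut F (⇑Q)) :
    psi Q v₀ hv₀ m hQ h2 hcard g = 1 := by
  rw [psoAut_eq] at hmem
  obtain ⟨s, hs, hsg⟩ := hmem
  have h1 : simAut (⇑Q) (s⁻¹ * g) = 1 := by
    rw [map_mul, map_inv, hsg, inv_mul_cancel]
  obtain ⟨c, hc⟩ := scalar_of_normAut_eq_one Q hQ h2 hdim
    (Subgroup.inclusion (similarity_le_normalizer (⇑Q)) (s⁻¹ * g)) h1
  have h3 := psi_eq_one_of_scalar Q v₀ hv₀ m hQ h2 hcard (s⁻¹ * g) c hc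
  have h4 := psi_eq_one_of_special Q v₀ hv₀ m hQ h2 hcard s hs
  rw [map_mul, map_inv, h4, inv_one, one_mul] at h3
  exact h3

/-- an isometry of determinant `-1` does not induce an element of the image of `SO` -/
theorem simAut_not_mem_psoAut_of_det (Q : QuadraticForm F (ι → F))
    (hQ : (QuadraticMap.polarBilin Q).Nondegenerate) (h2 : (2 : F) ≠ 0)
    (hdim : 5 ≤ Fintype.card ι) (m : ℕ) (hcard : Fintype.card ι = 2 * m)
    (g : GL ι F) (hg : g ∈ Cfsg.isometryGroup F (⇑Q))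
    (hdet : (g : Matrix ι ι F).det = -1) :
    simAut (⇑Q) ⟨g, isometryGroup_le_similarity (⇑Q) hg⟩ ∉ Cfsg.psoAut F (⇑Q) := by
  intro hmem
  have hdim' : 2 ≤ finrank F (ι → F) := by
    rw [Module.finrank_fintype_fun_eq_card]
    omega
  obtain ⟨v₀, hv₀'⟩ := exists_Q_eq Q hQ h2 hdim' 1 one_ne_zero
  have hv₀ : Q v₀ ≠ 0 := by rw [hv₀']; exact one_ne_zero
  have h1 := psi_eq_one_of_simAut_mem_psoAut Q hQ h2 hdim m hcard v₀ hv₀ _ hmem
  unfold psi at h1
  rw [MonoidHom.prod_apply, Prod.mk_eq_one] at h1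
  have h3 := h1.2
  have hm : mult Q v₀ hv₀ ⟨g, isometryGroup_le_similarity (⇑Q) hg⟩ = 1 := by
    apply mult_eq
    intro v
    rw [(mem_isometryGroup_iff' (⇑Q) _).mp hg v, Units.val_one, one_mul]
  have hd : Matrix.GeneralLinearGroup.det g = -1 := by
    apply Units.ext
    rw [Matrix.GeneralLinearGroup.val_det_apply, hdet, Units.val_neg, Units.val_one]
  rw [psi2_apply, if_neg] at h3
  · exact absurd h3 (by decide)
  · rw [deltaHom_apply, hm, one_pow, inv_one, mul_one]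
    change Matrix.GeneralLinearGroup.det g ≠ 1
    rw [hd]
    exact neg_one_ne_one_units h2

/-- **`PGO / PSO` is central in `Aut / PSO`**: the commutator of any automorphism with a
similarity-induced one is induced by an isometry of determinant one. -/
theorem comm_mem_psoAut (Q : QuadraticForm F (ι → F))
    (hQ : (QuadraticMap.polarBilin Q).Nondegenerate) (h2 : (2 : F) ≠ 0)
    (h7 : 7 ≤ Fintype.card ι) (m : ℕ) (hcard : Fintype.card ι = 2 * m)
    (htop : Cfsg.gammaPOmega F (⇑Q) = ⊤) (α k : MulAut (Cfsg.POmega F (⇑Q)))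
    (hk : k ∈ Cfsg.pgoAut F (⇑Q)) : α * k * α⁻¹ * k⁻¹ ∈ Cfsg.psoAut F (⇑Q) := by
  have hdim' : 2 ≤ finrank F (ι → F) := by
    rw [Module.finrank_fintype_fun_eq_card]
    omega
  obtain ⟨v₀, hv₀'⟩ := exists_Q_eq Q hQ h2 hdim' 1 one_ne_zero
  have hv₀ : Q v₀ ≠ 0 := by rw [hv₀']; exact one_ne_zero
  rw [pgoAut_eq] at hk
  obtain ⟨h, rfl⟩ := hk
  obtain ⟨g, σ, hp, hi⟩ := exists_pair Q htop α
  obtain ⟨c, hc⟩ := hp
  have hc' : ∀ w : ι → F, (⇑Q) ((g : Matrix ι ι F) *ᵥ vmap σ w) = (c : F) * σ ((⇑Q) w) := hc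
  set μ := mult Q v₀ hv₀ h with hμ
  have hsim := conj_similarity (⇑Q) g σ (c : F) hc' (h : GL ι F) (μ : F) (mult_spec Q v₀ hv₀ h)
  have hmem : g * glMap σ (h : GL ι F) * g⁻¹ ∈ Cfsg.Geo.quadSimilarityGroup (⇑Q) :=
    ⟨Units.map (σ : F →* F) μ, fun v => hsim v⟩
  set h' : ↥(Cfsg.Geo.quadSimilarityGroup (⇑Q)) := ⟨_, hmem⟩ with hh'
  have hconj := conj_simAut (⇑Q) g σ ⟨c, hc⟩ α hi h h' rfl
  rw [hconj, ← map_inv, ← map_mul]
  -- `psi (h' * h⁻¹) = 1`
  have hmult : mult Q v₀ hv₀ h' = Units.map (σ : F →* F) μ := by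
    apply mult_eq
    intro v
    exact hsim v
  have hdet : Matrix.GeneralLinearGroup.det (h' : GL ι F) =
      Units.map (σ : F →* F) (Matrix.GeneralLinearGroup.det (h : GL ι F)) := by
    apply Units.ext
    rw [Matrix.GeneralLinearGroup.val_det_apply, Units.coe_map,
      Matrix.GeneralLinearGroup.val_det_apply]
    change ((g * glMap σ (h : GL ι F) * g⁻¹ : GL ι F) : Matrix ι ι F).det = _
    rw [Units.val_mul, Units.val_mul, Matrix.det_mul, Matrix.det_mul, glMap_coe,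
      mul_right_comm, ← Matrix.det_mul, ← Units.val_mul, mul_inv_cancel, Units.val_one,
      Matrix.det_one, one_mul]
    exact ((σ : F →+* F).map_det _).symm
  have hpsi : psi Q v₀ hv₀ m hQ h2 hcard (h' * h⁻¹) = 1 := by
    rw [map_mul, map_inv, mul_inv_eq_one]
    unfold psi
    rw [MonoidHom.prod_apply, MonoidHom.prod_apply]
    apply Prod.ext
    · change psi1 Q v₀ hv₀ h' = psi1 Q v₀ hv₀ h
      have hiff : psi1 Q v₀ hv₀ h' = 1 ↔ psi1 Q v₀ hv₀ h = 1 := by
        rw [psi1_eq_one_iff, psi1_eq_one_iff, hmult, Units.coe_map]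
        change IsSquare (σ (μ : F)) ↔ IsSquare (μ : F)
        constructor
        · rintro ⟨r, hr⟩
          refine ⟨σ.symm r, ?_⟩
          rw [← map_mul, ← hr, RingEquiv.symm_apply_apply]
        · rintro ⟨r, hr⟩
          exact ⟨σ r, by rw [hr, map_mul]⟩
      rcases Int.units_eq_one_or (psi1 Q v₀ hv₀ h') with e1 | e1 <;>
        rcases Int.units_eq_one_or (psi1 Q v₀ hv₀ h) with e2 | e2
      · rw [e1, e2]
      · rw [hiff.1 e1] at e2
        exact absurd e2 (by decide)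
      · rw [hiff.2 e2] at e1
        exact absurd e1 (by decide)
      · rw [e1, e2]
    · change psi2 Q v₀ hv₀ m hQ h2 hcard h' = psi2 Q v₀ hv₀ m hQ h2 hcard h
      have hδ : deltaHom Q v₀ hv₀ m h' = deltaHom Q v₀ hv₀ m h := by
        have e : deltaHom Q v₀ hv₀ m h' = Units.map (σ : F →* F) (deltaHom Q v₀ hv₀ m h) := by
          rw [deltaHom_apply, deltaHom_apply, hmult, hdet, map_mul, map_inv, map_pow]
        rw [e]
        rcases units_eq_one_or_neg_one (deltaHom_sq Q v₀ hv₀ m hQ hcard h) with e3 | e3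
        · rw [e3, map_one]
        · rw [e3]
          apply Units.ext
          rw [Units.coe_map, Units.val_neg, Units.val_one]
          change σ (-1) = -1
          rw [map_neg, map_one]
      rw [psi2_apply, psi2_apply, hδ]
  obtain ⟨u, s, hs, hgs⟩ := exists_special_of_psi_eq_one Q v₀ hv₀ m hQ h2 hcard (h' * h⁻¹) hpsi
  have hsG : s ∈ Cfsg.Geo.quadSimilarityGroup (⇑Q) := isometryGroup_le_similarity (⇑Q) hs.1
  rw [psoAut_eq]
  refine ⟨⟨s, hsG⟩, hs, ?_⟩
  exact (simAut_eq_of_scalar_mul (⇑Q) (h' * h⁻¹) ⟨s, hsG⟩ u hgs).symm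

end psi

end Cfsg.Agent.Lib.Helper36.AutO
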