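import Mathlib
import Cfsg.Agent.Lib.Helper36.AutO.AutCount
import Cfsg.Agent.Lib.Helper36.PgoPso
import Cfsg.Agent.Lib.Helper36.PgoInn
import Cfsg.Agent.Lib.Helper36.DicksonMatrix
import Cfsg.Agent.Lib.Helper44.POmegaOrder

set_option autoImplicit false
set_option linter.unusedSimpArgs false
set_option linter.unusedVariables false
set_option linter.unusedSectionVars false

/-!
# `PGO / Inn` in characteristic two: of order two
-/

namespace Cfsg.Agent.Lib.Helper36.AutO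

open Cfsg.Agent.Lib.Helper13 hiding isoGroup mem_isoGroup
open Cfsg.Agent.Lib.Helper36 Cfsg.Agent.Lib.Helper44 Module Matrix

section two
variable {ι : Type} [Fintype ι] [DecidableEq ι] {F : Type*} [Field F] [Fintype F]

/-- a nonzero value of the form -/
theorem exists_Q_ne_zero (Q : QuadraticForm F (ι → F))
    (hQ : (QuadraticMap.polarBilin Q).Nondegenerate) (h1 : 1 ≤ Fintype.card ι) :
    ∃ v : ι → F, Q v ≠ 0 := by
  by_contra hcon
  push Not at hcon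
  have hne : Nonempty ι := Fintype.card_pos_iff.1 (by omega)
  obtain ⟨i⟩ := hne
  have h0 : (Pi.single i (1 : F) : ι → F) = 0 := by
    apply hQ.1
    intro y
    change QuadraticMap.polar (⇑Q) _ _ = 0
    unfold QuadraticMap.polar
    rw [hcon, hcon, hcon]
    ring
  have := congrFun h0 i
  rw [Pi.single_eq_same, Pi.zero_apply] at this
  exact one_ne_zero this

/-- **L1.** In characteristic two, an isometry inducing an inner automorphism of `PΩ(Q)` lies in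
`Ω(Q)`. -/
theorem mem_OmegaGL_of_simAut_mem_Inn (Q : QuadraticForm F (ι → F))
    (hQ : (QuadraticMap.polarBilin Q).Nondegenerate) (h7 : 7 ≤ Fintype.card ι)
    (h2 : (2 : F) = 0) (o : GL ι F) (ho : o ∈ Cfsg.isometryGroup F (⇑Q))
    (hmem : simAut (⇑Q) ⟨o, isometryGroup_le_similarity (⇑Q) ho⟩ ∈
      Cfsg.Inn (Cfsg.POmega F (⇑Q))) : o ∈ OmegaGL (⇑Q) := by
  rw [Inn_eq] at hmem
  obtain ⟨ω, hω, hωo⟩ := hmem
  have hωO : (ω : GL ι F) ∈ Cfsg.isometryGroup F (⇑Q) := OmegaGL_le_isometryGroup (⇑Q) hω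
  set o' : ↥(Cfsg.Geo.quadSimilarityGroup (⇑Q)) := ⟨o, isometryGroup_le_similarity (⇑Q) ho⟩
    with ho'
  have h1 : simAut (⇑Q) (ω⁻¹ * o') = 1 := by
    rw [map_mul, map_inv, hωo, inv_mul_cancel]
  have hi : Cfsg.IsInducedBySemilinearPOmega (⇑Q) ((ω⁻¹ * o' : ↥(Cfsg.Geo.quadSimilarityGroup (⇑Q))) : GL ι F)
      (RingEquiv.refl F) (1 : MulAut (Cfsg.POmega F (⇑Q))) := by
    rw [← h1]
    exact (isInduced_iff (⇑Q) _ _).2 rfl
  have hp : Cfsg.IsSemisimilarityPair (⇑Q)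
      ((ω⁻¹ * o' : ↥(Cfsg.Geo.quadSimilarityGroup (⇑Q))) : GL ι F) (RingEquiv.refl F) := by
    obtain ⟨c, hc⟩ := (ω⁻¹ * o').2
    exact ⟨c, fun v => hc v⟩
  obtain ⟨-, l, hl0, hl⟩ := pair_faithful Q hQ h7 _ _ hp hi
  have hisoM : ((ω⁻¹ * o' : ↥(Cfsg.Geo.quadSimilarityGroup (⇑Q))) : GL ι F) ∈
      Cfsg.isometryGroup F (⇑Q) := by
    rw [Subgroup.coe_mul, Subgroup.coe_inv]
    exact (Cfsg.isometryGroup F (⇑Q)).mul_mem ((Cfsg.isometryGroup F (⇑Q)).inv_mem hωO) ho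
  obtain ⟨v₀, hv₀⟩ := exists_Q_ne_zero Q hQ (by omega)
  have hll : l * l = 1 := by
    have h3 := (mem_isometryGroup_iff' (⇑Q) _).1 hisoM v₀
    rw [hl, QuadraticMap.map_smul, smul_eq_mul] at h3
    have h4 : (l * l - 1) * Q v₀ = 0 := by linear_combination h3
    rcases mul_eq_zero.1 h4 with h5 | h5
    · linear_combination h5
    · exact absurd h5 hv₀
  have hl1 : l = 1 := by
    have h3 : (l - 1) * (l - 1) = 0 := by
      have : (l - 1) * (l - 1) = l * l - 1 - 2 * (l - 1) := by ring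
      rw [this, hll, h2]
      ring
    have := mul_self_eq_zero.1 h3
    linear_combination this
  have hone : ((ω⁻¹ * o' : ↥(Cfsg.Geo.quadSimilarityGroup (⇑Q))) : GL ι F) = 1 := by
    apply Units.ext
    apply matrix_eq_of_mulVec
    intro z
    rw [hl, hl1, one_smul, Units.val_one, Matrix.one_mulVec]
  have hoω : o = (ω : GL ι F) := by
    rw [Subgroup.coe_mul, Subgroup.coe_inv, inv_mul_eq_one] at hone
    exact hone.symm
  rw [hoω]
  exact hω

/-- **L2.** In characteristic two, every similarity-induced automorphism is induced by an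
isometry. -/
theorem exists_isometry_simAut_eq (Q : QuadraticForm F (ι → F)) (h2 : (2 : F) = 0)
    (h : ↥(Cfsg.Geo.quadSimilarityGroup (⇑Q))) :
    ∃ (o : GL ι F) (ho : o ∈ Cfsg.isometryGroup F (⇑Q)),
      simAut (⇑Q) h = simAut (⇑Q) ⟨o, isometryGroup_le_similarity (⇑Q) ho⟩ := by
  obtain ⟨μ, hμ⟩ := h.2
  have hchar : ringChar F = 2 :=
    CharP.ringChar_of_prime_eq_zero Nat.prime_two (by exact_mod_cast h2)
  obtain ⟨c, hc⟩ := FiniteField.isSquare_of_char_two hchar (μ : F)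
  have hc0 : c ≠ 0 := by
    rintro rfl
    rw [mul_zero] at hc
    exact Units.ne_zero _ hc
  set u : Fˣ := Units.mk0 c hc0 with hu
  have ho : (Matrix.GeneralLinearGroup.scalar ι u)⁻¹ * (h : GL ι F) ∈
      Cfsg.isometryGroup F (⇑Q) := by
    rw [mem_isometryGroup_iff']
    intro v
    rw [Units.val_mul, ← Matrix.mulVec_mulVec, ← map_inv, Matrix.GeneralLinearGroup.coe_scalar,
      Matrix.scalar_apply, ← Matrix.smul_one_eq_diagonal, Matrix.smul_mulVec, Matrix.one_mulVec,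
      QuadraticMap.map_smul, hμ, hc, Units.val_inv_eq_inv_val, smul_eq_mul, hu, Units.val_mk0]
    field_simp
  refine ⟨_, ho, ?_⟩
  apply simAut_eq_of_scalar_mul (⇑Q) h _ u
  change (h : GL ι F) = Matrix.GeneralLinearGroup.scalar ι u *
    ((Matrix.GeneralLinearGroup.scalar ι u)⁻¹ * (h : GL ι F))
  rw [mul_inv_cancel_left]

/-- **`|PGO : Inn| = 2` in characteristic two.** -/
theorem relIndex_Inn_pgoAut_two (Q : QuadraticForm F (ι → F))
    (hQ : (QuadraticMap.polarBilin Q).Nondegenerate) (h7 : 7 ≤ Fintype.card ι)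
    (h2 : (2 : F) = 0) :
    (Cfsg.Inn (Cfsg.POmega F (⇑Q))).relIndex (Cfsg.pgoAut F (⇑Q)) = 2 := by
  have hidx := index_Omega_of_two_eq_zero Q hQ (by omega) h2
  -- an isometry outside `Ω`
  obtain ⟨t, ht⟩ : ∃ t : ↥(Cfsg.isometryGroup F (⇑Q)), t ∉ Cfsg.Omega F (⇑Q) := by
    by_contra hcon
    push Not at hcon
    have : Cfsg.Omega F (⇑Q) = ⊤ := by
      rw [Subgroup.eq_top_iff']
      exact hcon
    rw [this, Subgroup.index_top] at hidx
    exact absurd hidx (by decide)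
  have hL1 : ∀ (o : ↥(Cfsg.isometryGroup F (⇑Q))),
      simAut (⇑Q) ⟨(o : GL ι F), isometryGroup_le_similarity (⇑Q) o.2⟩ ∈
        Cfsg.Inn (Cfsg.POmega F (⇑Q)) → o ∈ Cfsg.Omega F (⇑Q) := by
    intro o hmem
    have := mem_OmegaGL_of_simAut_mem_Inn Q hQ h7 h2 (o : GL ι F) o.2 hmem
    rw [mem_OmegaGL_iff] at this
    obtain ⟨_, h⟩ := this
    exact h
  have hIn : ∀ (o : ↥(Cfsg.isometryGroup F (⇑Q))), o ∈ Cfsg.Omega F (⇑Q) →
      simAut (⇑Q) ⟨(o : GL ι F), isometryGroup_le_similarity (⇑Q) o.2⟩ ∈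
        Cfsg.Inn (Cfsg.POmega F (⇑Q)) := by
    intro o ho
    rw [Inn_eq]
    refine ⟨⟨(o : GL ι F), isometryGroup_le_similarity (⇑Q) o.2⟩, ?_, rfl⟩
    rw [SetLike.mem_coe, Subgroup.mem_subgroupOf]
    exact (mem_OmegaGL_iff (⇑Q) _).2 ⟨o.2, ho⟩
  rw [Subgroup.relIndex_eq_two_iff_exists_notMem_and]
  refine ⟨simAut (⇑Q) ⟨(t : GL ι F), isometryGroup_le_similarity (⇑Q) t.2⟩, ?_, ?_, ?_⟩
  · rw [pgoAut_eq]
    exact ⟨_, rfl⟩
  · intro hmem
    exact ht (hL1 t hmem)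
  · intro b hb
    rw [pgoAut_eq] at hb
    obtain ⟨h, rfl⟩ := hb
    obtain ⟨o, ho, hho⟩ := exists_isometry_simAut_eq Q h2 h
    by_cases hoΩ : (⟨o, ho⟩ : ↥(Cfsg.isometryGroup F (⇑Q))) ∈ Cfsg.Omega F (⇑Q)
    · right
      rw [hho]
      exact hIn ⟨o, ho⟩ hoΩ
    · left
      have h3 : (⟨o, ho⟩ : ↥(Cfsg.isometryGroup F (⇑Q))) * t ∈ Cfsg.Omega F (⇑Q) := by
        rw [Subgroup.mul_mem_iff_of_index_two hidx]
        exact ⟨fun h => absurd h hoΩ, fun h => absurd h ht⟩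
      have e : simAut (⇑Q) ⟨o, isometryGroup_le_similarity (⇑Q) ho⟩ *
          simAut (⇑Q) ⟨(t : GL ι F), isometryGroup_le_similarity (⇑Q) t.2⟩ =
          simAut (⇑Q) ⟨(((⟨o, ho⟩ : ↥(Cfsg.isometryGroup F (⇑Q))) * t :
            ↥(Cfsg.isometryGroup F (⇑Q))) : GL ι F), isometryGroup_le_similarity (⇑Q)
              ((⟨o, ho⟩ : ↥(Cfsg.isometryGroup F (⇑Q))) * t).2⟩ := by
        rw [← map_mul]
        congr 1
      rw [hho, e]
      exact hIn _ h3

end two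

end Cfsg.Agent.Lib.Helper36.AutO
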