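import Mathlib

set_option autoImplicit false
set_option linter.unusedSimpArgs false
set_option linter.unusedVariables false
set_option linter.unusedSectionVars false

/-!
# A split extension with a normal subgroup of index two in the kernel

If `fp : A →* C` has a section `s`, and `N ⊴ A` lies in `ker fp` with index two, then
`A ⧸ N ≃* C₂ × C`.
-/

namespace Cfsg.Agent.Lib.Helper36.AutO

theorem zmod2_cases (ε : Multiplicative (ZMod 2)) :
    ε = 1 ∨ ε = Multiplicative.ofAdd (1 : ZMod 2) := by
  have h : ∀ x : ZMod 2, x = 0 ∨ x = 1 := by decide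
  rcases h (Multiplicative.toAdd ε) with h | h
  · left; exact h
  · right; exact h

theorem zmod2_ofAdd_one_ne : (Multiplicative.ofAdd (1 : ZMod 2)) ≠ 1 := by
  intro h
  have : (1 : ZMod 2) = 0 := h
  exact absurd this (by decide)

theorem zmod2_ofAdd_one_mul :
    (Multiplicative.ofAdd (1 : ZMod 2)) * Multiplicative.ofAdd (1 : ZMod 2) = 1 := by
  have : (1 : ZMod 2) + 1 = 0 := by decide
  exact this

theorem out_equiv_of_section {A C : Type*} [Group A] [Group C] (N : Subgroup A) [hNn : N.Normal]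
    (fp : A →* C) (s : C →* A) (hs : ∀ c, fp (s c) = c) (hN : N ≤ fp.ker)
    (hidx : N.relIndex fp.ker = 2) : Nonempty (A ⧸ N ≃* Multiplicative (ZMod 2) × C) := by
  classical
  have hmul : ∀ k₁ k₂ : A, k₁ ∈ fp.ker → k₂ ∈ fp.ker → (k₁ * k₂ ∈ N ↔ (k₁ ∈ N ↔ k₂ ∈ N)) := by
    intro k₁ k₂ h1 h2
    have h := Subgroup.mul_mem_iff_of_index_two (H := N.subgroupOf fp.ker) hidx
      (a := ⟨k₁, h1⟩) (b := ⟨k₂, h2⟩)
    simpa [Subgroup.mem_subgroupOf] using h
  have hconj : ∀ (t k : A), t * k * t⁻¹ ∈ N ↔ k ∈ N := by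
    intro t k
    constructor
    · intro h
      have := hNn.conj_mem _ h t⁻¹
      have e : t⁻¹ * (t * k * t⁻¹) * t⁻¹⁻¹ = k := by group
      rwa [e] at this
    · intro h
      exact hNn.conj_mem _ h t
  set κ : A → A := fun a => a * (s (fp a))⁻¹ with hκ
  have hκker : ∀ a, κ a ∈ fp.ker := by
    intro a
    rw [MonoidHom.mem_ker]
    simp only [hκ]
    rw [map_mul, map_inv, hs, mul_inv_cancel]
  have hκmul : ∀ a b, κ (a * b) = κ a * (s (fp a) * κ b * (s (fp a))⁻¹) := by
    intro a b
    simp only [hκ]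
    rw [map_mul, map_mul]
    group
  have hconjker : ∀ (t k : A), k ∈ fp.ker → t * k * t⁻¹ ∈ fp.ker := by
    intro t k hk
    exact (MonoidHom.normal_ker fp).conj_mem k hk t
  let χ : A →* Multiplicative (ZMod 2) := MonoidHom.mk'
    (fun a => if κ a ∈ N then 1 else Multiplicative.ofAdd (1 : ZMod 2)) (by
      intro a b
      have h1 := hmul (κ a) (s (fp a) * κ b * (s (fp a))⁻¹) (hκker a)
        (hconjker _ _ (hκker b))
      rw [← hκmul, hconj] at h1
      by_cases ha : κ a ∈ N <;> by_cases hb : κ b ∈ N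
      · have : κ (a * b) ∈ N := h1.2 ⟨fun _ => hb, fun _ => ha⟩
        simp only [if_pos ha, if_pos hb, if_pos this, mul_one]
      · have : κ (a * b) ∉ N := fun h => hb ((h1.1 h).1 ha)
        simp only [if_pos ha, if_neg hb, if_neg this, one_mul]
      · have : κ (a * b) ∉ N := fun h => ha ((h1.1 h).2 hb)
        simp only [if_neg ha, if_pos hb, if_neg this, mul_one]
      · have : κ (a * b) ∈ N := h1.2 ⟨fun h => absurd h ha, fun h => absurd h hb⟩
        simp only [if_neg ha, if_neg hb, if_pos this, zmod2_ofAdd_one_mul])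
  have hχ : ∀ a, χ a = if κ a ∈ N then 1 else Multiplicative.ofAdd (1 : ZMod 2) := fun a => rfl
  have hχ1 : ∀ a, χ a = 1 ↔ κ a ∈ N := by
    intro a
    rw [hχ]
    by_cases h : κ a ∈ N
    · simp only [if_pos h, true_iff]
      exact h
    · simp only [if_neg h]
      constructor
      · intro h'
        exact absurd h' zmod2_ofAdd_one_ne
      · intro h'
        exact absurd h' h
  let Ψ : A →* Multiplicative (ZMod 2) × C := χ.prod fp
  have hΨ : ∀ a, Ψ a = (χ a, fp a) := fun a => rfl
  have hker : N = Ψ.ker := by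
    ext a
    rw [MonoidHom.mem_ker, hΨ, Prod.mk_eq_one]
    constructor
    · intro ha
      have hfa : fp a = 1 := hN ha
      refine ⟨?_, hfa⟩
      rw [hχ1]
      simp only [hκ]
      rw [hfa, map_one, inv_one, mul_one]
      exact ha
    · rintro ⟨h1, h2⟩
      rw [hχ1] at h1
      simp only [hκ] at h1
      rw [h2, map_one, inv_one, mul_one] at h1
      exact h1
  have hsurj : Function.Surjective Ψ := by
    have hne : ¬ fp.ker ≤ N := by
      intro hle
      have := Subgroup.relIndex_eq_one.2 hle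
      rw [this] at hidx
      exact absurd hidx (by decide)
    obtain ⟨k₀, hk₀K, hk₀N⟩ := Set.not_subset.1 hne
    rintro ⟨ε, c⟩
    rcases zmod2_cases ε with rfl | rfl
    · refine ⟨s c, ?_⟩
      rw [hΨ, hs]
      congr 1
      rw [hχ1]
      simp only [hκ]
      rw [hs, mul_inv_cancel]
      exact N.one_mem
    · refine ⟨k₀ * s c, ?_⟩
      have hf : fp (k₀ * s c) = c := by
        rw [map_mul, hs, (MonoidHom.mem_ker).1 hk₀K, one_mul]
      rw [hΨ, hf]
      congr 1
      rw [hχ]
      have : κ (k₀ * s c) = k₀ := by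
        simp only [hκ]
        rw [hf, mul_inv_cancel_right]
      have hk₀N' : k₀ ∉ N := hk₀N
      rw [this, if_neg hk₀N']
  exact ⟨(QuotientGroup.quotientMulEquivOfEq hker).trans
    (QuotientGroup.quotientKerEquivOfSurjective Ψ hsurj)⟩

end Cfsg.Agent.Lib.Helper36.AutO
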