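import Mathlib
import Cfsg.Agent.Lib.Helper36.AutO.AutCount
import Cfsg.Agent.Lib.Helper36.AutO.OutSplit
import Cfsg.Agent.Lib.Helper36.PsoInn
import Cfsg.Agent.Lib.Helper36.PgoInn
import Cfsg.Agent.Lib.Helper36.SimilarityChar

set_option autoImplicit false
set_option linter.unusedSimpArgs false
set_option linter.unusedVariables false
set_option linter.unusedSectionVars false

/-!
# Odd dimension: `PGO = PSO` and `|PSO : Inn| = 2`
-/

namespace Cfsg.Agent.Lib.Helper36.AutO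

open Cfsg.Agent.Lib.Helper13 hiding isoGroup mem_isoGroup
open Cfsg.Agent.Lib.Helper36 Cfsg.Agent.Lib.Helper44 Module Matrix

section mat
variable {ι : Type} [Fintype ι] [DecidableEq ι] {F : Type*} [Field F] [Fintype F] [DecidableEq F]

theorem scalar_mulVec (u : Fˣ) (v : ι → F) :
    ((Matrix.GeneralLinearGroup.scalar ι u : GL ι F) : Matrix ι ι F) *ᵥ v = (u : F) • v := by
  rw [Matrix.GeneralLinearGroup.coe_scalar, Matrix.scalar_apply, ← Matrix.smul_one_eq_diagonal,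
    Matrix.smul_mulVec, Matrix.one_mulVec]

/-- in odd dimension every similarity is a scalar multiple of a special isometry -/
theorem exists_special_of_similarity_odd (Q : QuadraticForm F (ι → F))
    (hQ : (QuadraticMap.polarBilin Q).Nondegenerate) (k : ℕ)
    (hcard : Fintype.card ι = 2 * k + 1) (g : GL ι F)
    (hg : g ∈ Cfsg.Geo.quadSimilarityGroup (⇑Q)) :
    ∃ (h : GL ι F) (u : Fˣ), h ∈ Cfsg.specialIsometryGL F (⇑Q) ∧
      g = Matrix.GeneralLinearGroup.scalar ι u * h := by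
  obtain ⟨c, hc⟩ := hg
  set d : Fˣ := Matrix.GeneralLinearGroup.det g with hd
  have hdd : d * d = c ^ (2 * k + 1) := by
    apply Units.ext
    rw [Units.val_mul, Units.val_pow_eq_pow_val, hd, Matrix.GeneralLinearGroup.val_det_apply,
      ← hcard]
    exact similarity_det_sq Q hQ _ _ hc
  set l : Fˣ := d * (c ^ k)⁻¹ with hl
  have hll : l * l = c := by
    rw [hl, mul_mul_mul_comm, hdd, ← mul_inv, ← pow_add, ← two_mul, pow_succ, mul_assoc,
      mul_comm c, ← mul_assoc, mul_inv_cancel, one_mul]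
  set h₀ : GL ι F := Matrix.GeneralLinearGroup.scalar ι l⁻¹ * g with hh₀
  have hiso : ∀ (u : Fˣ), u * u = 1 →
      Matrix.GeneralLinearGroup.scalar ι u * h₀ ∈ Cfsg.isometryGroup F (⇑Q) := by
    intro u hu
    rw [mem_isometryGroup_iff']
    intro v
    rw [Units.val_mul, ← Matrix.mulVec_mulVec, scalar_mulVec, hh₀, Units.val_mul,
      ← Matrix.mulVec_mulVec, scalar_mulVec, QuadraticMap.map_smul, QuadraticMap.map_smul, hc,
      smul_eq_mul, smul_eq_mul, ← hll]
    have h1 : ((u * u : Fˣ) : F) = 1 := by rw [hu, Units.val_one]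
    have h2 : ((l⁻¹ * l : Fˣ) : F) = 1 := by rw [inv_mul_cancel, Units.val_one]
    rw [Units.val_mul] at h1 h2
    rw [Units.val_mul]
    calc (u : F) * (u : F) * (((l⁻¹ : Fˣ) : F) * ((l⁻¹ : Fˣ) : F) * ((l : F) * (l : F) * Q v))
        = ((u : F) * (u : F)) * ((((l⁻¹ : Fˣ) : F) * (l : F)) * (((l⁻¹ : Fˣ) : F) * (l : F))) *
            Q v := by ring
      _ = Q v := by rw [h1, h2]; ring
  have hdet₀ : Matrix.GeneralLinearGroup.det h₀ * Matrix.GeneralLinearGroup.det h₀ = 1 := by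
    have h1 := hiso 1 (one_mul 1)
    rw [map_one, one_mul] at h1
    apply Units.ext
    rw [Units.val_mul, Matrix.GeneralLinearGroup.val_det_apply, Units.val_one]
    have h2 := similarity_det_sq Q hQ (h₀ : Matrix ι ι F) 1
      (fun u => by rw [(mem_isometryGroup_iff' (⇑Q) h₀).1 h1 u, one_mul])
    rw [one_pow] at h2
    exact h2
  rcases units_eq_one_or_neg_one hdet₀ with h1 | h1
  · refine ⟨h₀, l, ⟨?_, h1⟩, ?_⟩
    · have := hiso 1 (one_mul 1)
      rwa [map_one, one_mul] at this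
    · rw [hh₀, ← mul_assoc, ← map_mul, mul_inv_cancel, map_one, one_mul]
  · refine ⟨Matrix.GeneralLinearGroup.scalar ι (-1) * h₀, -l, ⟨hiso (-1) (by simp), ?_⟩, ?_⟩
    · show Matrix.GeneralLinearGroup.det (Matrix.GeneralLinearGroup.scalar ι (-1) * h₀) = 1
      rw [map_mul, Matrix.GeneralLinearGroup.det_scalar, h1, hcard, pow_succ, pow_mul]
      simp
    · rw [hh₀, ← mul_assoc, ← mul_assoc, ← map_mul, ← map_mul]
      have : -l * -1 * l⁻¹ = 1 := by
        rw [neg_mul_neg, mul_one, mul_inv_cancel]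
      rw [this, map_one, one_mul]

/-- in odd dimension `PGO = PSO` inside `Aut PΩ(Q)` -/
theorem pgoAut_eq_psoAut_odd (Q : QuadraticForm F (ι → F))
    (hQ : (QuadraticMap.polarBilin Q).Nondegenerate) (k : ℕ)
    (hcard : Fintype.card ι = 2 * k + 1) :
    Cfsg.pgoAut F (⇑Q) = Cfsg.psoAut F (⇑Q) := by
  apply le_antisymm _ (psoAut_le_pgoAut (⇑Q))
  rw [pgoAut_eq, psoAut_eq]
  rintro β ⟨g, rfl⟩
  obtain ⟨h, u, hh, hgh⟩ := exists_special_of_similarity_odd Q hQ k hcard (g : GL ι F) g.2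
  have hhsim : h ∈ Cfsg.Geo.quadSimilarityGroup (⇑Q) :=
    isometryGroup_le_similarity (⇑Q) hh.1
  refine ⟨⟨h, hhsim⟩, hh, ?_⟩
  exact (simAut_eq_of_scalar_mul (⇑Q) g ⟨h, hhsim⟩ u hgh).symm

/-- in odd dimension, `Inn PΩ(Q)` has index two in the image of `SO(Q)` -/
theorem relIndex_Inn_psoAut_odd (Q : QuadraticForm F (ι → F))
    (hQ : (QuadraticMap.polarBilin Q).Nondegenerate) (h2 : (2 : F) ≠ 0)
    (hdim : 5 ≤ Fintype.card ι) (k : ℕ) (hcard : Fintype.card ι = 2 * k + 1) :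
    (Cfsg.Inn (Cfsg.POmega F (⇑Q))).relIndex (Cfsg.psoAut F (⇑Q)) = 2 := by
  have hdim2 : 2 ≤ Fintype.card ι := by omega
  have hSO_le : Cfsg.specialIsometryGL F (⇑Q) ≤ Cfsg.Geo.quadSimilarityGroup (⇑Q) :=
    le_trans inf_le_left (isometryGroup_le_similarity (⇑Q))
  have hnegdet : Matrix.GeneralLinearGroup.det (negGL ι F) = -1 := by
    apply Units.ext
    rw [Matrix.GeneralLinearGroup.val_det_apply, negGL_coe, Matrix.det_neg, Matrix.det_one,
      hcard, pow_succ, pow_mul]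
    simp
  have hne : (-1 : Fˣ) ≠ 1 := by
    intro h
    have := congrArg Units.val h
    rw [Units.val_neg, Units.val_one] at this
    apply h2
    linear_combination -this
  have key : ∀ g : ↥(Cfsg.Geo.quadSimilarityGroup (⇑Q)),
      (g : GL ι F) ∈ Cfsg.specialIsometryGL F (⇑Q) →
      (simAut (⇑Q) g ∈ Cfsg.Inn (Cfsg.POmega F (⇑Q)) ↔
        spin Q (glLinEquiv ι F (g : GL ι F)) = 1) := by
    intro g hg
    rw [← mem_OmegaGL_iff_spin Q hQ h2 hdim2 _ hg]
    constructor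
    · intro h
      rcases mem_or_neg_mem_of_simAut_mem_Inn Q hQ h2 hdim g hg.1 h with h' | h'
      · exact h'
      · exfalso
        have h3 := OmegaGL_le_special (⇑Q) h'
        have h4 : Matrix.GeneralLinearGroup.det (negGL ι F * (g : GL ι F)) = 1 := h3.2
        have h5 : Matrix.GeneralLinearGroup.det (g : GL ι F) = 1 := hg.2
        rw [map_mul, hnegdet, h5, mul_one] at h4
        exact hne h4
    · exact simAut_mem_Inn_of_mem (⇑Q) g
  obtain ⟨g₀, hg₀S, hg₀⟩ := exists_special_spin_neg Q hQ h2 hdim2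
  rw [Subgroup.relIndex_eq_two_iff]
  refine ⟨simAut (⇑Q) ⟨g₀, hSO_le hg₀S⟩, ?_, ?_⟩
  · rw [psoAut_eq]
    exact ⟨⟨g₀, hSO_le hg₀S⟩, hg₀S, rfl⟩
  · intro b hb
    rw [psoAut_eq] at hb
    obtain ⟨g, hg, rfl⟩ := hb
    have hg' : (g : GL ι F) ∈ Cfsg.specialIsometryGL F (⇑Q) := hg
    rw [← map_mul, key g hg', key (g * ⟨g₀, hSO_le hg₀S⟩) (Subgroup.mul_mem _ hg' hg₀S)]
    have hmul : spin Q (glLinEquiv ι F ((g * ⟨g₀, hSO_le hg₀S⟩ :
        ↥(Cfsg.Geo.quadSimilarityGroup (⇑Q))) : GL ι F)) =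
        spin Q (glLinEquiv ι F (g : GL ι F)) * spin Q (glLinEquiv ι F g₀) :=
      spin_mul_matrix Q hQ h2 _ _ hg'.1 hg₀S.1
    rw [hmul, hg₀]
    rcases spin_matrix_eq_one_or Q hQ h2 _ hg'.1 with h | h
    · rw [h]
      right
      exact ⟨rfl, by decide⟩
    · rw [h]
      left
      exact ⟨by decide, by decide⟩

end mat

end Cfsg.Agent.Lib.Helper36.AutO
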