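import Mathlib
import Cfsg.Agent.Lib.Helper36.AutO.OddAut
import Cfsg.Agent.Lib.Helper36.AutO.RingAutCard
import Cfsg.Agent.Lib.Helper44.OddQF

set_option autoImplicit false
set_option linter.unusedSimpArgs false
set_option linter.unusedVariables false
set_option linter.unusedSectionVars false

/-!
# `|Aut|` and `Out` of `PΩ(Q)` in odd dimension
-/

namespace Cfsg.Agent.Lib.Helper36.AutO

open Cfsg.Agent.Lib.Helper13 hiding isoGroup mem_isoGroup
open Cfsg.Agent.Lib.Helper36 Cfsg.Agent.Lib.Helper44 Module Matrix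

section mat
variable {ι : Type} [Fintype ι] [DecidableEq ι] {F : Type*} [Field F] [Fintype F] [DecidableEq F]

/-- `|Aut PΩ(Q)| = 2 f |PΩ(Q)|` in odd dimension, for a form invariant under the field
automorphisms -/
theorem card_aut_odd (Q : QuadraticForm F (ι → F))
    (hQ : (QuadraticMap.polarBilin Q).Nondegenerate) (h2 : (2 : F) ≠ 0)
    (h7 : 7 ≤ Fintype.card ι) (k : ℕ) (hcard : Fintype.card ι = 2 * k + 1)
    (htop : Cfsg.gammaPOmega F (⇑Q) = ⊤)
    (hσ : ∀ σ : F ≃+* F, Cfsg.IsSemisimilarityPair (⇑Q) (1 : GL ι F) σ)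
    {p f : ℕ} [Fact p.Prime] (hf : 1 ≤ f) (hF : Fintype.card F = p ^ f) :
    Nat.card (MulAut (Cfsg.POmega F (⇑Q))) = 2 * f * Nat.card (Cfsg.POmega F (⇑Q)) := by
  have h1 := Subgroup.relIndex_mul_relIndex (⊥ : Subgroup (MulAut (Cfsg.POmega F (⇑Q)))) _ _
    bot_le (Inn_le_psoAut (⇑Q))
  rw [Subgroup.relIndex_bot_left, Subgroup.relIndex_bot_left,
    relIndex_Inn_psoAut_odd Q hQ h2 (by omega) k hcard, card_Inn_POmega Q hQ h7] at h1
  rw [card_aut_eq_of_surj Q hQ h7 htop (fun σ => ⟨1, hσ σ⟩), card_ringAut_eq hf hF,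
    pgoAut_eq_psoAut_odd Q hQ k hcard, ← h1]
  ring

/-- `Out PΩ(Q) ≅ C₂ × C_f` in odd dimension, for a form invariant under the field
automorphisms -/
theorem out_equiv_odd (Q : QuadraticForm F (ι → F))
    (hQ : (QuadraticMap.polarBilin Q).Nondegenerate) (h2 : (2 : F) ≠ 0)
    (h7 : 7 ≤ Fintype.card ι) (k : ℕ) (hcard : Fintype.card ι = 2 * k + 1)
    (htop : Cfsg.gammaPOmega F (⇑Q) = ⊤)
    (hσ : ∀ σ : F ≃+* F, Cfsg.IsSemisimilarityPair (⇑Q) (1 : GL ι F) σ)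
    {p f : ℕ} [Fact p.Prime] (hf : 1 ≤ f) (hF : Fintype.card F = p ^ f) :
    Nonempty (Cfsg.Out (Cfsg.POmega F (⇑Q)) ≃* Multiplicative (ZMod 2 × ZMod f)) := by
  have hker := ker_fieldPart Q hQ h7 htop
  have hN : Cfsg.Inn (Cfsg.POmega F (⇑Q)) ≤ (fieldPart Q hQ h7 htop).ker := by
    rw [hker]
    exact le_trans (Inn_le_psoAut (⇑Q)) (psoAut_le_pgoAut (⇑Q))
  have hidx : (Cfsg.Inn (Cfsg.POmega F (⇑Q))).relIndex (fieldPart Q hQ h7 htop).ker = 2 := by
    rw [hker, pgoAut_eq_psoAut_odd Q hQ k hcard]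
    exact relIndex_Inn_psoAut_odd Q hQ h2 (by omega) k hcard
  obtain ⟨e⟩ := out_equiv_of_section (Cfsg.Inn (Cfsg.POmega F (⇑Q))) (fieldPart Q hQ h7 htop)
    (fieldSection Q hσ) (fieldPart_fieldSection Q hQ h7 htop hσ) hN hidx
  obtain ⟨e₁⟩ := ringAut_equiv_zmod (F := F) hf hF
  exact ⟨e.trans (((MulEquiv.refl _).prodCongr e₁).trans
    (MulEquiv.prodMultiplicative (ZMod 2) (ZMod f)).symm)⟩

end mat

section odd
variable (m : ℕ) (F : Type*) [Field F]

/-- the odd form is invariant under the field automorphisms acting on coordinates -/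
theorem oddQF_pair_one (σ : F ≃+* F) :
    Cfsg.IsSemisimilarityPair (⇑(oddQF m F)) (1 : GL (Unit ⊕ (Fin m ⊕ Fin m)) F) σ := by
  refine ⟨1, fun v => ?_⟩
  rw [Units.val_one, Matrix.one_mulVec, Units.val_one, one_mul, oddQF_coe]
  unfold Cfsg.quadFormOdd
  rw [map_add, map_pow, map_sum]
  congr 1
  apply Finset.sum_congr rfl
  intro i _
  rw [map_mul]

end odd

end Cfsg.Agent.Lib.Helper36.AutO
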