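import Mathlib

set_option autoImplicit false
set_option linter.unusedSimpArgs false
set_option linter.unusedVariables false
set_option linter.unusedSectionVars false

/-!
# Group-theoretic lemmas on extensions by a cyclic group, used for `Out PΩ⁻`

* every automorphism of the dihedral group of order eight has order dividing four;
* an extension of the dihedral group of order eight by a cyclic group of odd order is a direct
  product;
* a cyclic extension with a generator whose `f`-th power is not in the subgroup.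
-/

namespace Cfsg.Agent.Lib.Helper36.AutO

open DihedralGroup

/-- the candidate endomorphism of `D₈` determined by the images of `r 1` and `sr 0` -/
def dihF (a b : DihedralGroup 4) : DihedralGroup 4 → DihedralGroup 4
  | r j => a ^ j.val
  | sr j => b * a ^ j.val

theorem dihF_iter : ∀ a b x : DihedralGroup 4, a ^ 2 ≠ 1 → b * a * b⁻¹ = a⁻¹ →
    dihF a b (dihF a b (dihF a b (dihF a b x))) = x := by
  decide

theorem dih_r_eq_pow (j : ZMod 4) : (r j : DihedralGroup 4) = (r 1) ^ j.val := by
  revert j; decide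

theorem dih_sr_eq_mul (j : ZMod 4) : (sr j : DihedralGroup 4) = sr 0 * (r 1) ^ j.val := by
  revert j; decide

theorem mulAut_eq_dihF (β : MulAut (DihedralGroup 4)) (x : DihedralGroup 4) :
    β x = dihF (β (r 1)) (β (sr 0)) x := by
  cases x with
  | r j =>
    change _ = (β (r 1)) ^ j.val
    rw [← map_pow, ← dih_r_eq_pow]
  | sr j =>
    change _ = β (sr 0) * (β (r 1)) ^ j.val
    rw [← map_pow, ← map_mul, ← dih_sr_eq_mul]

/-- every automorphism of `D₈` has order dividing four -/
theorem mulAut_dihedral_pow_four (β : MulAut (DihedralGroup 4)) : β ^ 4 = 1 := by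
  apply MulEquiv.ext
  intro x
  have h1 : (β (r 1)) ^ 2 ≠ 1 := by
    rw [← map_pow]
    intro h
    have := β.injective (h.trans (map_one β).symm)
    revert this
    decide
  have h2 : β (sr 0) * β (r 1) * (β (sr 0))⁻¹ = (β (r 1))⁻¹ := by
    rw [← map_inv, ← map_mul, ← map_mul, ← map_inv]
    congr 1
  have h3 := dihF_iter (β (r 1)) (β (sr 0)) x h1 h2
  rw [← mulAut_eq_dihF, ← mulAut_eq_dihF, ← mulAut_eq_dihF, ← mulAut_eq_dihF] at h3
  exact h3

/-- `D₈` has no nontrivial automorphism of odd order -/
theorem mulAut_dihedral_eq_one_of_odd (β : MulAut (DihedralGroup 4)) (k : ℕ) (hk : Odd k)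
    (h : β ^ k = 1) : β = 1 := by
  have h4 := mulAut_dihedral_pow_four β
  have hd : orderOf β ∣ Nat.gcd 4 k :=
    Nat.dvd_gcd (orderOf_dvd_of_pow_eq_one h4) (orderOf_dvd_of_pow_eq_one h)
  have hg : Nat.gcd 4 k = 1 := by
    have : Nat.Coprime 4 k := by
      have h2 : Nat.Coprime 2 k := by
        rw [Nat.Prime.coprime_iff_not_dvd Nat.prime_two]
        intro hdvd
        rcases hk with ⟨j, rfl⟩
        omega
      have : (4 : ℕ) = 2 ^ 2 := by norm_num
      rw [this]
      exact Nat.Coprime.pow_left 2 h2
    exact this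
  rw [hg, Nat.dvd_one] at hd
  exact orderOf_eq_one_iff.1 hd

/-- an extension of `D₈` by a cyclic group of odd order is a direct product -/
theorem equiv_dihedral_prod {G : Type*} [Group G] [Finite G] (H : Subgroup G) [H.Normal]
    (eH : ↥H ≃* DihedralGroup 4) (f : ℕ) (hfodd : Odd f)
    (eQ : G ⧸ H ≃* Multiplicative (ZMod f)) :
    Nonempty (G ≃* DihedralGroup 4 × Multiplicative (ZMod f)) := by
  have hf1 : 1 ≤ f := by
    rcases hfodd with ⟨j, rfl⟩
    omega
  have : NeZero f := ⟨by omega⟩
  have hcardH : Nat.card ↥H = 8 := by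
    rw [Nat.card_congr eH.toEquiv, DihedralGroup.nat_card]
  have hidx : H.index = f := by
    rw [Subgroup.index, Nat.card_congr eQ.toEquiv]
    show Nat.card (ZMod f) = f
    rw [Nat.card_eq_fintype_card, ZMod.card]
  have hcop : Nat.Coprime (Nat.card ↥H) H.index := by
    rw [hcardH, hidx]
    have h2 : Nat.Coprime 2 f := by
      rw [Nat.Prime.coprime_iff_not_dvd Nat.prime_two]
      intro hdvd
      rcases hfodd with ⟨j, rfl⟩
      omega
    have : (8 : ℕ) = 2 ^ 3 := by norm_num
    rw [this]
    exact Nat.Coprime.pow_left 3 h2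
  obtain ⟨C', hc⟩ := Subgroup.exists_right_complement'_of_coprime hcop
  have eC' : ↥C' ≃* G ⧸ H := (hc.symm.QuotientMulEquiv).symm
  have hcardC' : Nat.card ↥C' = f := by
    rw [Nat.card_congr eC'.toEquiv]
    exact hidx
  have hcomm : ∀ (h : ↥H) (c : ↥C'), Commute (H.subtype h) (C'.subtype c) := by
    intro h c
    set α : MulAut ↥H := MulAut.conjNormal (H := H) (c : G) with hα
    have hαf : α ^ f = 1 := by
      rw [hα, ← map_pow]
      have : ((c : G)) ^ f = 1 := by
        have h1 : c ^ f = 1 := by
          rw [← hcardC']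
          exact pow_card_eq_one'
        have := congrArg (C'.subtype) h1
        rwa [map_pow, map_one] at this
      rw [this, map_one]
    have hβ : (MulAut.congr eH α) ^ f = 1 := by
      rw [← map_pow, hαf, map_one]
    have hβ1 := mulAut_dihedral_eq_one_of_odd _ f hfodd hβ
    have hα1 : α = 1 := by
      apply (MulAut.congr eH).injective
      rw [hβ1, map_one]
    have h1 : ((α h : ↥H) : G) = (c : G) * (h : G) * (c : G)⁻¹ := MulAut.conjNormal_apply _ _
    rw [hα1, MulAut.one_apply] at h1
    show (h : G) * (c : G) = (c : G) * (h : G)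
    have h2 := congrArg (fun y => y * (c : G)) h1
    simp only [inv_mul_cancel_right] at h2
    exact h2
  have hbij : Function.Bijective (MonoidHom.noncommCoprod H.subtype C'.subtype hcomm) := hc
  exact ⟨(MulEquiv.ofBijective _ hbij).symm.trans (eH.prodCongr (eC'.trans eQ))⟩

/-- the quotient of the kernel of `fp` by `N`, embedded in `A ⧸ N`, via a surjection of the kernel
with kernel `N` -/
theorem out_equiv_dihedral {A C : Type*} [Group A] [Finite A] [Group C] (N : Subgroup A)
    [hNn : N.Normal] (fp : A →* C) (hsurj : Function.Surjective fp) (K : Subgroup A)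
    (hK : fp.ker = K) (hN : N ≤ K) (φ : ↥K →* DihedralGroup 4) (hφs : Function.Surjective φ)
    (hφk : φ.ker = N.subgroupOf K) (f : ℕ) (hfodd : Odd f)
    (eC : C ≃* Multiplicative (ZMod f)) :
    Nonempty (A ⧸ N ≃* DihedralGroup 4 × Multiplicative (ZMod f)) := by
  subst hK
  set θ : ↥fp.ker →* A ⧸ N := (QuotientGroup.mk' N).comp fp.ker.subtype with hθ
  have hθk : θ.ker = N.subgroupOf fp.ker := by
    ext k
    rw [MonoidHom.mem_ker, Subgroup.mem_subgroupOf, hθ, MonoidHom.comp_apply,
      QuotientGroup.mk'_apply, QuotientGroup.eq_one_iff]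
    rfl
  have hrange : θ.range = fp.ker.map (QuotientGroup.mk' N) := by
    rw [hθ, MonoidHom.range_comp, Subgroup.range_subtype]
  have e1 := QuotientGroup.quotientKerEquivRange θ
  have e2 := QuotientGroup.quotientKerEquivOfSurjective φ hφs
  have e3 : ↥fp.ker ⧸ θ.ker ≃* ↥fp.ker ⧸ φ.ker :=
    QuotientGroup.quotientMulEquivOfEq (hθk.trans hφk.symm)
  have e4 : ↥θ.range ≃* ↥(fp.ker.map (QuotientGroup.mk' N)) := MulEquiv.subgroupCongr hrange
  have eH : ↥(fp.ker.map (QuotientGroup.mk' N)) ≃* DihedralGroup 4 :=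
    e4.symm.trans (e1.symm.trans (e3.trans e2))
  have eQ : (A ⧸ N) ⧸ (fp.ker.map (QuotientGroup.mk' N)) ≃* Multiplicative (ZMod f) :=
    (QuotientGroup.quotientQuotientEquivQuotient N fp.ker hN).trans
      ((QuotientGroup.quotientKerEquivOfSurjective fp hsurj).trans eC)
  exact equiv_dihedral_prod (fp.ker.map (QuotientGroup.mk' N)) eH f hfodd eQ

end Cfsg.Agent.Lib.Helper36.AutO
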