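import Mathlib

set_option autoImplicit false
set_option linter.unusedSimpArgs false
set_option linter.unusedVariables false
set_option linter.unusedSectionVars false

/-!
# Cyclic extensions: the outer automorphism group as `A ⧸ N` with `A ⧸ ker fp` cyclic
-/

namespace Cfsg.Agent.Lib.Helper36.AutO

section basic
variable {A C : Type*} [Group A] [Group C]

/-- the order of a generator -/
theorem orderOf_eq_of_forall_pow (f : ℕ) (hf : 1 ≤ f) (hC : Nat.card C = f) (c₀ : C)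
    (hx : ∀ c : C, ∃ n : ℕ, c = c₀ ^ n) : orderOf c₀ = f := by
  rw [← hC]
  apply orderOf_eq_card_of_forall_mem_zpowers
  intro c
  obtain ⟨n, hn⟩ := hx c
  rw [hn]
  exact Subgroup.npow_mem_zpowers c₀ n

theorem pow_mem_ker_iff (fp : A →* C) (f : ℕ) (hf : 1 ≤ f) (hC : Nat.card C = f) (x : A)
    (hx : ∀ c : C, ∃ n : ℕ, c = (fp x) ^ n) (n : ℕ) : x ^ n ∈ fp.ker ↔ f ∣ n := by
  rw [MonoidHom.mem_ker, map_pow, ← orderOf_dvd_iff_pow_eq_one,
    orderOf_eq_of_forall_pow f hf hC (fp x) hx]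

theorem card_quot_eq (N : Subgroup A) (fp : A →* C) (hsurj : Function.Surjective fp)
    (hN : N ≤ fp.ker) : Nat.card (A ⧸ N) = N.relIndex fp.ker * Nat.card C := by
  have h1 : Nat.card (A ⧸ N) = N.index := rfl
  rw [h1, ← Subgroup.relIndex_mul_index hN, Subgroup.index_ker,
    MonoidHom.range_eq_top.2 hsurj]
  congr 1
  exact Nat.card_congr Subgroup.topEquiv.toEquiv

theorem inv_mul_mem_of_mul_inv_mem (N : Subgroup A) [hNn : N.Normal] {a b : A}
    (h : a * b⁻¹ ∈ N) : a⁻¹ * b ∈ N := by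
  have h2 := N.inv_mem h
  have h3 := hNn.conj_mem _ h2 a⁻¹
  have e2 : a⁻¹ * (a * b⁻¹)⁻¹ * a⁻¹⁻¹ = a⁻¹ * b := by group
  rwa [e2] at h3

/-- a cyclic extension of a group of order two in which the `f`-th power of a lift of the
generator is nontrivial is cyclic -/
theorem out_cyclic_of_gen (N : Subgroup A) [hNn : N.Normal]
    (fp : A →* C) (hsurj : Function.Surjective fp) (hN : N ≤ fp.ker)
    (hidx : N.relIndex fp.ker = 2) (f : ℕ) (hf : 1 ≤ f) (hC : Nat.card C = f)
    (x : A) (hx : ∀ c : C, ∃ n : ℕ, c = (fp x) ^ n) (hxf : x ^ f ∉ N) :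
    IsCyclic (A ⧸ N) ∧ Nat.card (A ⧸ N) = 2 * f := by
  have hmul : ∀ k₁ k₂ : A, k₁ ∈ fp.ker → k₂ ∈ fp.ker → (k₁ * k₂ ∈ N ↔ (k₁ ∈ N ↔ k₂ ∈ N)) := by
    intro k₁ k₂ h1 h2
    have h := Subgroup.mul_mem_iff_of_index_two (H := N.subgroupOf fp.ker) hidx
      (a := ⟨k₁, h1⟩) (b := ⟨k₂, h2⟩)
    simpa [Subgroup.mem_subgroupOf] using h
  have hxfK : x ^ f ∈ fp.ker := (pow_mem_ker_iff fp f hf hC x hx f).2 dvd_rfl
  refine ⟨⟨⟨(x : A ⧸ N), fun y => ?_⟩⟩, ?_⟩
  · induction y using QuotientGroup.induction_on with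
    | H a =>
      obtain ⟨n, hn⟩ := hx (fp a)
      have hk : a * (x ^ n)⁻¹ ∈ fp.ker := by
        rw [MonoidHom.mem_ker, map_mul, map_inv, map_pow, hn, mul_inv_cancel]
      by_cases hkN : a * (x ^ n)⁻¹ ∈ N
      · refine ⟨(n : ℤ), ?_⟩
        show (x : A ⧸ N) ^ (n : ℤ) = (a : A ⧸ N)
        rw [zpow_natCast, ← QuotientGroup.mk_pow]
        symm
        rw [QuotientGroup.eq]
        exact inv_mul_mem_of_mul_inv_mem N hkN
      · have h1 : a * (x ^ n)⁻¹ * (x ^ f)⁻¹ ∈ N := by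
          rw [hmul _ _ hk (fp.ker.inv_mem hxfK)]
          constructor
          · intro h; exact absurd h hkN
          · intro h
            exact absurd (by simpa using N.inv_mem h) hxf
        refine ⟨((f + n : ℕ) : ℤ), ?_⟩
        show (x : A ⧸ N) ^ ((f + n : ℕ) : ℤ) = (a : A ⧸ N)
        rw [zpow_natCast, ← QuotientGroup.mk_pow]
        symm
        rw [QuotientGroup.eq]
        have e : a * (x ^ n)⁻¹ * (x ^ f)⁻¹ = a * (x ^ (f + n))⁻¹ := by
          rw [pow_add]; group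
        rw [e] at h1
        exact inv_mul_mem_of_mul_inv_mem N h1
  · rw [card_quot_eq N fp hsurj hN, hidx, hC]

end basic

section klein
variable {A C : Type*} [Group A] [Finite A] [Group C]

theorem klein_sq (v : Multiplicative (ZMod 2 × ZMod 2)) : v * v = 1 := by
  revert v; decide

theorem klein_exists_third (u : Multiplicative (ZMod 2 × ZMod 2)) (hu : u ≠ 1) :
    ∃ v : Multiplicative (ZMod 2 × ZMod 2), v ≠ 1 ∧ v ≠ u := by
  revert u; decide

theorem klein_exists_ne_one : ∃ v : Multiplicative (ZMod 2 × ZMod 2), v ≠ 1 := by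
  decide

/-- core case: the `f`-th power of the lift of the generator is not in `N` -/
theorem out_equiv_klein_core (N : Subgroup A) [hNn : N.Normal]
    (fp : A →* C) (hsurj : Function.Surjective fp) (hN : N ≤ fp.ker)
    (φ : ↥fp.ker →* Multiplicative (ZMod 2 × ZMod 2)) (hφs : Function.Surjective φ)
    (hφk : φ.ker = N.subgroupOf fp.ker)
    (hcen : ∀ (a k : A), k ∈ fp.ker → a * k * a⁻¹ * k⁻¹ ∈ N)
    (f : ℕ) (hf : 1 ≤ f) (hC : Nat.card C = f) (x : A) (hx : ∀ c : C, ∃ n : ℕ, c = (fp x) ^ n)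
    (hxf : x ^ f ∉ N) :
    Nonempty (A ⧸ N ≃* Multiplicative (ZMod 2 × ZMod (2 * f))) := by
  classical
  have hmemN : ∀ (k : A) (hk : k ∈ fp.ker), k ∈ N ↔ φ ⟨k, hk⟩ = 1 := by
    intro k hk
    rw [← MonoidHom.mem_ker, hφk, Subgroup.mem_subgroupOf]
  have hsq : ∀ k : A, k ∈ fp.ker → k * k ∈ N := by
    intro k hk
    rw [hmemN _ (fp.ker.mul_mem hk hk)]
    have : (⟨k * k, fp.ker.mul_mem hk hk⟩ : ↥fp.ker) = ⟨k, hk⟩ * ⟨k, hk⟩ := rfl
    rw [this, map_mul, klein_sq]
  have hcentral : ∀ (a k : A), k ∈ fp.ker → (a : A ⧸ N) * (k : A ⧸ N) = (k : A ⧸ N) * (a : A ⧸ N) := by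
    intro a k hk
    have h1 := hcen a k hk
    rw [← QuotientGroup.mk_mul, ← QuotientGroup.mk_mul]
    symm
    rw [QuotientGroup.eq]
    have h3 := hNn.conj_mem _ h1 (k * a)⁻¹
    have e : (k * a)⁻¹ * (a * k * a⁻¹ * k⁻¹) * (k * a)⁻¹⁻¹ = (k * a)⁻¹ * (a * k) := by group
    rwa [e] at h3
  have hxfK : x ^ f ∈ fp.ker := (pow_mem_ker_iff fp f hf hC x hx f).2 dvd_rfl
  -- the generator of the cyclic part
  set z : A ⧸ N := (x : A ⧸ N) with hz
  set w : A ⧸ N := z ^ f with hw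
  have hw1 : w ≠ 1 := by
    rw [hw, hz, ← QuotientGroup.mk_pow]
    intro h
    exact hxf ((QuotientGroup.eq_one_iff _).1 h)
  have hww : w * w = 1 := by
    rw [hw, hz, ← QuotientGroup.mk_pow, ← QuotientGroup.mk_mul]
    exact (QuotientGroup.eq_one_iff _).2 (hsq _ hxfK)
  have hz2f : z ^ (2 * f) = 1 := by
    rw [two_mul, pow_add]
    exact hww
  have hfdvd : ∀ n : ℕ, z ^ n = 1 → f ∣ n := by
    intro n hn
    rw [hz, ← QuotientGroup.mk_pow] at hn
    exact (pow_mem_ker_iff fp f hf hC x hx n).1 (hN ((QuotientGroup.eq_one_iff _).1 hn))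
  have hordz : orderOf z = 2 * f := by
    have h1 : orderOf z ∣ 2 * f := orderOf_dvd_of_pow_eq_one hz2f
    have h2 : f ∣ orderOf z := hfdvd _ (pow_orderOf_eq_one z)
    obtain ⟨j, hj⟩ := h2
    rw [hj, mul_comm 2 f] at h1
    have h3 : j ∣ 2 := Nat.dvd_of_mul_dvd_mul_left (by omega) h1
    have h4 : j = 1 ∨ j = 2 := by
      have := Nat.le_of_dvd (by norm_num) h3
      interval_cases j
      · simp at h3
      · left; rfl
      · right; rfl
    rcases h4 with rfl | rfl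
    · exfalso
      rw [mul_one] at hj
      apply hw1
      rw [hw, ← hj]
      exact pow_orderOf_eq_one z
    · rw [hj, mul_comm]
  -- the extra involution
  have hφx : φ ⟨x ^ f, hxfK⟩ ≠ 1 := by
    intro h
    exact hxf ((hmemN _ hxfK).2 h)
  obtain ⟨v, hv1, hvx⟩ := klein_exists_third _ hφx
  obtain ⟨k₂, hk₂⟩ := hφs v
  set e : A ⧸ N := ((k₂ : A) : A ⧸ N) with he
  have he1 : e ≠ 1 := by
    intro h
    apply hv1
    rw [← hk₂]
    exact (hmemN _ k₂.2).1 ((QuotientGroup.eq_one_iff _).1 h)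
  have hee : e * e = 1 := by
    rw [he, ← QuotientGroup.mk_mul]
    exact (QuotientGroup.eq_one_iff _).2 (hsq _ k₂.2)
  have hew : e ≠ w := by
    intro h
    apply hvx
    rw [he, hw, hz, ← QuotientGroup.mk_pow, QuotientGroup.eq] at h
    have h1 : (k₂ : A)⁻¹ * x ^ f ∈ fp.ker := fp.ker.mul_mem (fp.ker.inv_mem k₂.2) hxfK
    have h2 := (hmemN _ h1).1 h
    have h3 : (⟨(k₂ : A)⁻¹ * x ^ f, h1⟩ : ↥fp.ker) = k₂⁻¹ * ⟨x ^ f, hxfK⟩ := rfl
    rw [h3, map_mul, map_inv, hk₂, inv_mul_eq_one] at h2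
    exact h2
  have horde : orderOf e = 2 := by
    apply orderOf_eq_prime
    · rw [pow_two]; exact hee
    · exact he1
  have hcomm : Commute e z := by
    show e * z = z * e
    rw [he, hz]
    exact (hcentral x k₂ k₂.2).symm
  -- trivial intersection
  have hdisj : ∀ g : A ⧸ N, g ∈ Subgroup.zpowers e → g ∈ Subgroup.zpowers z → g = 1 := by
    intro g hge hgz
    have hge' : g = 1 ∨ g = e := by
      rw [← mem_powers_iff_mem_zpowers, Submonoid.mem_powers_iff] at hge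
      obtain ⟨n, rfl⟩ := hge
      rcases Nat.even_or_odd' n with ⟨j, rfl | rfl⟩
      · left
        rw [pow_mul, pow_two, hee, one_pow]
      · right
        rw [pow_succ, pow_mul, pow_two, hee, one_pow, one_mul]
    rcases hge' with rfl | rfl
    · rfl
    · exfalso
      rw [← mem_powers_iff_mem_zpowers, Submonoid.mem_powers_iff] at hgz
      obtain ⟨n, hn⟩ := hgz
      have h1 : (k₂ : A)⁻¹ * x ^ n ∈ N := by
        rw [← QuotientGroup.eq, QuotientGroup.mk_pow]
        exact hn.symm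
      have h2 : x ^ n ∈ fp.ker := by
        have := fp.ker.mul_mem k₂.2 (hN h1)
        rwa [mul_inv_cancel_left] at this
      obtain ⟨j, rfl⟩ := (pow_mem_ker_iff fp f hf hC x hx n).1 h2
      rw [pow_mul] at hn
      change w ^ j = e at hn
      rcases Nat.even_or_odd' j with ⟨i, rfl | rfl⟩
      · rw [pow_mul, pow_two, hww, one_pow] at hn
        exact he1 hn.symm
      · rw [pow_succ, pow_mul, pow_two, hww, one_pow, one_mul] at hn
        exact hew hn.symm
  -- the product map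
  have hcomm' : ∀ (u : ↥(Subgroup.zpowers e)) (t : ↥(Subgroup.zpowers z)),
      Commute ((Subgroup.zpowers e).subtype u) ((Subgroup.zpowers z).subtype t) := by
    intro u t
    obtain ⟨i, hi⟩ := Subgroup.mem_zpowers_iff.1 u.2
    obtain ⟨j, hj⟩ := Subgroup.mem_zpowers_iff.1 t.2
    show Commute (u : A ⧸ N) (t : A ⧸ N)
    rw [← hi, ← hj]
    exact (hcomm.zpow_left i).zpow_right j
  set Ψ := MonoidHom.noncommCoprod (Subgroup.zpowers e).subtype (Subgroup.zpowers z).subtype hcomm'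
    with hΨ
  have hinj : Function.Injective Ψ := by
    rw [injective_iff_map_eq_one]
    rintro ⟨u, t⟩ hut
    have h1 : (u : A ⧸ N) * (t : A ⧸ N) = 1 := hut
    have h2 : (u : A ⧸ N) = (t : A ⧸ N)⁻¹ := eq_inv_of_mul_eq_one_left h1
    have h3 : (u : A ⧸ N) = 1 := hdisj _ u.2 (by rw [h2]; exact (Subgroup.zpowers z).inv_mem t.2)
    have h4 : (t : A ⧸ N) = 1 := by
      rw [h3, one_mul] at h1
      exact h1
    exact Prod.ext (Subtype.ext h3) (Subtype.ext h4)
  have hcardG : Nat.card (A ⧸ N) = 4 * f := by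
    rw [card_quot_eq N fp hsurj hN, hC]
    congr 1
    have h1 : N.relIndex fp.ker = Nat.card (↥fp.ker ⧸ N.subgroupOf fp.ker) := rfl
    rw [h1, ← hφk, Nat.card_congr (QuotientGroup.quotientKerEquivOfSurjective φ hφs).toEquiv]
    rw [Nat.card_eq_fintype_card]
    rfl
  have hcard : Nat.card (↥(Subgroup.zpowers e) × ↥(Subgroup.zpowers z)) = Nat.card (A ⧸ N) := by
    rw [Nat.card_prod, Nat.card_zpowers, Nat.card_zpowers, horde, hordz, hcardG]
    ring
  have hbij : Function.Bijective Ψ :=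
    (Nat.bijective_iff_injective_and_card Ψ).2 ⟨hinj, hcard⟩
  have e₁ := (zmodCyclicMulEquiv (inferInstance : IsCyclic ↥(Subgroup.zpowers e))).symm
  rw [Nat.card_zpowers, horde] at e₁
  have e₂ := (zmodCyclicMulEquiv (inferInstance : IsCyclic ↥(Subgroup.zpowers z))).symm
  rw [Nat.card_zpowers, hordz] at e₂
  exact ⟨(MulEquiv.ofBijective Ψ hbij).symm.trans ((e₁.prodCongr e₂).trans
    (MulEquiv.prodMultiplicative (ZMod 2) (ZMod (2 * f))).symm)⟩

/-- an extension of the Klein four group (central) by a cyclic group of order `f`, half split -/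
theorem out_equiv_klein (N : Subgroup A) [hNn : N.Normal]
    (fp : A →* C) (hsurj : Function.Surjective fp) (K : Subgroup A) (hK : fp.ker = K)
    (hN : N ≤ K)
    (φ : ↥K →* Multiplicative (ZMod 2 × ZMod 2)) (hφs : Function.Surjective φ)
    (hφk : φ.ker = N.subgroupOf K)
    (hcen : ∀ (a k : A), k ∈ K → a * k * a⁻¹ * k⁻¹ ∈ N)
    (f : ℕ) (hf : 1 ≤ f) (hC : Nat.card C = f) (x : A) (hx : ∀ c : C, ∃ n : ℕ, c = (fp x) ^ n)
    (hxf : Even f → x ^ f ∉ N) :
    Nonempty (A ⧸ N ≃* Multiplicative (ZMod 2 × ZMod (2 * f))) := by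
  subst hK
  by_cases h : x ^ f ∈ N
  · have hodd : Odd f := by
      rcases Nat.even_or_odd f with he | ho
      · exact absurd h (hxf he)
      · exact ho
    obtain ⟨v, hv⟩ := klein_exists_ne_one
    obtain ⟨k₁, hk₁⟩ := hφs v
    have hk₁N : (k₁ : A) ∉ N := by
      intro hmem
      apply hv
      rw [← hk₁, ← MonoidHom.mem_ker, hφk, Subgroup.mem_subgroupOf]
      exact hmem
    have hfy : fp ((k₁ : A) * x) = fp x := by
      rw [map_mul, (MonoidHom.mem_ker).1 k₁.2, one_mul]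
    apply out_equiv_klein_core N fp hsurj hN φ hφs hφk hcen f hf hC ((k₁ : A) * x)
    · rw [hfy]; exact hx
    · intro hmem
      have h1 : (((k₁ : A) * x : A) : A ⧸ N) ^ f = 1 := by
        rw [← QuotientGroup.mk_pow]
        exact (QuotientGroup.eq_one_iff _).2 hmem
      have hcomm : Commute (((k₁ : A) : A) : A ⧸ N) ((x : A) : A ⧸ N) := by
        show ((k₁ : A) : A ⧸ N) * (x : A ⧸ N) = (x : A ⧸ N) * ((k₁ : A) : A ⧸ N)
        have h1 := hcen x k₁ k₁.2
        rw [← QuotientGroup.mk_mul, ← QuotientGroup.mk_mul, QuotientGroup.eq]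
        have h3 := hNn.conj_mem _ h1 (k₁ * x)⁻¹
        have e : ((k₁ : A) * x)⁻¹ * (x * k₁ * x⁻¹ * (k₁ : A)⁻¹) * ((k₁ : A) * x)⁻¹⁻¹ =
            ((k₁ : A) * x)⁻¹ * (x * k₁) := by group
        rwa [e] at h3
      rw [QuotientGroup.mk_mul, hcomm.mul_pow, ← QuotientGroup.mk_pow (N := N) x f,
        (QuotientGroup.eq_one_iff _).2 h, mul_one] at h1
      have hkk : (((k₁ : A) : A) : A ⧸ N) * ((k₁ : A) : A ⧸ N) = 1 := by
        rw [← QuotientGroup.mk_mul]
        apply (QuotientGroup.eq_one_iff _).2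
        have h2 : (k₁ * k₁ : ↥fp.ker) ∈ φ.ker := by
          rw [MonoidHom.mem_ker, map_mul, klein_sq]
        rw [hφk, Subgroup.mem_subgroupOf] at h2
        exact h2
      obtain ⟨j, rfl⟩ := hodd
      rw [pow_succ, pow_mul, pow_two, hkk, one_pow, one_mul] at h1
      exact hk₁N ((QuotientGroup.eq_one_iff _).1 h1)
  · exact out_equiv_klein_core N fp hsurj hN φ hφs hφk hcen f hf hC x hx h

end klein

end Cfsg.Agent.Lib.Helper36.AutO
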