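import Mathlib
import Cfsg.Agent.Lib.Helper36.AutO.OutMinusOdd
import Cfsg.Agent.Lib.Helper36.AutO.OutExt
import Cfsg.Agent.Lib.Helper36.AutO.OutExt2
import Cfsg.Agent.Lib.Helper36.AutO.RingAutCard
import Cfsg.Agent.Lib.Helper36.MinusFormNondeg
import Cfsg.Agent.S2696
import Cfsg.Agent.S2727
import Cfsg.Agent.S2728

set_option autoImplicit false
set_option linter.unusedSimpArgs false
set_option linter.unusedVariables false
set_option linter.unusedSectionVars false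

/-!
# `Out PΩ⁻_{2m+2}(q)` for odd `q`
-/

namespace Cfsg.Agent.Lib.Helper36.AutO

open Cfsg.Agent.Lib.Helper13 hiding isoGroup mem_isoGroup
open Cfsg.Agent.Lib.Helper36 Cfsg.Agent.Lib.Helper44 Module Matrix

theorem odd_of_pow_mod_four {p f : ℕ} (hp : Odd p) (h : p ^ f % 4 = 3) : Odd f := by
  rcases Nat.even_or_odd f with ⟨j, hj⟩ | ho
  · exfalso
    rw [hj, pow_add] at h
    have hodd : Odd (p ^ j) := hp.pow
    have h1 : p ^ j % 4 = 1 ∨ p ^ j % 4 = 3 := by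
      rcases hodd with ⟨r, hr⟩
      omega
    rcases h1 with h1 | h1
    · rw [Nat.mul_mod, h1] at h
      omega
    · rw [Nat.mul_mod, h1] at h
      omega
  · exact ho

set_option maxHeartbeats 1600000 in
theorem out_minus_odd {F : Type*} [Field F] [Fintype F] {p f m : ℕ} [Fact p.Prime] (hf : 1 ≤ f)
    (hF : Fintype.card F = p ^ f) (hp : p ≠ 2) (hm : 3 ≤ m) (a b : F)
    (hab : ∀ z₁ z₂ : F, z₁ ^ 2 + a * z₁ * z₂ + b * z₂ ^ 2 = 0 → z₁ = 0 ∧ z₂ = 0) :
    if Even m ∧ p ^ f % 4 = 3 then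
      Nonempty (Cfsg.Out (Cfsg.POmega F (Cfsg.quadFormMinus m F a b)) ≃*
        DihedralGroup 4 × Multiplicative (ZMod f))
    else
      Nonempty (Cfsg.Out (Cfsg.POmega F (Cfsg.quadFormMinus m F a b)) ≃*
        Multiplicative (ZMod 2 × ZMod (2 * f))) := by
  classical
  have hchar : CharP F p := charP_of_card_pow hf hF
  have hpodd : Odd p := (Fact.out : p.Prime).odd_of_ne_two hp
  have hoddF : Odd (Fintype.card F) := by rw [hF]; exact hpodd.pow
  have h2 : (2 : F) ≠ 0 := two_ne_zero_of_char p hp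
  have hcard : Fintype.card ((Fin m ⊕ Fin m) ⊕ Fin 2) = 2 * (m + 1) := by
    rw [Fintype.card_sum, Fintype.card_sum, Fintype.card_fin, Fintype.card_fin]; ring
  have h7 : 7 ≤ Fintype.card ((Fin m ⊕ Fin m) ⊕ Fin 2) := by rw [hcard]; omega
  have hQ := minusQF_nondeg_of_aniso m a b hab
  have htop := Cfsg.Agent.S2696.result (F := F) hm a b hab
  have h27 := Cfsg.Agent.S2727.result hoddF hm a b hab
  have h28 := Cfsg.Agent.S2728.result hoddF hm a b hab
  have hns := disc_not_isSquare h2 a b hab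
  have hd : a ^ 2 - 4 * b ≠ 0 := fun h0 => hns (by rw [h0]; exact IsSquare.zero)
  have hp1 := frob_pair_odd p m a b hp hd
  rw [← minusQF_coe] at htop h27 h28 hp1 ⊢
  set Q := minusQF m F a b with hQdef
  set t₀ : F := (a ^ p - a * (a ^ 2 - 4 * b) ^ ((p - 1) / 2)) / 2 with ht₀
  set s₀ : Fˣ := Units.mk0 ((a ^ 2 - 4 * b) ^ ((p - 1) / 2)) (pow_ne_zero _ hd) with hs₀
  set x := pairAut (⇑Q) (blkGL (utGL t₀ s₀)) (frobE F p) hp1.isPair with hxdef
  have hfx : fieldPart Q hQ h7 htop x = frobE F p :=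
    fieldPart_pairAut Q hQ h7 htop _ _ hp1.isPair
  have hx : ∀ c : RingAut F, ∃ n : ℕ, c = (fieldPart Q hQ h7 htop x) ^ n := by
    intro c
    rw [hfx]
    exact ringAut_eq_frobE_pow p c
  have hsurj : Function.Surjective (fieldPart Q hQ h7 htop) := by
    intro c
    obtain ⟨n, hn⟩ := hx c
    exact ⟨x ^ n, by rw [map_pow, ← hn]⟩
  have hker := ker_fieldPart Q hQ h7 htop
  have hN : Cfsg.Inn (Cfsg.POmega F (⇑Q)) ≤ Cfsg.pgoAut F (⇑Q) :=
    le_trans (Inn_le_psoAut (⇑Q)) (psoAut_le_pgoAut (⇑Q))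
  have hC : Nat.card (RingAut F) = f := card_ringAut_eq hf hF
  have hfin : Finite (MulAut (Cfsg.POmega F (⇑Q))) :=
    Finite.of_injective
      (fun e : MulAut (Cfsg.POmega F (⇑Q)) => (e : Cfsg.POmega F (⇑Q) → Cfsg.POmega F (⇑Q)))
      DFunLike.coe_injective
  split_ifs with hc
  · obtain ⟨φ, hφs, hφk⟩ := h28.1 ⟨hc.1, by rw [hF]; exact hc.2⟩
    have hfodd : Odd f := odd_of_pow_mod_four hpodd hc.2
    obtain ⟨eC⟩ := ringAut_equiv_zmod (F := F) hf hF
    exact out_equiv_dihedral (Cfsg.Inn (Cfsg.POmega F (⇑Q))) (fieldPart Q hQ h7 htop) hsurj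
      (Cfsg.pgoAut F (⇑Q)) hker hN φ hφs hφk f hfodd eC
  · have hc' : ¬ (Even m ∧ Fintype.card F % 4 = 3) := by rw [hF]; exact hc
    obtain ⟨φ, hφs, hφk⟩ := h28.2 hc'
    have heq := Inn_eq_psoAut_of_relIndex _ (h27.2 hc')
    apply out_equiv_klein (Cfsg.Inn (Cfsg.POmega F (⇑Q))) (fieldPart Q hQ h7 htop) hsurj
      (Cfsg.pgoAut F (⇑Q)) hker hN φ hφs hφk ?_ f hf hC x hx ?_
    · intro α k hk
      rw [heq]
      exact comm_mem_psoAut Q hQ h2 h7 (m + 1) hcard htop α k hk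
    · intro _
      rw [heq]
      obtain ⟨hiso, hpow⟩ := pow_eq_simAut (⇑Q) (frobE F p) t₀ s₀ hp1 f (frobE_pow_card p hF)
      rw [hpow]
      apply simAut_not_mem_psoAut_of_det Q hQ h2 (by omega) (m + 1) hcard _ hiso
      rw [det_blkGL, det_utGL]
      exact utPow_snd_eq_neg_one p hp hF _ hd hns t₀

end Cfsg.Agent.Lib.Helper36.AutO
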