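import Mathlib
import Cfsg.Agent.Lib.Helper36.AutO.MinusFrob

set_option autoImplicit false
set_option linter.unusedSimpArgs false
set_option linter.unusedVariables false
set_option linter.unusedSectionVars false

/-!
# Artin–Schreier over `𝔽₂`, and the Frobenius pair of the minus-type form in characteristic two
-/

namespace Cfsg.Agent.Lib.Helper36.AutO

open Cfsg.Agent.Lib.Helper36 Matrix

section AS
open Finset Polynomial
variable {F : Type*} [Field F] [Fintype F] [CharP F 2]

/-- the absolute trace, as a sum of iterated squares -/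
def trTwo (f : ℕ) (y : F) : F := ∑ i ∈ Finset.range f, y ^ (2 ^ i)

theorem trTwo_add (f : ℕ) (u v : F) : trTwo f (u + v) = trTwo f u + trTwo f v := by
  unfold trTwo
  rw [← Finset.sum_add_distrib]
  apply Finset.sum_congr rfl
  intro i _
  exact add_pow_char_pow u v 2 i

theorem trTwo_sq {f : ℕ} (hF : Fintype.card F = 2 ^ f) (y : F) : trTwo f (y ^ 2) = trTwo f y := by
  unfold trTwo
  have h1 : ∑ i ∈ Finset.range f, (y ^ 2) ^ (2 ^ i) = ∑ i ∈ Finset.range f, y ^ (2 ^ (i + 1)) := by
    apply Finset.sum_congr rfl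
    intro i _
    rw [← pow_mul, pow_succ, mul_comm]
  have h2 := Finset.sum_range_succ' (fun i => y ^ (2 ^ i)) f
  have h3 := Finset.sum_range_succ (fun i => y ^ (2 ^ i)) f
  have h4 : y ^ (2 ^ f) = y := by rw [← hF, FiniteField.pow_card]
  rw [h1]
  have h5 : ∑ i ∈ Finset.range f, y ^ (2 ^ (i + 1)) + y ^ (2 ^ 0) =
      ∑ i ∈ Finset.range f, y ^ (2 ^ i) + y ^ (2 ^ f) := by
    rw [← h2, ← h3]
  rw [h4, pow_zero, pow_one] at h5
  exact add_right_cancel h5

theorem trTwo_wp {f : ℕ} (hF : Fintype.card F = 2 ^ f) (y : F) : trTwo f (y ^ 2 + y) = 0 := by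
  rw [trTwo_add, trTwo_sq hF]
  exact CharTwo.add_self_eq_zero _

theorem card_trTwo_zero_le (f : ℕ) (hf : 1 ≤ f) [DecidableEq F] :
    (Finset.univ.filter (fun z : F => trTwo f z = 0)).card ≤ 2 ^ (f - 1) := by
  set P : F[X] := ∑ i ∈ Finset.range f, (X : F[X]) ^ (2 ^ i) with hP
  have hP0 : P ≠ 0 := by
    intro h0
    have h1 : P.coeff 1 = 1 := by
      rw [hP, Polynomial.finsetSum_coeff]
      have : ∀ i ∈ Finset.range f, ((X : F[X]) ^ (2 ^ i)).coeff 1 = if i = 0 then 1 else 0 := by
        intro i _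
        rw [Polynomial.coeff_X_pow]
        by_cases hi : i = 0
        · subst hi; simp
        · rw [if_neg hi, if_neg]
          intro h
          have : 2 ≤ 2 ^ i := by
            calc 2 = 2 ^ 1 := by norm_num
              _ ≤ 2 ^ i := Nat.pow_le_pow_right (by norm_num) (by omega)
          omega
      rw [Finset.sum_congr rfl this, Finset.sum_ite_eq' (Finset.range f) 0]
      rw [if_pos (Finset.mem_range.2 (by omega))]
    rw [h0, Polynomial.coeff_zero] at h1
    exact zero_ne_one h1
  have hdeg : P.natDegree ≤ 2 ^ (f - 1) := by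
    rw [hP]
    apply Polynomial.natDegree_sum_le_of_forall_le
    intro i hi
    rw [Polynomial.natDegree_X_pow]
    exact Nat.pow_le_pow_right (by norm_num) (by have := Finset.mem_range.1 hi; omega)
  have hsub : (Finset.univ.filter (fun z : F => trTwo f z = 0)) ⊆ P.roots.toFinset := by
    intro z hz
    rw [Finset.mem_filter] at hz
    rw [Multiset.mem_toFinset, Polynomial.mem_roots hP0, Polynomial.IsRoot, hP,
      Polynomial.eval_finsetSum]
    simp only [Polynomial.eval_pow, Polynomial.eval_X]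
    exact hz.2
  calc (Finset.univ.filter (fun z : F => trTwo f z = 0)).card
      ≤ P.roots.toFinset.card := Finset.card_le_card hsub
    _ ≤ Multiset.card P.roots := Multiset.toFinset_card_le _
    _ ≤ P.natDegree := Polynomial.card_roots' P
    _ ≤ 2 ^ (f - 1) := hdeg

/-- **Artin–Schreier** for the prime field of two elements: an element of trace zero is of the
form `y² + y` -/
theorem exists_sq_add_self_eq {f : ℕ} (hF : Fintype.card F = 2 ^ f) (hf : 1 ≤ f) (c : F)
    (hc : trTwo f c = 0) : ∃ y : F, y ^ 2 + y = c := by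
  classical
  set S : Finset F := Finset.univ.image (fun y : F => y ^ 2 + y) with hS
  set Z : Finset F := Finset.univ.filter (fun z : F => trTwo f z = 0) with hZ
  have hSZ : S ⊆ Z := by
    intro z hz
    rw [hS, Finset.mem_image] at hz
    obtain ⟨y, -, rfl⟩ := hz
    rw [hZ, Finset.mem_filter]
    exact ⟨Finset.mem_univ _, trTwo_wp hF y⟩
  have hfib : ∀ a ∈ Finset.univ.image (fun y : F => y ^ 2 + y),
      (Finset.univ.filter (fun x : F => x ^ 2 + x = a)).card ≤ 2 := by
    intro a ha
    rw [Finset.mem_image] at ha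
    obtain ⟨x₀, -, rfl⟩ := ha
    have hsub : (Finset.univ.filter (fun x : F => x ^ 2 + x = x₀ ^ 2 + x₀)) ⊆ {x₀, x₀ + 1} := by
      intro x hx
      rw [Finset.mem_filter] at hx
      have h1 : (x + x₀) * (x + x₀ + 1) = 0 := by
        have h2 : (x + x₀) * (x + x₀ + 1) = (x ^ 2 + x) + (x₀ ^ 2 + x₀) + 2 * (x * x₀) := by ring
        have h20 : (2 : F) = 0 := CharTwo.two_eq_zero
        rw [h2, hx.2]
        linear_combination (x * x₀ + x₀ ^ 2 + x₀) * h20
      rw [Finset.mem_insert, Finset.mem_singleton]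
      rcases mul_eq_zero.1 h1 with h3 | h3
      · left
        have := CharTwo.add_eq_zero.1 h3
        exact this
      · right
        have h4 : x + (x₀ + 1) = 0 := by rw [← add_assoc]; exact h3
        exact CharTwo.add_eq_zero.1 h4
    exact le_trans (Finset.card_le_card hsub) Finset.card_le_two
  have h1 : (Finset.univ : Finset F).card ≤ 2 * S.card :=
    Finset.card_le_mul_card_image Finset.univ 2 hfib
  rw [Finset.card_univ, hF] at h1
  have h2 : Z.card ≤ 2 ^ (f - 1) := card_trTwo_zero_le f hf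
  have h3 : 2 ^ f = 2 * 2 ^ (f - 1) := by
    rw [← pow_succ']
    congr 1
    omega
  have h4 : Z.card ≤ S.card := by omega
  have h5 : S = Z := Finset.eq_of_subset_of_card_le hSZ h4
  have h6 : c ∈ Z := by
    rw [hZ, Finset.mem_filter]
    exact ⟨Finset.mem_univ _, hc⟩
  rw [← h5, hS, Finset.mem_image] at h6
  obtain ⟨y, -, hy⟩ := h6
  exact ⟨y, hy⟩

end AS

section two
variable {F : Type*} [Field F] [Fintype F] [CharP F 2] (m : ℕ) (a b : F)

/-- the Frobenius pair for the minus-type form, characteristic two -/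
theorem frob_pair_two (ha : a ≠ 0) :
    IsPairOne (Cfsg.quadFormMinus m F a b)
      (blkGL (utGL b (Units.mk0 a ha)) : GL ((Fin m ⊕ Fin m) ⊕ Fin 2) F) (frobE F 2) := by
  have h20 : (2 : F) = 0 := CharTwo.two_eq_zero
  apply isPairOne_blk
  intro w
  apply binF_utGL
  · rw [Units.val_mk0, frobE_apply]
    linear_combination b * h20
  · rw [Units.val_mk0, frobE_apply]
    linear_combination (a ^ 2 * b) * h20

theorem utPow_snd_two (ha : a ≠ 0) (k : ℕ) :
    ((utPow (frobE F 2) b (Units.mk0 a ha) k).2 : F) = a ^ (2 ^ k - 1) := by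
  induction k with
  | zero => simp [utPow_zero]
  | succ k ih =>
    rw [utPow_succ]
    simp only
    rw [Units.val_mul, Units.val_mk0, Units.coe_map, MonoidHom.coe_coe, ih]
    change _ * (frobE F 2) _ = _
    rw [frobE_apply, ← pow_mul, ← pow_succ']
    congr 1
    have : 1 ≤ 2 ^ k := Nat.one_le_two_pow
    rw [pow_succ 2 k]
    omega

theorem utPow_fst_two (ha : a ≠ 0) (k : ℕ) :
    (utPow (frobE F 2) b (Units.mk0 a ha) k).1 = a ^ (2 ^ k) * trTwo k (b / a ^ 2) := by
  induction k with
  | zero => simp [utPow_zero, trTwo]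
  | succ k ih =>
    rw [utPow_succ]
    simp only
    rw [ih, utPow_snd_two, frobE_apply, frobE_apply]
    unfold trTwo
    rw [Finset.sum_range_succ' (fun i => (b / a ^ 2) ^ (2 ^ i)) k, mul_pow, sum_pow_char]
    have h1 : ∀ i ∈ Finset.range k, ((b / a ^ 2) ^ (2 ^ i)) ^ 2 = (b / a ^ 2) ^ (2 ^ (i + 1)) := by
      intro i _
      rw [← pow_mul, pow_succ 2 i]
    rw [Finset.sum_congr rfl h1]
    have h2 : (a ^ (2 ^ k)) ^ 2 = a ^ (2 ^ (k + 1)) := by rw [← pow_mul, pow_succ 2 k]
    have h3 : (a ^ (2 ^ k - 1)) ^ 2 * a ^ 2 = a ^ (2 ^ (k + 1)) := by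
      rw [← pow_mul, ← pow_add]
      congr 1
      have : 1 ≤ 2 ^ k := Nat.one_le_two_pow
      rw [pow_succ 2 k]
      omega
    rw [h2, pow_zero, pow_one, mul_add]
    congr 1
    rw [← h3]
    field_simp

/-- the `f`-th twisted power is the transvection `[[1, a · Tr(b/a²)], [0, 1]]` -/
theorem utPow_two_card (ha : a ≠ 0) {f : ℕ} (hF : Fintype.card F = 2 ^ f) :
    utPow (frobE F 2) b (Units.mk0 a ha) f = (a * trTwo f (b / a ^ 2), 1) := by
  apply Prod.ext
  · rw [utPow_fst_two, ← hF, FiniteField.pow_card]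
  · apply Units.ext
    rw [utPow_snd_two, ← hF, FiniteField.pow_card_sub_one_eq_one a ha, Units.val_one]

/-- anisotropy of the binary form forces `a ≠ 0` and nonzero trace of `b / a²` -/
theorem aniso_two {f : ℕ} (hF : Fintype.card F = 2 ^ f) (hf : 1 ≤ f)
    (hab : ∀ z₁ z₂ : F, z₁ ^ 2 + a * z₁ * z₂ + b * z₂ ^ 2 = 0 → z₁ = 0 ∧ z₂ = 0) :
    a ≠ 0 ∧ trTwo f (b / a ^ 2) ≠ 0 := by
  have h20 : (2 : F) = 0 := CharTwo.two_eq_zero
  have ha : a ≠ 0 := by
    rintro rfl
    have hchar : ringChar F = 2 := ringChar.eq F 2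
    obtain ⟨c, hc⟩ := FiniteField.isSquare_of_char_two hchar b
    have := hab c 1 (by rw [hc]; linear_combination (c * c) * h20)
    exact one_ne_zero this.2
  refine ⟨ha, fun htr => ?_⟩
  obtain ⟨y, hy⟩ := exists_sq_add_self_eq hF hf _ htr
  have := hab (a * y) 1 (by
    have h1 : (a * y) ^ 2 + a * (a * y) * 1 + b * 1 ^ 2 = a ^ 2 * (y ^ 2 + y) + b := by ring
    rw [h1, hy]
    field_simp
    linear_combination b * h20)
  exact one_ne_zero this.2

end two

section rank
variable {κ : Type} [Fintype κ] [DecidableEq κ] {F : Type*} [Field F]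

/-- the block transvection minus one has rank one -/
theorem rank_blk_transvection (T : F) (hT : T ≠ 0) :
    (((blkGL (utGL T 1) : GL (κ ⊕ Fin 2) F) : Matrix (κ ⊕ Fin 2) (κ ⊕ Fin 2) F) - 1).rank = 1 := by
  set A : Matrix (κ ⊕ Fin 2) (κ ⊕ Fin 2) F :=
    ((blkGL (utGL T 1) : GL (κ ⊕ Fin 2) F) : Matrix (κ ⊕ Fin 2) (κ ⊕ Fin 2) F) - 1 with hA
  have hA' : A = Matrix.vecMulVec (Pi.single (Sum.inr 0) T) (Pi.single (Sum.inr 1) 1) := by
    rw [hA, blkGL_coe, utGL_coe]
    ext i j
    rcases i with i | i <;> rcases j with j | j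
    · simp [Matrix.vecMulVec_apply, Matrix.one_apply]
    · simp [Matrix.vecMulVec_apply, Matrix.one_apply]
    · simp [Matrix.vecMulVec_apply, Matrix.one_apply]
    · fin_cases i <;> fin_cases j <;> simp [Matrix.vecMulVec_apply, Matrix.one_apply]
  have hle : A.rank ≤ 1 := by
    rw [hA']
    exact Matrix.rank_vecMulVec_le _ _
  have hne : A.rank ≠ 0 := by
    intro h0
    have h1 : LinearMap.range A.mulVecLin = ⊥ := by
      apply Submodule.finrank_eq_zero.1
      exact h0
    have h2 : A *ᵥ (Pi.single (Sum.inr 1) 1) = 0 := by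
      have : A.mulVecLin (Pi.single (Sum.inr 1) 1) ∈ LinearMap.range A.mulVecLin :=
        LinearMap.mem_range_self _ _
      rw [h1, Submodule.mem_bot] at this
      exact this
    have h3 := congrFun h2 (Sum.inr 0)
    rw [Matrix.mulVec_single_one, hA'] at h3
    simp [Matrix.vecMulVec_apply] at h3
    exact hT h3
  omega

end rank

end Cfsg.Agent.Lib.Helper36.AutO
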