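import Mathlib
import Cfsg.Agent.Lib.Helper36.AutO.OutMinusTwo
import Cfsg.Agent.Lib.Helper36.AutO.OutMinusTwo2
import Cfsg.Agent.Lib.Helper36.AutO.OutMinusOdd
import Cfsg.Agent.Lib.Helper36.AutO.OutExt2
import Cfsg.Agent.Lib.Helper36.AutO.RingAutCard
import Cfsg.Agent.S2696

set_option autoImplicit false
set_option linter.unusedSimpArgs false
set_option linter.unusedVariables false
set_option linter.unusedSectionVars false

/-!
# `Out PΩ⁻_{2m+2}(q)` for even `q`: cyclic of order `2f`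
-/

namespace Cfsg.Agent.Lib.Helper36.AutO

open Cfsg.Agent.Lib.Helper13 hiding isoGroup mem_isoGroup
open Cfsg.Agent.Lib.Helper36 Cfsg.Agent.Lib.Helper44 Module Matrix

set_option maxHeartbeats 1600000 in
theorem out_minus_two {F : Type*} [Field F] [Fintype F] {f m : ℕ} (hf : 1 ≤ f)
    (hF : Fintype.card F = 2 ^ f) (hm : 3 ≤ m) (a b : F)
    (hab : ∀ z₁ z₂ : F, z₁ ^ 2 + a * z₁ * z₂ + b * z₂ ^ 2 = 0 → z₁ = 0 ∧ z₂ = 0) :
    IsCyclic (Cfsg.Out (Cfsg.POmega F (Cfsg.quadFormMinus m F a b))) ∧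
      Nat.card (Cfsg.Out (Cfsg.POmega F (Cfsg.quadFormMinus m F a b))) = 2 * f := by
  classical
  have : Fact (Nat.Prime 2) := ⟨Nat.prime_two⟩
  have hchar : CharP F 2 := charP_of_card_pow hf hF
  have h20 : (2 : F) = 0 := CharTwo.two_eq_zero
  obtain ⟨ha, htr⟩ := aniso_two a b hF hf hab
  have hcard : Fintype.card ((Fin m ⊕ Fin m) ⊕ Fin 2) = 2 * (m + 1) := by
    rw [Fintype.card_sum, Fintype.card_sum, Fintype.card_fin, Fintype.card_fin]; ring
  have h7 : 7 ≤ Fintype.card ((Fin m ⊕ Fin m) ⊕ Fin 2) := by rw [hcard]; omega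
  have hQ := minusQF_nondeg_of_aniso m a b hab
  have htop := Cfsg.Agent.S2696.result (F := F) hm a b hab
  have hp1 := frob_pair_two m a b ha
  rw [← minusQF_coe] at htop hp1 ⊢
  set Q := minusQF m F a b with hQdef
  set x := pairAut (⇑Q) (blkGL (utGL b (Units.mk0 a ha))) (frobE F 2) hp1.isPair with hxdef
  have hfx : fieldPart Q hQ h7 htop x = frobE F 2 :=
    fieldPart_pairAut Q hQ h7 htop _ _ hp1.isPair
  have hx : ∀ c : RingAut F, ∃ n : ℕ, c = (fieldPart Q hQ h7 htop x) ^ n := by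
    intro c
    rw [hfx]
    exact ringAut_eq_frobE_pow 2 c
  have hsurj : Function.Surjective (fieldPart Q hQ h7 htop) := by
    intro c
    obtain ⟨n, hn⟩ := hx c
    exact ⟨x ^ n, by rw [map_pow, ← hn]⟩
  have hker := ker_fieldPart Q hQ h7 htop
  have hN : Cfsg.Inn (Cfsg.POmega F (⇑Q)) ≤ (fieldPart Q hQ h7 htop).ker := by
    rw [hker]
    exact le_trans (Inn_le_psoAut (⇑Q)) (psoAut_le_pgoAut (⇑Q))
  have hidx : (Cfsg.Inn (Cfsg.POmega F (⇑Q))).relIndex (fieldPart Q hQ h7 htop).ker = 2 := by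
    rw [hker]
    exact relIndex_Inn_pgoAut_two Q hQ h7 h20
  have hC : Nat.card (RingAut F) = f := card_ringAut_eq hf hF
  have hsq : ∀ c : F, IsSquare c := FiniteField.isSquare_of_char_two (ringChar.eq F 2)
  have hxf : x ^ f ∉ Cfsg.Inn (Cfsg.POmega F (⇑Q)) := by
    obtain ⟨hiso, hpow⟩ := pow_eq_simAut (⇑Q) (frobE F 2) b (Units.mk0 a ha) hp1 f
      (frobE_pow_card 2 hF)
    rw [hpow]
    intro hmem
    have h1 := mem_OmegaGL_of_simAut_mem_Inn Q hQ h7 h20 _ hiso hmem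
    rw [mem_OmegaGL_iff] at h1
    obtain ⟨h', hΩ⟩ := h1
    rw [mem_Omega_iff_even_rank Q hQ (Or.inr (by rw [hcard]; omega)) hsq] at hΩ
    have hΩ' : Even ((((blkGL (utGL (utPow (frobE F 2) b (Units.mk0 a ha) f).1
        (utPow (frobE F 2) b (Units.mk0 a ha) f).2) : GL ((Fin m ⊕ Fin m) ⊕ Fin 2) F) :
        Matrix ((Fin m ⊕ Fin m) ⊕ Fin 2) ((Fin m ⊕ Fin m) ⊕ Fin 2) F)) - 1).rank := hΩ
    rw [utPow_two_card a b ha hF] at hΩ'
    simp only at hΩ'
    rw [rank_blk_transvection _ (mul_ne_zero ha htr)] at hΩ'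
    exact absurd hΩ' (by decide)
  exact out_cyclic_of_gen (Cfsg.Inn (Cfsg.POmega F (⇑Q))) (fieldPart Q hQ h7 htop) hsurj hN hidx
    f hf hC x hx hxf

end Cfsg.Agent.Lib.Helper36.AutO
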